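import Cfsg.Agent.SL2Tor.PSL
import Cfsg.Agent.Lib.LinearGroup.TorusSylow

/-! Element orders in `PSL₂(q)`. -/

set_option autoImplicit false

namespace Cfsg.Agent.SL2Tor

open Matrix

variable {F : Type*} [Field F] [Fintype F]

theorem two_ne_zero_of_gcd (h : Nat.gcd 2 (Fintype.card F - 1) = 2) : (2 : F) ≠ 0 := by
  intro h2
  have hch : ringChar F = 2 := by
    refine CharP.ringChar_of_prime_eq_zero Nat.prime_two ?_
    exact_mod_cast h2
  obtain ⟨n, hn⟩ : 2 ∣ Fintype.card F - 1 := h ▸ Nat.gcd_dvd_right 2 _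
  have := FiniteField.even_card_of_char_two hch
  have := Fintype.one_lt_card (α := F)
  omega

theorem gcd_two_cases (n : ℕ) : Nat.gcd 2 n = 1 ∨ Nat.gcd 2 n = 2 :=
  (Nat.dvd_prime Nat.prime_two).1 (Nat.gcd_dvd_left 2 n)

theorem psl_pow_div_eq_one (A : Matrix.SpecialLinearGroup (Fin 2) F) {n : ℕ}
    (hn : n = Fintype.card F - 1 ∨ n = Fintype.card F + 1)
    (h : (A : Matrix (Fin 2) (Fin 2) F) ^ n = 1) :
    (QuotientGroup.mk A : Matrix.ProjectiveSpecialLinearGroup (Fin 2) F) ^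
      (n / Nat.gcd 2 (Fintype.card F - 1)) = 1 := by
  rcases gcd_two_cases (Fintype.card F - 1) with hd | hd
  · rw [hd, Nat.div_one]
    exact psl_pow_eq_one_of_eq_smul A n 1 (by rw [h, one_smul])
  · have h2 := two_ne_zero_of_gcd hd
    have hev : 2 * (n / 2) = n := by
      obtain ⟨m, hm⟩ : 2 ∣ Fintype.card F - 1 := hd ▸ Nat.gcd_dvd_right 2 _
      have := Fintype.one_lt_card (α := F)
      omega
    rw [hd, ← QuotientGroup.mk_pow, psl_mk_eq_one_iff]
    have hsq : A ^ (n / 2) * A ^ (n / 2) = 1 := by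
      rw [← pow_add, ← two_mul, hev]
      exact Subtype.ext (by rw [Matrix.SpecialLinearGroup.coe_pow, h, Matrix.SpecialLinearGroup.coe_one])
    by_cases hne : A ^ (n / 2) = 1
    · rw [hne, Matrix.SpecialLinearGroup.coe_one]; simp [IsScalar]
    · rw [show (A ^ (n / 2) : Matrix.SpecialLinearGroup (Fin 2) F).1 = -1 from
        Cfsg.Agent.LinearGroup.eq_neg_one_of_sq_eq_one h2 _ hsq hne]
      simp [IsScalar]

theorem psl_orderOf_dvd (p : ℕ) [Fact p.Prime] [CharP F p]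
    (g : Matrix.ProjectiveSpecialLinearGroup (Fin 2) F) :
    orderOf g ∣ p ∨ orderOf g ∣ (Fintype.card F - 1) / Nat.gcd 2 (Fintype.card F - 1) ∨
      orderOf g ∣ (Fintype.card F + 1) / Nat.gcd 2 (Fintype.card F - 1) := by
  obtain ⟨A, rfl⟩ := QuotientGroup.mk_surjective g
  rcases Cfsg.Agent.Recog71.sl2_pow_cases p A with h | h | h | h
  · exact Or.inr (Or.inl (orderOf_dvd_of_pow_eq_one (psl_pow_div_eq_one A (Or.inl rfl) h)))
  · exact Or.inr (Or.inr (orderOf_dvd_of_pow_eq_one (psl_pow_div_eq_one A (Or.inr rfl) h)))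
  · exact Or.inl (orderOf_dvd_of_pow_eq_one (psl_pow_eq_one_of_eq_smul A p 1 (by rw [h, one_smul])))
  · exact Or.inl (orderOf_dvd_of_pow_eq_one (psl_pow_eq_one_of_eq_smul A p (-1) (by rw [h, neg_one_smul])))

theorem exists_orderOf_eq_of_dvd_orderOf {G : Type*} [Group G] (g : G) (h0 : 0 < orderOf g) {m : ℕ}
    (h : m ∣ orderOf g) : ∃ x : G, orderOf x = m :=
  ⟨g ^ (orderOf g / m), orderOf_pow_orderOf_div h0.ne' h⟩

theorem exists_psl_orderOf_div {n : ℕ} (hn : n = Fintype.card F - 1 ∨ n = Fintype.card F + 1) :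
    ∃ g : Matrix.ProjectiveSpecialLinearGroup (Fin 2) F,
      orderOf g = n / Nat.gcd 2 (Fintype.card F - 1) := by
  have hq := Fintype.one_lt_card (α := F)
  obtain ⟨C, hC, hdvd⟩ := Cfsg.Agent.LinearGroup.exists_cyclic_subgroup (F := F) n (by
    rw [Nat.card_eq_fintype_card]
    rcases hn with e | e
    · exact Or.inl (dvd_of_eq e)
    · exact Or.inr (dvd_of_eq e))
  obtain ⟨y, hy⟩ := hC.exists_ofOrder_eq_natCard
  obtain ⟨⟨x, hxC⟩, hx⟩ := exists_orderOf_eq_of_dvd_orderOf y (by rw [hy]; exact Nat.card_pos)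
    (hy ▸ hdvd)
  rw [Subgroup.orderOf_mk] at hx
  refine ⟨QuotientGroup.mk x, Nat.dvd_antisymm (orderOf_dvd_of_pow_eq_one
    (psl_pow_div_eq_one x hn (by rw [← Matrix.SpecialLinearGroup.coe_pow, ← hx, pow_orderOf_eq_one,
      Matrix.SpecialLinearGroup.coe_one]))) ?_⟩
  have hk : ((QuotientGroup.mk (x ^ orderOf (QuotientGroup.mk x :
      Matrix.ProjectiveSpecialLinearGroup (Fin 2) F))) : Matrix.ProjectiveSpecialLinearGroup (Fin 2) F) = 1 := by
    rw [QuotientGroup.mk_pow, pow_orderOf_eq_one]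
  obtain ⟨k, hkdef⟩ : ∃ k, k = orderOf (QuotientGroup.mk x :
      Matrix.ProjectiveSpecialLinearGroup (Fin 2) F) := ⟨_, rfl⟩
  rw [← hkdef] at hk ⊢
  obtain ⟨r, hr, hr'⟩ := Matrix.SpecialLinearGroup.mem_center_iff.1 ((QuotientGroup.eq_one_iff _).1 hk)
  rw [Fintype.card_fin] at hr
  have hdouble : n ∣ k * 2 := by
    rw [← hx]
    refine orderOf_dvd_of_pow_eq_one ?_
    rw [pow_mul, pow_two]
    apply Subtype.ext
    rw [Matrix.SpecialLinearGroup.coe_mul, ← hr', ← map_mul, ← pow_two, hr, map_one,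
      Matrix.SpecialLinearGroup.coe_one]
  rcases gcd_two_cases (Fintype.card F - 1) with hd | hd
  · rw [hd, Nat.div_one]
    refine (Nat.Coprime.dvd_of_dvd_mul_right ?_ hdouble)
    rw [Nat.coprime_comm, Nat.Prime.coprime_iff_not_dvd Nat.prime_two]
    intro h2
    have h2' : 2 ∣ Fintype.card F - 1 := by omega
    have := Nat.dvd_gcd (dvd_refl 2) h2'
    rw [hd] at this
    omega
  · rw [hd]
    obtain ⟨c, hc⟩ : 2 ∣ n := by
      obtain ⟨m, hm⟩ : 2 ∣ Fintype.card F - 1 := hd ▸ Nat.gcd_dvd_right 2 _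
      omega
    rw [hc, mul_comm k 2] at hdouble
    rw [hc, Nat.mul_div_cancel_left c two_pos]
    exact Nat.dvd_of_mul_dvd_mul_left two_pos hdouble

theorem exists_psl_orderOf_char (p : ℕ) [hp : Fact p.Prime] [CharP F p] :
    ∃ g : Matrix.ProjectiveSpecialLinearGroup (Fin 2) F, orderOf g = p := by
  obtain ⟨U, hU⟩ : ∃ U : Matrix.SpecialLinearGroup (Fin 2) F,
      (U : Matrix (Fin 2) (Fin 2) F) = !![1, 1; 0, 1] := ⟨⟨_, by simp [det_fin_two_of]⟩, rfl⟩
  obtain ⟨c, hc⟩ := pow_char_of_trace p U (by rw [hU]; simp [trace_fin_two]; norm_num)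
  refine ⟨QuotientGroup.mk U, orderOf_eq_prime (psl_pow_eq_one_of_eq_smul U p c hc) ?_⟩
  rw [ne_eq, psl_mk_eq_one_iff, hU]
  simp [IsScalar]

theorem range_orderOf_psl (p : ℕ) [hp : Fact p.Prime] [CharP F p] :
    Set.range (orderOf : Matrix.ProjectiveSpecialLinearGroup (Fin 2) F → ℕ) =
      {m : ℕ | m ∣ p ∨ m ∣ (Fintype.card F - 1) / Nat.gcd 2 (Fintype.card F - 1) ∨
        m ∣ (Fintype.card F + 1) / Nat.gcd 2 (Fintype.card F - 1)} := by
  ext m
  constructor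
  · rintro ⟨g, rfl⟩; exact psl_orderOf_dvd p g
  · have key : (∃ g : Matrix.ProjectiveSpecialLinearGroup (Fin 2) F, m ∣ orderOf g) →
        m ∈ Set.range (orderOf : Matrix.ProjectiveSpecialLinearGroup (Fin 2) F → ℕ) := by
      rintro ⟨g, hg⟩
      exact exists_orderOf_eq_of_dvd_orderOf g (orderOf_pos g) hg
    rintro (h | h | h)
    · obtain ⟨g, hg⟩ := exists_psl_orderOf_char (F := F) p
      exact key ⟨g, hg ▸ h⟩
    · obtain ⟨g, hg⟩ := exists_psl_orderOf_div (F := F) (Or.inl rfl)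
      exact key ⟨g, hg ▸ h⟩
    · obtain ⟨g, hg⟩ := exists_psl_orderOf_div (F := F) (Or.inr rfl)
      exact key ⟨g, hg ▸ h⟩

end Cfsg.Agent.SL2Tor
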