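import Cfsg.Agent.SL2Tor.Core
import Cfsg.Agent.Recog71.SL2Orders

/-! Passing between `SL₂` and `PSL₂`. -/

set_option autoImplicit false

namespace Cfsg.Agent.SL2Tor

open Matrix

variable {F : Type*} [Field F]

theorem two_sq (M : Matrix (Fin 2) (Fin 2) F) : M * M = M.trace • M - M.det • 1 := by
  ext i j
  fin_cases i <;> fin_cases j <;>
    simp [Matrix.mul_apply, Matrix.trace, Matrix.det_fin_two, Fin.sum_univ_two] <;> ring

theorem psl_mk_eq_one_iff (A : Matrix.SpecialLinearGroup (Fin 2) F) :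
    (QuotientGroup.mk A : Matrix.ProjectiveSpecialLinearGroup (Fin 2) F) = 1 ↔
      IsScalar (A : Matrix (Fin 2) (Fin 2) F) := by
  rw [isScalar_iff_mem_center]
  exact QuotientGroup.eq_one_iff A

theorem isScalar_smul_one (c : F) : IsScalar (c • (1 : Matrix (Fin 2) (Fin 2) F)) := by
  simp [IsScalar]

theorem psl_pow_eq_one_of_eq_smul (A : Matrix.SpecialLinearGroup (Fin 2) F) (k : ℕ) (c : F)
    (h : (A : Matrix (Fin 2) (Fin 2) F) ^ k = c • 1) :
    (QuotientGroup.mk A : Matrix.ProjectiveSpecialLinearGroup (Fin 2) F) ^ k = 1 := by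
  rw [← QuotientGroup.mk_pow, psl_mk_eq_one_iff, Matrix.SpecialLinearGroup.coe_pow, h]
  exact isScalar_smul_one c

theorem pow_char_of_trace (p : ℕ) [hp : Fact p.Prime] [CharP F p]
    (A : Matrix.SpecialLinearGroup (Fin 2) F)
    (ht : (A : Matrix (Fin 2) (Fin 2) F).trace ^ 2 = 4) :
    ∃ c : F, (A : Matrix (Fin 2) (Fin 2) F) ^ p = c • 1 := by
  obtain ⟨M, hM⟩ : ∃ M : Matrix (Fin 2) (Fin 2) F, M = (A : Matrix (Fin 2) (Fin 2) F) := ⟨_, rfl⟩
  rw [← hM] at ht ⊢
  have hd : M.det = 1 := hM ▸ A.2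
  obtain ⟨s, hs⟩ : ∃ s : F, M.trace = 2 * s ∧ s ^ 2 = 1 := by
    by_cases h2 : (2 : F) = 0
    · refine ⟨1, ?_, one_pow 2⟩
      have : M.trace ^ 2 = 0 := by rw [ht]; linear_combination 2 * h2
      rw [eq_zero_of_pow_eq_zero this, h2, zero_mul]
    · refine ⟨M.trace / 2, by field_simp, ?_⟩
      field_simp
      linear_combination ht
  obtain ⟨hs1, hs2⟩ := hs
  refine ⟨s ^ p, ?_⟩
  have hN : (M - s • 1) * (M - s • 1) = 0 := by
    rw [sub_mul, mul_sub, mul_sub, two_sq, hd, hs1, Matrix.mul_smul, Matrix.smul_mul, Matrix.smul_mul,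
      Matrix.mul_smul, Matrix.one_mul, Matrix.mul_one, Matrix.one_mul, smul_smul,
      show s * s = 1 by rw [← hs2]; ring, two_mul, add_smul]
    abel
  have hNp : (M - s • 1) ^ p = 0 := by
    rw [show p = 2 + (p - 2) by have := hp.out.two_le; omega, pow_add, pow_two, hN, zero_mul]
  rw [sub_pow_char_of_commute p ((Commute.one_right _).smul_right s), smul_pow, one_pow,
    sub_eq_zero] at hNp
  exact hNp

theorem trace_sq_ne_four (p : ℕ) [hp : Fact p.Prime] [CharP F p]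
    (A : Matrix.SpecialLinearGroup (Fin 2) F)
    (h1 : ¬ IsScalar (A : Matrix (Fin 2) (Fin 2) F))
    (h : orderOf (QuotientGroup.mk A : Matrix.ProjectiveSpecialLinearGroup (Fin 2) F) ≠ p) :
    (A : Matrix (Fin 2) (Fin 2) F).trace ^ 2 ≠ 4 := by
  intro ht
  obtain ⟨c, hc⟩ := pow_char_of_trace p A ht
  exact h (orderOf_eq_prime (psl_pow_eq_one_of_eq_smul A p c hc)
    (fun e => h1 ((psl_mk_eq_one_iff A).1 e)))

theorem trace_ne_zero (A : Matrix.SpecialLinearGroup (Fin 2) F)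
    (h : 2 < orderOf (QuotientGroup.mk A : Matrix.ProjectiveSpecialLinearGroup (Fin 2) F)) :
    (A : Matrix (Fin 2) (Fin 2) F).trace ≠ 0 := by
  intro ht
  have h2 : (A : Matrix (Fin 2) (Fin 2) F) ^ 2 = (-1 : F) • 1 := by
    rw [pow_two, two_sq, ht, A.2]; simp
  have := orderOf_le_of_pow_eq_one (by norm_num) (psl_pow_eq_one_of_eq_smul A 2 _ h2)
  omega

theorem trace_neg' (A : Matrix.SpecialLinearGroup (Fin 2) F) :
    ((-A : Matrix.SpecialLinearGroup (Fin 2) F) : Matrix (Fin 2) (Fin 2) F).trace =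
      -(A : Matrix (Fin 2) (Fin 2) F).trace := by
  rw [Matrix.SpecialLinearGroup.coe_neg, Matrix.trace_neg]

theorem psl_mk_neg (A : Matrix.SpecialLinearGroup (Fin 2) F) :
    (QuotientGroup.mk (-A) : Matrix.ProjectiveSpecialLinearGroup (Fin 2) F) = QuotientGroup.mk A := by
  apply QuotientGroup.eq.2
  rw [← isScalar_iff_mem_center]
  have : (-A)⁻¹ * A = -1 := by
    apply inv_mul_eq_iff_eq_mul.2
    apply Subtype.ext
    rw [Matrix.SpecialLinearGroup.coe_mul, Matrix.SpecialLinearGroup.coe_neg,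
      Matrix.SpecialLinearGroup.coe_neg, Matrix.SpecialLinearGroup.coe_one]
    simp
  rw [this, Matrix.SpecialLinearGroup.coe_neg, Matrix.SpecialLinearGroup.coe_one]
  simp [IsScalar]

variable [Finite F]

theorem hit_of_trace (X G : Matrix.SpecialLinearGroup (Fin 2) F)
    (hX : (X : Matrix (Fin 2) (Fin 2) F).trace ^ 2 ≠ 4)
    (hG : (G : Matrix (Fin 2) (Fin 2) F).trace ^ 2 ≠ 4) :
    ∃ u v : Matrix.SpecialLinearGroup (Fin 2) F, G = (u * X * u⁻¹) * (v * X * v⁻¹) := by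
  obtain ⟨x, hx⟩ := exists_trace_mul X X hX hX (G : Matrix (Fin 2) (Fin 2) F).trace
  obtain ⟨y, hy⟩ := isConj_of_trace (X * (x * X * x⁻¹)) G hx (by rw [hx]; exact hG)
  exact ⟨y, y * x, by rw [hy]; group⟩

theorem hit_of_seed (X G P : Matrix.SpecialLinearGroup (Fin 2) F)
    (hX : (X : Matrix (Fin 2) (Fin 2) F).trace ^ 2 ≠ 4) (x : Matrix.SpecialLinearGroup (Fin 2) F)
    (hP : P = X * (x * X * x⁻¹)) (hns : ¬ IsScalar (P : Matrix (Fin 2) (Fin 2) F))
    (hGns : ¬ IsScalar (G : Matrix (Fin 2) (Fin 2) F))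
    (ht : (P : Matrix (Fin 2) (Fin 2) F).trace = (G : Matrix (Fin 2) (Fin 2) F).trace) :
    ∃ u v : Matrix.SpecialLinearGroup (Fin 2) F, G = (u * X * u⁻¹) * (v * X * v⁻¹) := by
  obtain ⟨Q, hQ⟩ := conj_gl_of_trace P.2 G.2 hns hGns ht
  obtain ⟨u, hu⟩ := exists_sl_conj_of_gl X hX Q
  obtain ⟨v, hv⟩ := exists_sl_conj_of_gl (x * X * x⁻¹) (by rw [trace_conj]; exact hX) Q
  refine ⟨u, v * x, ?_⟩
  apply Subtype.ext
  rw [show v * x * X * (v * x)⁻¹ = v * (x * X * x⁻¹) * v⁻¹ by group,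
    Matrix.SpecialLinearGroup.coe_mul, hu, hv, hQ, hP, Matrix.SpecialLinearGroup.coe_mul]
  simp [Matrix.mul_assoc]

theorem exists_root_of_pow {A : Matrix (Fin 2) (Fin 2) F} (hA : A.det = 1) (k : ℕ) (hk : 0 < k)
    (hdvd : k ∣ Nat.card F - 1) (h : A ^ k = 1) :
    ∃ l : F, l ^ 2 - A.trace * l + 1 = 0 := by
  have := Fintype.ofFinite F
  classical
  have hq : 1 < Fintype.card F := Fintype.one_lt_card
  obtain ⟨m, hm⟩ := hdvd
  rw [Nat.card_eq_fintype_card] at hm
  have hAq : A ^ Fintype.card F = A := by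
    rw [show Fintype.card F = k * m + 1 by omega, pow_succ, pow_mul, h, one_pow, one_mul]
  set f : Polynomial F := Polynomial.X ^ Fintype.card F - Polynomial.X with hf
  have hroots := FiniteField.roots_X_pow_card_sub_X F
  have hmonic : f.Monic := Polynomial.monic_X_pow_sub (by rw [Polynomial.degree_X]; exact_mod_cast hq)
  have hprod := Polynomial.prod_multiset_X_sub_C_of_monic_of_roots_card_eq hmonic (by
    rw [hf, hroots, FiniteField.X_pow_card_sub_X_natDegree_eq F hq]; rfl)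
  rw [hf, hroots] at hprod
  have h0 : Polynomial.aeval A (∏ a : F, (Polynomial.X - Polynomial.C a)) = 0 := by
    rw [show (∏ a : F, (Polynomial.X - Polynomial.C a)) = f from hprod, hf]
    simp [hAq]
  have hdet0 : ∏ a : F, (A - Matrix.scalar (Fin 2) a).det = 0 := by
    have e := map_prod (Matrix.detMonoidHom.comp (Polynomial.aeval (R := F) A).toMonoidHom)
      (fun a : F => Polynomial.X - Polynomial.C a) Finset.univ
    change (Polynomial.aeval A (∏ a : F, (Polynomial.X - Polynomial.C a))).det = _ at e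
    rw [h0, Matrix.det_zero] at e
    rw [e]
    refine Finset.prod_congr rfl fun a _ => ?_
    simp [Algebra.algebraMap_eq_smul_one, Matrix.smul_one_eq_diagonal]
  obtain ⟨l, -, hl⟩ := Finset.prod_eq_zero_iff.1 hdet0
  refine ⟨l, ?_⟩
  rw [det_fin_two] at hA
  rw [det_fin_two] at hl
  rw [trace_fin_two]
  simp at hl
  linear_combination hl - hA

end Cfsg.Agent.SL2Tor
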