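import Cfsg.Agent.SL2Tor.Tori

/-! Centralisers and normalisers of Sylow subgroups of `SL₂(q)`, `q` odd. -/

set_option autoImplicit false

namespace Cfsg.Agent.SL2Tor

open Matrix

variable {F : Type*} [Field F]

theorem pm_conj_mem [Finite F] (h2 : (2 : F) ≠ 0) :
    ∀ g z : Matrix.SpecialLinearGroup (Fin 2) F, z ∈ ({1, -1} : Set (Matrix.SpecialLinearGroup (Fin 2) F)) →
      g * z * g⁻¹ ∈ ({1, -1} : Set (Matrix.SpecialLinearGroup (Fin 2) F)) := by
  intro g z hz
  rw [← sl_eq_pm_of_sq h2] at hz ⊢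
  rw [show g * z * g⁻¹ * (g * z * g⁻¹) = g * (z * z) * g⁻¹ by group, hz, mul_one, mul_inv_cancel]

theorem center_eq_pm [Finite F] (h2 : (2 : F) ≠ 0) (g : Matrix.SpecialLinearGroup (Fin 2) F) :
    g ∈ Subgroup.center (Matrix.SpecialLinearGroup (Fin 2) F) ↔
      g ∈ ({1, -1} : Set (Matrix.SpecialLinearGroup (Fin 2) F)) := by
  rw [← isScalar_iff_mem_center]
  refine ⟨fun h => ?_, ?_⟩
  · rw [← sl_eq_pm_of_sq h2]
    obtain ⟨h1, h3, h4⟩ := h
    have hd := g.2
    rw [det_fin_two, h1, zero_mul, sub_zero, ← h4] at hd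
    apply Subtype.ext
    rw [Matrix.SpecialLinearGroup.coe_mul, Matrix.eta_fin_two (g : Matrix (Fin 2) (Fin 2) F),
      Matrix.SpecialLinearGroup.coe_one, Matrix.mul_fin_two]
    ext i j; fin_cases i <;> fin_cases j <;> simp [h1, h3, ← h4, hd]
  · rintro (rfl | h)
    · rw [Matrix.SpecialLinearGroup.coe_one]; simp [IsScalar]
    · rw [Set.mem_singleton_iff.1 h, Matrix.SpecialLinearGroup.coe_neg, Matrix.SpecialLinearGroup.coe_one]
      simp [IsScalar]

variable [Fintype F]

theorem card_sl_two' : Nat.card (Matrix.SpecialLinearGroup (Fin 2) F) =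
    Fintype.card F * ((Fintype.card F - 1) * (Fintype.card F + 1)) := by
  rw [Cfsg.Agent.LinearGroup.card_SL_two, Nat.card_eq_fintype_card]
  congr 1
  rw [mul_comm, ← Nat.sq_sub_sq, one_pow]

/-- The odd-prime Sylow subgroups. -/
theorem sylow_odd_of_torus (h2 : (2 : F) ≠ 0) (ℓ : ℕ) [hℓp : Fact ℓ.Prime] (hℓ : ℓ ≠ 2)
    (T : Subgroup (Matrix.SpecialLinearGroup (Fin 2) F)) (hT : IsTorus T) (hdvd : ℓ ∣ Nat.card T)
    (hfac : (Nat.card T).factorization ℓ = (Nat.card (Matrix.SpecialLinearGroup (Fin 2) F)).factorization ℓ)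
    (P : Sylow ℓ (Matrix.SpecialLinearGroup (Fin 2) F)) :
    Nat.card (Subgroup.centralizer ((P : Subgroup (Matrix.SpecialLinearGroup (Fin 2) F)) :
      Set (Matrix.SpecialLinearGroup (Fin 2) F))) = Nat.card T ∧
    IsCyclic (Subgroup.centralizer ((P : Subgroup (Matrix.SpecialLinearGroup (Fin 2) F)) :
      Set (Matrix.SpecialLinearGroup (Fin 2) F))) ∧
    Nat.card (Subgroup.normalizer ((P : Subgroup (Matrix.SpecialLinearGroup (Fin 2) F)) :
      Set (Matrix.SpecialLinearGroup (Fin 2) F))) = 2 * Nat.card T := by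
  obtain ⟨g, Q, hQT, hQc, hP⟩ := sylow_eq_conj_le T hfac P
  have hpos : 0 < (Nat.card (Matrix.SpecialLinearGroup (Fin 2) F)).factorization ℓ := by
    rw [← hfac]
    exact hℓp.out.factorization_pos_of_dvd Nat.card_pos.ne' hdvd
  obtain ⟨⟨x, hxQ⟩, hx⟩ := exists_prime_orderOf_dvd_card' (G := Q) ℓ
    (hQc ▸ dvd_pow_self ℓ hpos.ne')
  rw [Subgroup.orderOf_mk] at hx
  have hxZ : x ∉ ({1, -1} : Set (Matrix.SpecialLinearGroup (Fin 2) F)) := fun h => by
    have := orderOf_le_of_pow_eq_one two_pos ((pow_two x).trans ((sl_eq_pm_of_sq h2 x).2 h))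
    rw [hx] at this
    have := hℓp.out.two_le
    omega
  obtain ⟨hC, hN⟩ := centralizer_normalizer_of_le _ (pm_conj_mem h2) hT.comm hT.cent
    (fun g hg => (hT.norm g hg).imp id And.right) hQT hxQ hxZ
  obtain ⟨hC', hN'⟩ := card_centralizer_map (MulAut.conj g) Q
  rw [hP, hC', hN', hC, hN]
  have hinj : Function.Injective (MulAut.conj g).toMonoidHom := (MulAut.conj g).injective
  haveI := hT.cyclic
  refine ⟨?_, ?_, ?_⟩
  · exact Nat.card_congr (Subgroup.equivMapOfInjective T _ hinj).symm.toEquiv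
  · exact isCyclic_of_surjective _ (Subgroup.equivMapOfInjective T _ hinj).surjective
  · rw [← hT.card_normalizer h2]
    exact Nat.card_congr (Subgroup.equivMapOfInjective _ _ hinj).symm.toEquiv

theorem factorization_sl_two (hodd : Odd (Fintype.card F)) {ℓ : ℕ} (hℓp : ℓ.Prime) (hℓ : ℓ ≠ 2) :
    (ℓ ∣ Fintype.card F - 1 → (Fintype.card F - 1).factorization ℓ =
      (Nat.card (Matrix.SpecialLinearGroup (Fin 2) F)).factorization ℓ) ∧
    (ℓ ∣ Fintype.card F + 1 → (Fintype.card F + 1).factorization ℓ =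
      (Nat.card (Matrix.SpecialLinearGroup (Fin 2) F)).factorization ℓ) := by
  have hq := Fintype.one_lt_card (α := F)
  rw [card_sl_two', Nat.factorization_mul (by omega) (Nat.mul_ne_zero (by omega) (by omega)), Finsupp.add_apply,
    Nat.factorization_mul (by omega) (by omega), Finsupp.add_apply]
  have key : ∀ a b : ℕ, ℓ ∣ a → ℓ ∣ b → a + 1 = b ∨ a + 2 = b → False := by
    intro a b ha hb h
    rcases h with h | h <;> subst h
    · exact hℓp.not_dvd_one ((Nat.dvd_add_right ha).1 hb)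
    · exact hℓ ((Nat.prime_dvd_prime_iff_eq hℓp Nat.prime_two).1 ((Nat.dvd_add_right ha).1 hb))
  refine ⟨fun h => ?_, fun h => ?_⟩
  · rw [Nat.factorization_eq_zero_of_not_dvd (n := Fintype.card F) (fun h' => key _ _ h h' (Or.inl (by omega))),
      Nat.factorization_eq_zero_of_not_dvd (n := Fintype.card F + 1)
        (fun h' => key _ _ h h' (Or.inr (by omega)))]
    simp
  · rw [Nat.factorization_eq_zero_of_not_dvd (n := Fintype.card F) (fun h' => key _ _ h' h (Or.inl (by omega))),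
      Nat.factorization_eq_zero_of_not_dvd (n := Fintype.card F - 1)
        (fun h' => key _ _ h' h (Or.inr (by omega)))]
    simp

theorem sylow_odd_cases (hodd : Odd (Fintype.card F)) (ℓ : ℕ) [hℓp : Fact ℓ.Prime] (hℓ : ℓ ≠ 2)
    (P : Sylow ℓ (Matrix.SpecialLinearGroup (Fin 2) F)) :
    (ℓ ∣ Fintype.card F - 1 →
      Nat.card (Subgroup.centralizer ((P : Subgroup (Matrix.SpecialLinearGroup (Fin 2) F)) :
        Set (Matrix.SpecialLinearGroup (Fin 2) F))) = Fintype.card F - 1 ∧
      IsCyclic (Subgroup.centralizer ((P : Subgroup (Matrix.SpecialLinearGroup (Fin 2) F)) :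
        Set (Matrix.SpecialLinearGroup (Fin 2) F))) ∧
      Nat.card (Subgroup.normalizer ((P : Subgroup (Matrix.SpecialLinearGroup (Fin 2) F)) :
        Set (Matrix.SpecialLinearGroup (Fin 2) F))) = 2 * (Fintype.card F - 1)) ∧
    (ℓ ∣ Fintype.card F + 1 →
      Nat.card (Subgroup.centralizer ((P : Subgroup (Matrix.SpecialLinearGroup (Fin 2) F)) :
        Set (Matrix.SpecialLinearGroup (Fin 2) F))) = Fintype.card F + 1 ∧
      IsCyclic (Subgroup.centralizer ((P : Subgroup (Matrix.SpecialLinearGroup (Fin 2) F)) :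
        Set (Matrix.SpecialLinearGroup (Fin 2) F))) ∧
      Nat.card (Subgroup.normalizer ((P : Subgroup (Matrix.SpecialLinearGroup (Fin 2) F)) :
        Set (Matrix.SpecialLinearGroup (Fin 2) F))) = 2 * (Fintype.card F + 1)) := by
  have h2 := two_ne_zero_of_odd_card hodd
  refine ⟨fun h => ?_, fun h => ?_⟩
  · have hbig : 3 < Fintype.card F := by
      have := Fintype.one_lt_card (α := F)
      have := Nat.le_of_dvd (by omega) h
      have := hℓp.out.two_le
      omega
    have hc : Nat.card (Cfsg.Agent.LinearGroup.splitTorus (F := F)).range = Fintype.card F - 1 := by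
      rw [← Nat.card_congr (MonoidHom.ofInjective Cfsg.Agent.LinearGroup.splitTorus_injective).toEquiv,
        Nat.card_units, Nat.card_eq_fintype_card]
    have := sylow_odd_of_torus h2 ℓ hℓ _ (split_isTorus h2 (by rw [Nat.card_eq_fintype_card]; exact hbig))
      (by rw [hc]; exact h) (by rw [hc]; exact (factorization_sl_two hodd hℓp.out hℓ).1 h) P
    rwa [hc] at this
  · obtain ⟨T, hT, hc, -⟩ := exists_nonsplit_isTorus (F := F) hodd
    have := sylow_odd_of_torus h2 ℓ hℓ T hT (by rw [hc]; exact h)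
      (by rw [hc]; exact (factorization_sl_two hodd hℓp.out hℓ).2 h) P
    rwa [hc] at this

theorem exists_three_normalising_eight (hodd : Odd (Fintype.card F)) :
    ∃ (S : Subgroup (Matrix.SpecialLinearGroup (Fin 2) F)) (r : Matrix.SpecialLinearGroup (Fin 2) F),
      Nat.card S = 8 ∧ orderOf r = 3 ∧
        r ∈ Subgroup.normalizer (S : Set (Matrix.SpecialLinearGroup (Fin 2) F)) := by
  have h2 := two_ne_zero_of_odd_card hodd
  obtain ⟨a, b, hab⟩ := exists_affine_form h2 (one_ne_zero (α := F)) (-1 : F)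
  obtain ⟨i, hi⟩ : ∃ i : Matrix.SpecialLinearGroup (Fin 2) F,
      (i : Matrix (Fin 2) (Fin 2) F) = !![0, -1; 1, 0] := ⟨⟨_, by simp [det_fin_two_of]⟩, rfl⟩
  obtain ⟨j, hj⟩ : ∃ j : Matrix.SpecialLinearGroup (Fin 2) F,
      (j : Matrix (Fin 2) (Fin 2) F) = !![a, b; b, -a] :=
    ⟨⟨_, by rw [det_fin_two_of]; linear_combination -hab⟩, rfl⟩
  obtain ⟨r, hr⟩ : ∃ r : Matrix.SpecialLinearGroup (Fin 2) F, (r : Matrix (Fin 2) (Fin 2) F) =
      !![(-1 + a - b) / 2, (-1 + b + a) / 2; (1 + b + a) / 2, (-1 - a + b) / 2] :=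
    ⟨⟨_, by rw [det_fin_two_of]; field_simp; linear_combination -2 * hab⟩, rfl⟩
  have hii : i * i = -1 := Subtype.ext (by
    rw [Matrix.SpecialLinearGroup.coe_mul, Matrix.SpecialLinearGroup.coe_neg,
      Matrix.SpecialLinearGroup.coe_one, two_sq, i.2, hi]; simp [trace_fin_two])
  have hjj : j * j = -1 := Subtype.ext (by
    rw [Matrix.SpecialLinearGroup.coe_mul, Matrix.SpecialLinearGroup.coe_neg,
      Matrix.SpecialLinearGroup.coe_one, two_sq, j.2, hj]; simp [trace_fin_two])
  have hne : (-1 : Matrix.SpecialLinearGroup (Fin 2) F) ≠ 1 := fun e => by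
    have := congrArg (fun A : Matrix.SpecialLinearGroup (Fin 2) F => (A : Matrix (Fin 2) (Fin 2) F) 0 0) e
    simp at this
    exact h2 (by linear_combination -this)
  have hi4 : orderOf i = 2 * 2 := by
    refine orderOf_eq_prime_pow (p := 2) (n := 1) ?_ ?_
    · rw [pow_one, pow_two, hii]; exact hne
    · rw [show 2 ^ (1 + 1) = 2 * 2 by norm_num, pow_mul, pow_two, pow_two, hii]
      exact (sl_eq_pm_of_sq h2 _).2 (Or.inr rfl)
  have hax : j * i = i⁻¹ * j := by
    rw [sl_eq_iff, Matrix.SpecialLinearGroup.coe_mul, Matrix.SpecialLinearGroup.coe_mul,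
      Matrix.SpecialLinearGroup.coe_inv, adjugate_fin_two, hi, hj]
    simp
  have hx2 : j * j = i ^ 2 := by rw [hjj, pow_two, hii]
  obtain ⟨f, hf1, hf0, hfa, hfx⟩ :=
    Cfsg.Agent.LinearGroup.exists_quaternion_hom i j (hi4 ▸ pow_orderOf_eq_one i) hx2 hax
  have hinj : Function.Injective f := by
    refine (injective_iff_map_eq_one f).mpr ?_
    rintro (t | t) ht
    · rw [hfa] at ht
      have : t.val = 0 := by
        by_contra h
        exact absurd (orderOf_le_of_pow_eq_one (Nat.pos_of_ne_zero h) ht)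
          (by rw [hi4]; have := ZMod.val_lt t; omega)
      rw [(ZMod.val_eq_zero t).mp this]
      exact QuaternionGroup.a_zero
    · rw [hfx] at ht
      exfalso
      have hji : j * i = i * j := by
        rw [eq_inv_of_mul_eq_one_left ht]
        exact ((Commute.self_pow i t.val).inv_right).eq.symm
      rw [hji, mul_left_inj] at hax
      exact hne (by rw [← hii]; nth_rw 1 [hax]; rw [inv_mul_cancel])
  refine ⟨f.range, r, ?_, ?_, ?_⟩
  · rw [← Nat.card_congr (MonoidHom.ofInjective hinj).toEquiv, Nat.card_eq_fintype_card, QuaternionGroup.card]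
  · refine orderOf_eq_prime (p := 3) ?_ ?_
    · apply Subtype.ext
      rw [Matrix.SpecialLinearGroup.coe_pow, Matrix.SpecialLinearGroup.coe_one]
      have e := two_sq (r : Matrix (Fin 2) (Fin 2) F)
      have ht : (r : Matrix (Fin 2) (Fin 2) F).trace = -1 := by
        rw [hr, trace_fin_two]; simp; field_simp; ring
      rw [r.2, ht] at e
      rw [show (3 : ℕ) = 1 + 1 + 1 from rfl, pow_succ, pow_succ, pow_one, e, sub_mul, Matrix.smul_mul, e,
        one_smul, Matrix.one_mul, smul_sub, smul_smul]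
      simp
    · intro e
      have e01 := congrArg (fun A : Matrix.SpecialLinearGroup (Fin 2) F => (A : Matrix (Fin 2) (Fin 2) F) 0 1) e
      have e10 := congrArg (fun A : Matrix.SpecialLinearGroup (Fin 2) F => (A : Matrix (Fin 2) (Fin 2) F) 1 0) e
      simp [hr, h2] at e01 e10
      exact h2 (by linear_combination e10 - e01)
  · have hri : r * i = (i * j) * r := by
      rw [sl_eq_iff, Matrix.SpecialLinearGroup.coe_mul, Matrix.SpecialLinearGroup.coe_mul,
        Matrix.SpecialLinearGroup.coe_mul, hr, hi, hj]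
      ext u v; fin_cases u <;> fin_cases v <;> simp <;> field_simp <;>
        first | linear_combination hab | linear_combination -hab | ring
    have hrj : r * j = i * r := by
      rw [sl_eq_iff, Matrix.SpecialLinearGroup.coe_mul, Matrix.SpecialLinearGroup.coe_mul, hr, hi, hj]
      ext u v; fin_cases u <;> fin_cases v <;> simp <;> field_simp <;>
        first | linear_combination hab | linear_combination -hab | ring
    have hiR : i ∈ f.range := ⟨_, hf1⟩
    have hjR : j ∈ f.range := ⟨_, hf0⟩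
    have hri' : r * i * r⁻¹ ∈ f.range := by rw [hri, mul_inv_cancel_right]; exact mul_mem hiR hjR
    have hrj' : r * j * r⁻¹ ∈ f.range := by rw [hrj, mul_inv_cancel_right]; exact hiR
    have hle : f.range.map (MulAut.conj r).toMonoidHom ≤ f.range := by
      rintro _ ⟨_, ⟨u, rfl⟩, rfl⟩
      rcases u with t | t
      · rw [hfa, map_pow]; exact pow_mem hri' _
      · rw [hfx, map_mul, map_pow]; exact mul_mem hrj' (pow_mem hri' _)
    have heq := Subgroup.eq_of_le_of_card_ge hle (by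
      rw [Nat.card_congr (Subgroup.equivMapOfInjective f.range (MulAut.conj r).toMonoidHom (MulAut.conj r).injective).toEquiv])
    rw [Subgroup.mem_normalizer_iff]
    intro z
    conv_rhs => rw [← heq]
    exact (Subgroup.mem_map_iff_mem (MulAut.conj r).injective).symm

theorem sylow_two_main (h2 : (2 : F) ≠ 0) (T : Subgroup (Matrix.SpecialLinearGroup (Fin 2) F)) (hT : IsTorus T)
    (m : ℕ) (hm : 2 ≤ m) (hTm : (Nat.card T).factorization 2 = m)
    (hfac : (Nat.card (Matrix.SpecialLinearGroup (Fin 2) F)).factorization 2 = m + 1) :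
    ∃ Q : Sylow 2 (Matrix.SpecialLinearGroup (Fin 2) F),
      Subgroup.centralizer ((Q : Subgroup (Matrix.SpecialLinearGroup (Fin 2) F)) :
        Set (Matrix.SpecialLinearGroup (Fin 2) F)) = Subgroup.center (Matrix.SpecialLinearGroup (Fin 2) F) ∧
      (3 ≤ m → Subgroup.normalizer ((Q : Subgroup (Matrix.SpecialLinearGroup (Fin 2) F)) :
        Set (Matrix.SpecialLinearGroup (Fin 2) F)) = (Q : Subgroup (Matrix.SpecialLinearGroup (Fin 2) F))) ∧
      (m = 2 → Nat.card (Subgroup.normalizer ((Q : Subgroup (Matrix.SpecialLinearGroup (Fin 2) F)) :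
        Set (Matrix.SpecialLinearGroup (Fin 2) F))) ≤ 24) := by
  classical
  obtain ⟨N, hN⟩ : ∃ N, N = Subgroup.normalizer (T : Set (Matrix.SpecialLinearGroup (Fin 2) F)) := ⟨_, rfl⟩
  have hTN : T ≤ N := hN ▸ Subgroup.le_normalizer
  have hNc : Nat.card N = 2 * Nat.card T := hN ▸ hT.card_normalizer h2
  have hfN : (Nat.card N).factorization 2 = (Nat.card (Matrix.SpecialLinearGroup (Fin 2) F)).factorization 2 := by
    rw [hNc, Nat.factorization_mul two_ne_zero Nat.card_pos.ne', Finsupp.add_apply,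
      Nat.prime_two.factorization_self, hTm, hfac, add_comm]
  obtain ⟨g₀, Q, hQN, hQc, -⟩ := sylow_eq_conj_le N hfN default
  refine ⟨Sylow.ofCard Q hQc, ?_⟩
  rw [hfac] at hQc
  simp only [Sylow.coe_ofCard]
  obtain ⟨A, hA⟩ : ∃ A, A = Q ⊓ T := ⟨_, rfl⟩
  obtain ⟨u, hu⟩ : ∃ u, Nat.card T = 2 ^ m * u ∧ ¬ 2 ∣ u := by
    refine ⟨Nat.card T / 2 ^ m, ?_, ?_⟩
    · rw [← hTm]; exact (Nat.ordProj_mul_ordCompl_eq_self _ _).symm
    · rw [← hTm]; exact Nat.not_dvd_ordCompl Nat.prime_two Nat.card_pos.ne'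
  have hAc : Nat.card A = 2 ^ m := by
    have hdQ : Nat.card A ∣ 2 ^ (m + 1) := hQc ▸ Subgroup.card_dvd_of_le (hA ▸ inf_le_left)
    obtain ⟨j, hj, hjA⟩ := (Nat.dvd_prime_pow Nat.prime_two).1 hdQ
    have hdT : 2 ^ j ∣ Nat.card T := hjA ▸ Subgroup.card_dvd_of_le (hA ▸ inf_le_right)
    have hjm : j ≤ m := hTm ▸ (Nat.prime_two.pow_dvd_iff_le_factorization Nat.card_pos.ne').1 hdT
    have hrel : Nat.card A * T.relIndex Q = Nat.card Q := by
      rw [hA, inf_comm, ← Nat.card_congr (Subgroup.subgroupOfEquivOfLe (inf_le_right : T ⊓ Q ≤ Q)).toEquiv,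
        Subgroup.inf_subgroupOf_right]
      exact Subgroup.card_mul_index _
    have hle2 : T.relIndex Q ≤ 2 := by
      refine (Subgroup.relIndex_le_of_le_right hQN ?_).trans_eq (hN ▸ hT.index_normalizer h2)
      rw [Subgroup.relIndex, hN, hT.index_normalizer h2]; norm_num
    rw [hjA, hQc] at hrel
    have : 2 ^ (m + 1) ≤ 2 ^ (j + 1) := by rw [← hrel, pow_succ]; exact Nat.mul_le_mul_left _ hle2
    have := (Nat.pow_le_pow_iff_right (by norm_num)).1 this
    rw [hjA]; congr 1; omega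
  haveI := hT.cyclic
  haveI : IsCyclic A := isCyclic_of_injective (Subgroup.inclusion (hA ▸ inf_le_right))
    (Subgroup.inclusion_injective _)
  obtain ⟨⟨x, hxA⟩, hx⟩ := IsCyclic.exists_ofOrder_eq_natCard (α := A)
  rw [Subgroup.orderOf_mk, hAc] at hx
  have hxQ : x ∈ Q := (hA ▸ hxA : x ∈ Q ⊓ T).1
  have hxT : x ∈ T := (hA ▸ hxA : x ∈ Q ⊓ T).2
  have h4 : 4 ≤ 2 ^ m := by
    calc 4 = 2 ^ 2 := rfl
      _ ≤ 2 ^ m := Nat.pow_le_pow_right two_pos hm
  have hxZ : x ∉ ({1, -1} : Set (Matrix.SpecialLinearGroup (Fin 2) F)) := fun h => by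
    have := orderOf_le_of_pow_eq_one two_pos ((pow_two x).trans ((sl_eq_pm_of_sq h2 x).2 h))
    omega
  obtain ⟨w, hwQ, hwT⟩ : ∃ w ∈ Q, w ∉ T := by
    by_contra h
    push Not at h
    have : Q ≤ A := hA ▸ le_inf le_rfl h
    have := Subgroup.card_dvd_of_le this
    rw [hQc, hAc] at this
    have := (Nat.pow_dvd_pow_iff_le_right (by norm_num)).1 this
    omega
  have hwinv := ((hT.norm w (hN ▸ hQN hwQ)).resolve_left hwT).2
  -- elements of `T` whose 2^m-th power is one
  have hpow : ∀ t ∈ T, t ^ (2 ^ m) = 1 → t ∈ A := by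
    intro t ht ht1
    let e : {a : T // a ^ (2 ^ m) = 1} := ⟨⟨t, ht⟩, Subtype.ext ht1⟩
    have hcard : Nat.card {a : T // a ^ (2 ^ m) = 1} ≤ 2 ^ m := by
      rw [Nat.card_eq_fintype_card, Fintype.card_subtype]
      exact IsCyclic.card_pow_eq_one_le (by positivity)
    let ι : A → {a : T // a ^ (2 ^ m) = 1} := fun a => ⟨⟨a.1, (hA ▸ a.2 : a.1 ∈ Q ⊓ T).2⟩, Subtype.ext (by
      show a.1 ^ (2 ^ m) = 1
      rw [← hAc, ← Subgroup.coe_pow, pow_card_eq_one', Subgroup.coe_one])⟩
    have hι : Function.Injective ι := fun a b h => Subtype.ext (congrArg (fun v => v.1.1) h)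
    obtain ⟨a, ha⟩ := ((Nat.bijective_iff_injective_and_card ι).2
      ⟨hι, le_antisymm (Nat.card_le_card_of_injective ι hι) (by rw [hAc]; exact hcard)⟩).2 e
    have : a.1 = t := congrArg (fun v => v.1.1) ha
    exact this ▸ a.2
  have stab : ∀ g ∈ Subgroup.normalizer (Q : Set (Matrix.SpecialLinearGroup (Fin 2) F)),
      g * x * g⁻¹ ∈ T → g ∈ Q := by
    intro g hg hgx
    have hgxZ : g * x * g⁻¹ ∉ ({1, -1} : Set (Matrix.SpecialLinearGroup (Fin 2) F)) := fun h =>
      hxZ (by simpa [mul_assoc] using pm_conj_mem h2 g⁻¹ _ h)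
    have hgN : g ∈ N := by
      rw [hN, Subgroup.mem_normalizer_iff]
      intro t
      conv_lhs => rw [← hT.cent x hxT hxZ]
      conv_rhs => rw [← hT.cent _ hgx hgxZ]
      rw [Subgroup.mem_centralizer_singleton_iff, Subgroup.mem_centralizer_singleton_iff,
        show g * t * g⁻¹ * (g * x * g⁻¹) = g * (t * x) * g⁻¹ by group,
        show g * x * g⁻¹ * (g * t * g⁻¹) = g * (x * t) * g⁻¹ by group, mul_left_inj, mul_right_inj]
    have key : ∀ t ∈ T, t ∈ Subgroup.normalizer (Q : Set (Matrix.SpecialLinearGroup (Fin 2) F)) → t ∈ Q := by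
      intro t ht htn
      have hc : t * w * t⁻¹ * w⁻¹ ∈ Q := mul_mem ((Subgroup.mem_normalizer_iff.1 htn w).1 hwQ) (inv_mem hwQ)
      rw [show t * w * t⁻¹ * w⁻¹ = t * (w * t⁻¹ * w⁻¹) by group, hwinv _ (inv_mem ht), inv_inv] at hc
      have hA2 : t * t ∈ A := hA ▸ ⟨hc, mul_mem ht ht⟩
      have h1 : t ^ (2 * 2 ^ m) = 1 := by
        rw [pow_mul, pow_two, ← hAc]
        exact congrArg Subtype.val (pow_card_eq_one' (x := (⟨t * t, hA2⟩ : A)))
      have h3 : t ^ Nat.card T = 1 := congrArg Subtype.val (pow_card_eq_one' (x := (⟨t, ht⟩ : T)))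
      have h5 : Nat.gcd (2 * 2 ^ m) (Nat.card T) = 2 ^ m := by
        rw [hu.1, mul_comm 2, Nat.gcd_mul_left,
          (Nat.prime_two.coprime_iff_not_dvd.2 hu.2).gcd_eq_one, mul_one]
      exact (hA ▸ hpow t ht (h5 ▸ pow_gcd_eq_one.2 ⟨h1, h3⟩) : t ∈ Q ⊓ T).1
    rcases hT.norm g (hN ▸ hgN) with h | h
    · exact key g h hg
    · have hgwT : g * w ∈ T := by
        have := Subgroup.mul_mem_iff_of_index_two (hT.index_normalizer h2)
          (a := ⟨g, hN ▸ hgN⟩) (b := ⟨w, hN ▸ hQN hwQ⟩)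
        simp only [Subgroup.mem_subgroupOf, Subgroup.coe_mul] at this
        exact this.2 (iff_of_false (fun hh => by
          have e := h.2 x hxT
          rw [hT.comm g hh x hxT, mul_inv_cancel_right] at e
          exact hxZ ((sl_eq_pm_of_sq h2 x).1 (by nth_rw 2 [e]; exact mul_inv_cancel x))) hwT)
      have := key _ hgwT (mul_mem hg (Subgroup.le_normalizer hwQ))
      simpa using mul_mem this (inv_mem hwQ)
  refine ⟨?_, fun hm3 => le_antisymm (fun g hg => stab g hg ?_) Subgroup.le_normalizer, fun hm2 => ?_⟩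
  · ext z
    rw [center_eq_pm h2]
    refine ⟨fun hz => ?_, fun hz => ?_⟩
    · have hzT : z ∈ T := by
        rw [← hT.cent x hxT hxZ, Subgroup.mem_centralizer_singleton_iff]
        exact (Subgroup.mem_centralizer_iff.1 hz x hxQ).symm
      rw [← sl_eq_pm_of_sq h2]
      have e := hwinv z hzT
      rw [Subgroup.mem_centralizer_iff.1 hz w hwQ, mul_inv_cancel_right] at e
      nth_rw 2 [e]; exact mul_inv_cancel z
    · exact Subgroup.center_le_centralizer _ ((center_eq_pm h2 z).2 hz)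
  · by_contra h
    have hyQ := (Subgroup.mem_normalizer_iff.1 hg x).1 hxQ
    have hsq := ((hT.norm _ (hN ▸ hQN hyQ)).resolve_left h).1
    have hy2 : (g * x * g⁻¹) * (g * x * g⁻¹) = -1 := Subtype.ext (by
      rw [Matrix.SpecialLinearGroup.coe_mul, hsq, Matrix.SpecialLinearGroup.coe_neg, Matrix.SpecialLinearGroup.coe_one])
    have hy4 : (g * x * g⁻¹) ^ 4 = 1 := by
      rw [show 4 = 2 * 2 from rfl, pow_mul, pow_two (g * x * g⁻¹), hy2, pow_two]
      exact (sl_eq_pm_of_sq h2 _).2 (Or.inr rfl)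
    have := orderOf_le_of_pow_eq_one (by norm_num) hy4
    rw [show g * x * g⁻¹ = MulAut.conj g x from rfl, MulEquiv.orderOf_eq, hx] at this
    have : 2 ^ 3 ≤ 2 ^ m := Nat.pow_le_pow_right two_pos hm3
    omega
  · subst hm2
    obtain ⟨NQ, hNQ⟩ : ∃ NQ, NQ = Subgroup.normalizer (Q : Set (Matrix.SpecialLinearGroup (Fin 2) F)) := ⟨_, rfl⟩
    rw [← hNQ]
    let φ : NQ → Q := fun g => ⟨g.1 * x * g.1⁻¹, (Subgroup.mem_normalizer_iff.1 (hNQ ▸ g.2) x).1 hxQ⟩
    haveI := Fintype.ofFinite (Matrix.SpecialLinearGroup (Fin 2) F)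
    have himg : (Finset.univ.image φ).card ≤ 6 := by
      have hsub : Finset.univ.image φ ⊆ (Finset.univ : Finset Q).filter (fun v => v.1 * v.1 ≠ 1) := by
        intro v hv
        simp only [Finset.mem_image, Finset.mem_univ, true_and] at hv
        obtain ⟨g, rfl⟩ := hv
        simp only [Finset.mem_filter, Finset.mem_univ, true_and]
        intro e
        exact hxZ (by simpa [φ, mul_assoc] using pm_conj_mem h2 g.1⁻¹ _ ((sl_eq_pm_of_sq h2 _).1 e))
      refine (Finset.card_le_card hsub).trans ?_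
      have hne : (-1 : Matrix.SpecialLinearGroup (Fin 2) F) ≠ 1 := fun e => by
        have := congrArg (fun A : Matrix.SpecialLinearGroup (Fin 2) F => (A : Matrix (Fin 2) (Fin 2) F) 0 0) e
        simp at this
        exact h2 (by linear_combination -this)
      have hxm : x * x = -1 := by
        rcases (sl_eq_pm_of_sq h2 (x * x)).1 (by
          rw [← pow_two, ← pow_two, ← pow_mul, ← pow_orderOf_eq_one x, hx]; norm_num) with e | e
        · exact absurd e (fun e => hxZ ((sl_eq_pm_of_sq h2 x).1 e))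
        · exact e
      have h2sub : ({1, ⟨-1, hxm ▸ mul_mem hxQ hxQ⟩} : Finset Q) ⊆
          Finset.univ.filter (fun v => ¬ v.1 * v.1 ≠ 1) := by
        intro v hv
        simp only [Finset.mem_insert, Finset.mem_singleton] at hv
        simp only [Finset.mem_filter, Finset.mem_univ, true_and, not_not]
        rw [sl_eq_pm_of_sq h2]
        rcases hv with rfl | rfl
        · exact Or.inl rfl
        · exact Or.inr rfl
      have hc2 := Finset.card_le_card h2sub
      rw [Finset.card_insert_of_notMem (by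
        rw [Finset.mem_singleton]; exact fun e => hne (congrArg Subtype.val e).symm), Finset.card_singleton] at hc2
      have := Finset.card_filter_add_card_filter_not (s := (Finset.univ : Finset Q)) (fun v => v.1 * v.1 ≠ 1)
      rw [Finset.card_univ, ← Nat.card_eq_fintype_card, hQc] at this
      norm_num at this
      simp only [ne_eq, not_not] at this hc2 ⊢
      omega
    have hfib : ∀ v ∈ Finset.univ.image φ, (Finset.univ.filter (fun g => φ g = v)).card ≤ 4 := by
      intro v hv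
      simp only [Finset.mem_image, Finset.mem_univ, true_and] at hv
      obtain ⟨g₁, rfl⟩ := hv
      rw [show (4 : ℕ) = Nat.card A by rw [hAc]; rfl, Nat.card_eq_fintype_card, ← Fintype.card_coe]
      refine Fintype.card_le_of_injective (fun g => (⟨g₁.1⁻¹ * g.1.1, ?_⟩ : A)) ?_
      · have e : g.1.1 * x * g.1.1⁻¹ = g₁.1 * x * g₁.1⁻¹ :=
          congrArg Subtype.val (Finset.mem_filter.1 g.2).2
        have e' : g₁.1⁻¹ * g.1.1 * x * (g₁.1⁻¹ * g.1.1)⁻¹ = x := by
          rw [show g₁.1⁻¹ * g.1.1 * x * (g₁.1⁻¹ * g.1.1)⁻¹ = g₁.1⁻¹ * (g.1.1 * x * g.1.1⁻¹) * g₁.1 by group, e]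
          group
        rw [hA]
        refine ⟨stab _ (mul_mem (inv_mem (hNQ ▸ g₁.2)) (hNQ ▸ g.1.2)) (by rw [e']; exact hxT), ?_⟩
        show g₁.1⁻¹ * g.1.1 ∈ T
        rw [← hT.cent x hxT hxZ, Subgroup.mem_centralizer_singleton_iff]
        exact mul_inv_eq_iff_eq_mul.1 e'
      · intro g g' h
        exact Subtype.ext (Subtype.ext (mul_left_cancel (congrArg Subtype.val h)))
    rw [Nat.card_eq_fintype_card, ← Finset.card_univ,
      Finset.card_eq_sum_card_fiberwise (fun g hg => Finset.mem_image_of_mem φ hg)]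
    exact (Finset.sum_le_card_nsmul _ _ 4 hfib).trans (by rw [smul_eq_mul]; omega)

theorem sylow_two (hodd : Odd (Fintype.card F)) (S : Sylow 2 (Matrix.SpecialLinearGroup (Fin 2) F)) :
    Subgroup.centralizer ((S : Subgroup (Matrix.SpecialLinearGroup (Fin 2) F)) :
      Set (Matrix.SpecialLinearGroup (Fin 2) F)) = Subgroup.center (Matrix.SpecialLinearGroup (Fin 2) F) ∧
    ((Fintype.card F % 8 = 1 ∨ Fintype.card F % 8 = 7) →
      Subgroup.normalizer ((S : Subgroup (Matrix.SpecialLinearGroup (Fin 2) F)) :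
        Set (Matrix.SpecialLinearGroup (Fin 2) F)) = (S : Subgroup (Matrix.SpecialLinearGroup (Fin 2) F))) ∧
    ((Fintype.card F % 8 = 3 ∨ Fintype.card F % 8 = 5) →
      Nat.card (Subgroup.normalizer ((S : Subgroup (Matrix.SpecialLinearGroup (Fin 2) F)) :
        Set (Matrix.SpecialLinearGroup (Fin 2) F))) = 3 * Nat.card S) := by
  have h2 := two_ne_zero_of_odd_card hodd
  have hq := Fintype.one_lt_card (α := F)
  obtain ⟨t, ht⟩ := hodd
  obtain ⟨n, T, hT, hTc, hn⟩ : ∃ (n : ℕ) (T : Subgroup (Matrix.SpecialLinearGroup (Fin 2) F)), IsTorus T ∧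
      Nat.card T = n ∧ ((Fintype.card F % 4 = 1 ∧ n = Fintype.card F - 1) ∨
        (Fintype.card F % 4 = 3 ∧ n = Fintype.card F + 1)) := by
    rcases (by omega : Fintype.card F % 4 = 1 ∨ Fintype.card F % 4 = 3) with h4 | h4
    · refine ⟨_, _, split_isTorus h2 (by rw [Nat.card_eq_fintype_card]; omega), ?_, Or.inl ⟨h4, rfl⟩⟩
      rw [← Nat.card_congr (MonoidHom.ofInjective Cfsg.Agent.LinearGroup.splitTorus_injective).toEquiv,
        Nat.card_units, Nat.card_eq_fintype_card]
    · obtain ⟨T, hT, hc, -⟩ := exists_nonsplit_isTorus (F := F) ⟨t, ht⟩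
      exact ⟨_, T, hT, hc, Or.inr ⟨h4, rfl⟩⟩
  obtain ⟨m, hm⟩ : ∃ m, n.factorization 2 = m := ⟨_, rfl⟩
  have hn0 : n ≠ 0 := by omega
  have hfac : (Nat.card (Matrix.SpecialLinearGroup (Fin 2) F)).factorization 2 = m + 1 := by
    rw [card_sl_two', Nat.factorization_mul (by omega) (Nat.mul_ne_zero (by omega) (by omega)), Finsupp.add_apply,
      Nat.factorization_mul (by omega) (by omega), Finsupp.add_apply,
      Nat.factorization_eq_zero_of_not_dvd (by omega : ¬ 2 ∣ Fintype.card F), zero_add]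
    have key : ∀ k, k % 4 = 2 → k.factorization 2 = 1 := by
      intro k hk
      obtain ⟨w, hw⟩ : ∃ w, k = 2 * (2 * w + 1) := ⟨k / 4, by omega⟩
      rw [hw, Nat.factorization_mul (by omega) (by omega), Finsupp.add_apply,
        Nat.prime_two.factorization_self, Nat.factorization_eq_zero_of_not_dvd (by omega)]
    rcases hn with ⟨h4, rfl⟩ | ⟨h4, rfl⟩
    · rw [key (Fintype.card F + 1) (by omega), hm]
    · rw [key (Fintype.card F - 1) (by omega), hm, add_comm]
  have h4n : 4 ∣ n := by omega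
  have hm2 : 2 ≤ m := hm ▸ (Nat.prime_two.pow_dvd_iff_le_factorization (k := 2) hn0).1 h4n
  have h8 : 3 ≤ m ↔ 8 ∣ n := hm ▸ (Nat.prime_two.pow_dvd_iff_le_factorization (k := 3) hn0).symm
  obtain ⟨Q, hC, hN3, hN2⟩ := sylow_two_main h2 T hT m hm2 (by rw [hTc, hm]) hfac
  obtain ⟨g, hg⟩ := MulAction.exists_smul_eq (Matrix.SpecialLinearGroup (Fin 2) F) Q S
  have hS : (S : Subgroup (Matrix.SpecialLinearGroup (Fin 2) F)) =
      (Q : Subgroup (Matrix.SpecialLinearGroup (Fin 2) F)).map (MulAut.conj g).toMonoidHom := by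
    rw [← hg]; rfl
  obtain ⟨eC, eN⟩ := card_centralizer_map (MulAut.conj g) (Q : Subgroup (Matrix.SpecialLinearGroup (Fin 2) F))
  have hcardS : Nat.card S = 2 ^ (m + 1) := by rw [Sylow.card_eq_multiplicity, hfac]
  refine ⟨?_, fun h => ?_, fun h => ?_⟩
  · rw [hS, eC, hC]
    ext z
    constructor
    · rintro ⟨y, hy, rfl⟩
      rw [show (MulAut.conj g).toMonoidHom y = y by
        show g * y * g⁻¹ = y
        rw [Subgroup.mem_center_iff.1 hy g, mul_inv_cancel_right]]
      exact hy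
    · intro hz
      exact ⟨z, hz, by show g * z * g⁻¹ = z; rw [Subgroup.mem_center_iff.1 hz g, mul_inv_cancel_right]⟩
  · rw [hS, eN, hN3 (h8.2 (by omega))]
  · have hm' : m = 2 := by
      by_contra hne
      have := h8.1 (by omega)
      omega
    have hle : Nat.card (Subgroup.normalizer ((S : Subgroup (Matrix.SpecialLinearGroup (Fin 2) F)) :
        Set (Matrix.SpecialLinearGroup (Fin 2) F))) ≤ 24 := by
      rw [hS, eN, Nat.card_congr (Subgroup.equivMapOfInjective _ _ (MulAut.conj g).injective).symm.toEquiv]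
      exact hN2 hm'
    obtain ⟨E, r, hEc, hr, hrE⟩ := exists_three_normalising_eight (F := F) ⟨t, ht⟩
    obtain ⟨k, hk⟩ := MulAction.exists_smul_eq (Matrix.SpecialLinearGroup (Fin 2) F)
      (Sylow.ofCard E (by rw [hEc, hfac, hm']; rfl)) S
    have hS' : (S : Subgroup (Matrix.SpecialLinearGroup (Fin 2) F)) = E.map (MulAut.conj k).toMonoidHom := by
      rw [← hk]; rfl
    obtain ⟨-, eN'⟩ := card_centralizer_map (MulAut.conj k) E
    have hge : 24 ∣ Nat.card (Subgroup.normalizer ((S : Subgroup (Matrix.SpecialLinearGroup (Fin 2) F)) :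
        Set (Matrix.SpecialLinearGroup (Fin 2) F))) := by
      rw [hS', eN', Nat.card_congr (Subgroup.equivMapOfInjective _ _ (MulAut.conj k).injective).symm.toEquiv]
      refine Nat.Coprime.mul_dvd_of_dvd_of_dvd (m := 8) (n := 3) (by norm_num) ?_ ?_
      · rw [← hEc]; exact Subgroup.card_dvd_of_le Subgroup.le_normalizer
      · rw [← hr, ← Subgroup.orderOf_mk r hrE]; exact orderOf_dvd_natCard _
    have := Nat.le_of_dvd Nat.card_pos hge
    rw [hcardS, hm']
    omega

end Cfsg.Agent.SL2Tor
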