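import Mathlib

/-! Conjugacy in `SL₂` over a finite field by traces, and traces of products of two classes. -/

set_option autoImplicit false

namespace Cfsg.Agent.SL2Tor

open Matrix

variable {F : Type*} [Field F]

/-- A matrix is a scalar. -/
def IsScalar (A : Matrix (Fin 2) (Fin 2) F) : Prop := A 0 1 = 0 ∧ A 1 0 = 0 ∧ A 0 0 = A 1 1

theorem exists_cyclic_vector {A : Matrix (Fin 2) (Fin 2) F} (h : ¬ IsScalar A) :
    ∃ u v : F, (A 1 0 * u + A 1 1 * v) * u - (A 0 0 * u + A 0 1 * v) * v ≠ 0 := by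
  by_contra hc
  push Not at hc
  have h1 := hc 1 0
  have h2 := hc 0 1
  have h3 := hc 1 1
  simp at h1 h2
  refine h ⟨h2, h1, ?_⟩
  rw [h1, h2] at h3
  linear_combination -h3

/-- The companion matrix with trace `t` and determinant one. -/
def comp2 (t : F) : Matrix (Fin 2) (Fin 2) F := !![0, -1; 1, t]

theorem exists_gl_comp {A : Matrix (Fin 2) (Fin 2) F} (hdet : A.det = 1) (h : ¬ IsScalar A) :
    ∃ P : GL (Fin 2) F, A * P.val = P.val * comp2 A.trace := by
  obtain ⟨u, v, huv⟩ := exists_cyclic_vector h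
  refine ⟨GeneralLinearGroup.mkOfDetNeZero !![u, A 0 0 * u + A 0 1 * v; v, A 1 0 * u + A 1 1 * v]
    (by rw [det_fin_two_of]; intro e; exact huv (by linear_combination e)), ?_⟩
  rw [det_fin_two] at hdet
  ext i j
  fin_cases i <;> fin_cases j <;>
    simp [GeneralLinearGroup.mkOfDetNeZero, comp2, Matrix.mul_apply, Fin.sum_univ_two, trace_fin_two]
  · linear_combination (-u) * hdet
  · linear_combination (-v) * hdet

theorem conj_gl_of_trace {A B : Matrix (Fin 2) (Fin 2) F} (hA : A.det = 1) (hB : B.det = 1)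
    (hA' : ¬ IsScalar A) (hB' : ¬ IsScalar B) (ht : A.trace = B.trace) :
    ∃ P : GL (Fin 2) F, B = P.val * A * P⁻¹.val := by
  obtain ⟨P, hP⟩ := exists_gl_comp hA hA'
  obtain ⟨Q, hQ⟩ := exists_gl_comp hB hB'
  refine ⟨Q * P⁻¹, ?_⟩
  have e1 : B = Q.val * comp2 B.trace * Q⁻¹.val := by
    rw [← hQ]; simp [Matrix.mul_assoc]
  have e2 : comp2 A.trace = P⁻¹.val * A * P.val := by
    rw [Matrix.mul_assoc, hP]; simp
  rw [e1, ← ht, e2]
  simp [_root_.mul_inv_rev, Units.val_mul, Matrix.mul_assoc]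

theorem not_isScalar_of_trace {A : Matrix (Fin 2) (Fin 2) F} (hA : A.det = 1)
    (ht : A.trace ^ 2 ≠ 4) : ¬ IsScalar A := by
  rintro ⟨h1, h2, h3⟩
  rw [det_fin_two] at hA
  rw [trace_fin_two] at ht
  rw [h1, h2, h3] at hA
  rw [h3] at ht
  exact ht (by linear_combination 4 * hA)

theorem exists_affine_form [Finite F] (hne : (2 : F) ≠ 0) {a : F} (ha : a ≠ 0) (c : F) :
    ∃ x y : F, x ^ 2 + a * y ^ 2 = c := by
  have := Fintype.ofFinite F
  obtain ⟨x, y, h⟩ := FiniteField.exists_root_sum_quadratic (f := Polynomial.X ^ 2)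
    (g := Polynomial.C a * Polynomial.X ^ 2 - Polynomial.C c) (by simp)
    (by
      have h2 : (Polynomial.C a * Polynomial.X ^ 2).degree = 2 := Polynomial.degree_C_mul_X_pow 2 ha
      rw [Polynomial.degree_sub_eq_left_of_degree_lt
        (by rw [h2]; exact lt_of_le_of_lt Polynomial.degree_C_le (by decide)), h2])
    (by
      refine Nat.odd_iff.1 (Nat.not_even_iff_odd.1 fun he => hne ?_)
      have : ringChar F = 2 := FiniteField.even_card_iff_char_two.2 (Nat.even_iff.1 he)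
      exact_mod_cast (ringChar.spec F 2).2 (by rw [this]))
  exact ⟨x, y, by simp at h; linear_combination h⟩

/-- A non-degenerate binary form plus linear terms takes every value. -/
theorem exists_conic [Finite F] {t : F} (ht : t ^ 2 ≠ 4) (b₁ b₂ c : F) :
    ∃ x y : F, x ^ 2 + t * x * y + y ^ 2 + b₁ * x + b₂ * y = c := by
  by_cases h2 : (2 : F) = 0
  · have ht0 : t ≠ 0 := fun e => ht (by rw [e]; linear_combination (-2) * h2)
    have : CharP F 2 := CharTwo.of_one_ne_zero_of_two_eq_zero one_ne_zero h2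
    set d := c - (b₂ / t) ^ 2 - t * (b₂ / t) * (b₁ / t) - (b₁ / t) ^ 2 - b₁ * (b₂ / t) - b₂ * (b₁ / t)
    obtain ⟨z, hz⟩ := FiniteField.isSquare_of_char_two (ringChar.eq F 2) d
    refine ⟨b₂ / t + z, b₁ / t, ?_⟩
    have e1 : t * (b₁ / t) = b₁ := mul_div_cancel₀ _ ht0
    linear_combination (z : F) * e1 + (z * b₁ + b₂ / t * z) * h2 - hz
  · have ha : 1 - t ^ 2 / 4 ≠ 0 := by
      intro e
      have h4 : (4 : F) ≠ 0 := by
        have := mul_ne_zero h2 h2
        norm_num at this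
        exact this
      field_simp at e
      exact ht (by linear_combination -e)
    set a := 1 - t ^ 2 / 4 with hadef
    set e := b₂ - t * b₁ / 2 with hedef
    obtain ⟨X, Y, h⟩ := exists_affine_form h2 ha (c + b₁ ^ 2 / 4 + e ^ 2 / (4 * a))
    refine ⟨X - t * (Y - e / (2 * a)) / 2 - b₁ / 2, Y - e / (2 * a), ?_⟩
    have h4 : (4 : F) ≠ 0 := by
      have := mul_ne_zero h2 h2
      norm_num at this
      exact this
    have ha4 : a * 4 = 4 - t ^ 2 := by rw [hadef]; field_simp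
    have he2 : e * 2 = 2 * b₂ - t * b₁ := by rw [hedef]; field_simp
    generalize a = a' at *
    generalize e = e' at *
    field_simp at h ⊢
    grind

theorem exists_det_eq [Finite F] {A : Matrix (Fin 2) (Fin 2) F} (hA : A.det = 1)
    (ht : A.trace ^ 2 ≠ 4) (c : F) :
    ∃ x y : F, (x • (1 : Matrix (Fin 2) (Fin 2) F) + y • A).det = c := by
  obtain ⟨x, y, h⟩ := exists_conic ht 0 0 c
  refine ⟨x, y, ?_⟩
  rw [det_fin_two] at hA ⊢
  rw [trace_fin_two] at h
  simp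
  linear_combination h + y ^ 2 * hA

/-- Regular semisimple classes of `GL₂` do not split in `SL₂`. -/
theorem exists_sl_conj_of_gl [Finite F] (A : Matrix.SpecialLinearGroup (Fin 2) F)
    (ht : (A : Matrix (Fin 2) (Fin 2) F).trace ^ 2 ≠ 4) (P : GL (Fin 2) F) :
    ∃ x : Matrix.SpecialLinearGroup (Fin 2) F,
      ((x * A * x⁻¹ : Matrix.SpecialLinearGroup (Fin 2) F) : Matrix (Fin 2) (Fin 2) F) =
        P.val * (A : Matrix (Fin 2) (Fin 2) F) * P⁻¹.val := by
  obtain ⟨a, b, hab⟩ := exists_det_eq A.2 ht (P.val.det)⁻¹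
  obtain ⟨x, hx⟩ : ∃ x : Matrix.SpecialLinearGroup (Fin 2) F, (x : Matrix (Fin 2) (Fin 2) F) =
      P.val * (a • 1 + b • (A : Matrix (Fin 2) (Fin 2) F)) :=
    ⟨⟨_, by rw [Matrix.det_mul, hab, mul_inv_cancel₀ (show P.val.det ≠ 0 from P.det.ne_zero)]⟩, rfl⟩
  obtain ⟨T, hT⟩ : ∃ T : Matrix.SpecialLinearGroup (Fin 2) F, (T : Matrix (Fin 2) (Fin 2) F) =
      P.val * (A : Matrix (Fin 2) (Fin 2) F) * P⁻¹.val :=
    ⟨⟨_, by rw [Matrix.det_units_conj]; exact A.2⟩, rfl⟩
  refine ⟨x, ?_⟩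
  have h : x * A * x⁻¹ = T := mul_inv_eq_iff_eq_mul.2 (Subtype.ext (by
    rw [Matrix.SpecialLinearGroup.coe_mul, Matrix.SpecialLinearGroup.coe_mul, hx, hT]
    simp [Matrix.mul_assoc, Matrix.mul_add, Matrix.add_mul]))
  rw [h, hT]

/-- Non-scalar elements of equal regular semisimple trace are conjugate. -/
theorem isConj_of_trace [Finite F] (A B : Matrix.SpecialLinearGroup (Fin 2) F)
    (ht : (A : Matrix (Fin 2) (Fin 2) F).trace = (B : Matrix (Fin 2) (Fin 2) F).trace)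
    (h4 : (A : Matrix (Fin 2) (Fin 2) F).trace ^ 2 ≠ 4) :
    ∃ x : Matrix.SpecialLinearGroup (Fin 2) F, B = x * A * x⁻¹ := by
  obtain ⟨P, hP⟩ := conj_gl_of_trace A.2 B.2 (not_isScalar_of_trace A.2 h4)
    (not_isScalar_of_trace B.2 (ht ▸ h4)) ht
  obtain ⟨x, hx⟩ := exists_sl_conj_of_gl A h4 P
  exact ⟨x, Subtype.ext (hP.trans hx.symm)⟩

/-- The products of two regular semisimple classes have every trace. -/
theorem exists_trace_mul [Finite F] (A B : Matrix.SpecialLinearGroup (Fin 2) F)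
    (hA : (A : Matrix (Fin 2) (Fin 2) F).trace ^ 2 ≠ 4)
    (hB : (B : Matrix (Fin 2) (Fin 2) F).trace ^ 2 ≠ 4) (c : F) :
    ∃ x : Matrix.SpecialLinearGroup (Fin 2) F,
      ((A * (x * B * x⁻¹) : Matrix.SpecialLinearGroup (Fin 2) F) : Matrix (Fin 2) (Fin 2) F).trace = c := by
  set α := (A : Matrix (Fin 2) (Fin 2) F).trace with hα
  set β := (B : Matrix (Fin 2) (Fin 2) F).trace with hβ
  obtain ⟨p, q, hpq⟩ := exists_conic (t := -α) (by rwa [neg_sq]) (-β) (α * β - c) (-1)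
  obtain ⟨B', hB'⟩ : ∃ B' : Matrix.SpecialLinearGroup (Fin 2) F, (B' : Matrix (Fin 2) (Fin 2) F) =
      !![p, q; q + α * (β - p) - c, β - p] :=
    ⟨⟨_, by rw [det_fin_two_of]; linear_combination -hpq⟩, rfl⟩
  obtain ⟨A', hA'⟩ : ∃ A' : Matrix.SpecialLinearGroup (Fin 2) F, (A' : Matrix (Fin 2) (Fin 2) F) = comp2 α :=
    ⟨⟨_, by simp [comp2, det_fin_two_of]⟩, rfl⟩
  obtain ⟨y, hy⟩ := isConj_of_trace A' A (by rw [hA', ← hα]; simp [comp2, trace_fin_two])
    (by rw [hA']; simpa [comp2, trace_fin_two] using hA)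
  obtain ⟨z, hz⟩ := isConj_of_trace B B' (by rw [hB', ← hβ]; simp [trace_fin_two]) hB
  refine ⟨y * z, ?_⟩
  have : A * ((y * z) * B * (y * z)⁻¹) = y * (A' * B') * y⁻¹ := by rw [hy, hz]; group
  rw [this]
  have htr : ∀ u : Matrix.SpecialLinearGroup (Fin 2) F,
      ((y * u * y⁻¹ : Matrix.SpecialLinearGroup (Fin 2) F) : Matrix (Fin 2) (Fin 2) F).trace =
        (u : Matrix (Fin 2) (Fin 2) F).trace := fun u => by
    rw [Matrix.SpecialLinearGroup.coe_mul, Matrix.SpecialLinearGroup.coe_mul, Matrix.trace_mul_comm,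
      ← Matrix.mul_assoc, ← Matrix.SpecialLinearGroup.coe_mul, inv_mul_cancel, Matrix.SpecialLinearGroup.coe_one,
      Matrix.one_mul]
  rw [htr, Matrix.SpecialLinearGroup.coe_mul, hA', hB']
  simp [comp2, trace_fin_two, Matrix.mul_apply, Fin.sum_univ_two]

theorem trace_conj (y u : Matrix.SpecialLinearGroup (Fin 2) F) :
    ((y * u * y⁻¹ : Matrix.SpecialLinearGroup (Fin 2) F) : Matrix (Fin 2) (Fin 2) F).trace =
      (u : Matrix (Fin 2) (Fin 2) F).trace := by
  rw [Matrix.SpecialLinearGroup.coe_mul, Matrix.SpecialLinearGroup.coe_mul, Matrix.trace_mul_comm,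
    ← Matrix.mul_assoc, ← Matrix.SpecialLinearGroup.coe_mul, inv_mul_cancel, Matrix.SpecialLinearGroup.coe_one,
    Matrix.one_mul]

theorem isScalar_iff_mem_center (A : Matrix.SpecialLinearGroup (Fin 2) F) :
    IsScalar (A : Matrix (Fin 2) (Fin 2) F) ↔ A ∈ Subgroup.center (Matrix.SpecialLinearGroup (Fin 2) F) := by
  rw [Matrix.SpecialLinearGroup.mem_center_iff]
  constructor
  · rintro ⟨h1, h2, h3⟩
    have hd := A.2
    rw [det_fin_two, h1, h2, h3] at hd
    refine ⟨(A : Matrix (Fin 2) (Fin 2) F) 1 1, by rw [Fintype.card_fin]; linear_combination hd, ?_⟩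
    ext i j
    fin_cases i <;> fin_cases j <;> simp [h1, h2, h3]
  · rintro ⟨c, -, hc⟩
    refine ⟨?_, ?_, ?_⟩ <;> rw [← hc] <;> simp

end Cfsg.Agent.SL2Tor
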