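import Cfsg.Agent.Lib.LinearGroup.TorusSylow
import Mathlib.GroupTheory.Complement

/-! The group `SL₂(3)`. -/

set_option autoImplicit false
set_option maxRecDepth 100000

namespace Cfsg.Agent.SL2Tor

open Matrix
open scoped commutatorElement

/-- `SL₂(3)`. -/
abbrev SL23 := Matrix.SpecialLinearGroup (Fin 2) (ZMod 3)

theorem sl23_pow_four_mul : ∀ g h : SL23, g ^ 4 = 1 → h ^ 4 = 1 → (g * h) ^ 4 = 1 := by decide +kernel

/-- The quaternion subgroup of `SL₂(3)`. -/
def quatSub : Subgroup SL23 where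
  carrier := {g | g ^ 4 = 1}
  one_mem' := one_pow 4
  mul_mem' := fun {g h} hg hh => sl23_pow_four_mul g h hg hh
  inv_mem' := fun {g} hg => by show g⁻¹ ^ 4 = 1; rw [inv_pow, hg, inv_one]

theorem mem_quatSub {g : SL23} : g ∈ quatSub ↔ g ^ 4 = 1 := Iff.rfl

theorem card_sl23 : Nat.card SL23 = 24 := by
  rw [Nat.card_eq_fintype_card]; decide +kernel

theorem card_center_sl23 : Nat.card (Subgroup.center SL23) = 2 := by
  rw [Nat.card_congr (Equiv.subtypeEquivRight (fun g => Subgroup.mem_center_iff (z := g))),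
    Nat.card_eq_fintype_card]
  decide +kernel

theorem card_quatSub : Nat.card quatSub = 8 := by
  rw [Nat.card_congr (Equiv.subtypeEquivRight (fun g => mem_quatSub (g := g))), Nat.card_eq_fintype_card]
  decide +kernel

theorem sl23_commutator_pow : ∀ a b : SL23, ⁅a, b⁆ ^ 4 = 1 := by decide +kernel

theorem sl23_exists_commutator : ∀ g : SL23, g ^ 4 = 1 → ∃ a b : SL23, ⁅a, b⁆ = g := by decide +kernel

theorem commutator_eq_quatSub : commutator SL23 = quatSub := by
  apply le_antisymm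
  · rw [commutator_def, Subgroup.commutator_le]
    exact fun a _ b _ => sl23_commutator_pow a b
  · intro g hg
    obtain ⟨a, b, rfl⟩ := sl23_exists_commutator g hg
    exact Subgroup.commutator_mem_commutator (Subgroup.mem_top a) (Subgroup.mem_top b)

theorem quatSub_equiv : Nonempty (quatSub ≃* QuaternionGroup 2) := by
  have key : ∃ a x : quatSub, orderOf a = 2 * 2 ∧ x * x = a ^ 2 ∧ x * a = a⁻¹ * x := by
    obtain ⟨a, x, ha4, ha2, h1, h2, h3⟩ : ∃ a x : SL23, a ^ 4 = 1 ∧ a ^ 2 ≠ 1 ∧ x ^ 4 = 1 ∧ x * x = a ^ 2 ∧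
        x * a = a⁻¹ * x := by decide +kernel
    refine ⟨⟨a, mem_quatSub.2 ha4⟩, ⟨x, mem_quatSub.2 h1⟩, ?_, Subtype.ext h2, Subtype.ext h3⟩
    rw [Subgroup.orderOf_mk]
    exact orderOf_eq_prime_pow (p := 2) (n := 1) (by simpa using ha2) (by simpa using ha4)
  obtain ⟨a, x, ha, hx, hax⟩ := key
  obtain ⟨f, hf⟩ := Cfsg.Agent.LinearGroup.exists_quaternion_subgroup le_rfl a x ha hx hax
  refine ⟨(MulEquiv.ofBijective f ?_).symm⟩
  refine (Nat.bijective_iff_injective_and_card f).2 ⟨hf, ?_⟩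
  rw [card_quatSub, Nat.card_eq_fintype_card, QuaternionGroup.card]

theorem sl23_prod_conj : ∀ g y : SL23, g ^ 4 = 1 → (∃ h, h * g ≠ g * h) → y ^ 4 = 1 →
    y = 1 ∨ (∃ u, y = u * g * u⁻¹) ∨ ∃ u, y = u * g * u⁻¹ * g := by decide +kernel

theorem sl23_commutator_noncentral : ∀ g : SL23, g ^ 4 ≠ 1 →
    ∃ h k : SL23, k * (h * g * h⁻¹ * g⁻¹) ≠ (h * g * h⁻¹ * g⁻¹) * k ∧ (h * g * h⁻¹ * g⁻¹) ^ 4 = 1 := by
  decide +kernel

theorem sl23_cover : ∀ g y : SL23, g ^ 4 ≠ 1 → y ^ 4 = 1 ∨ (y * g⁻¹) ^ 4 = 1 ∨ (y * g) ^ 4 = 1 := by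
  decide +kernel

theorem sl23_normal (N : Subgroup SL23) (hN : N.Normal) :
    N = ⊥ ∨ N = ⊤ ∨ N = Subgroup.center SL23 ∨ N = quatSub := by
  by_cases hc : N ≤ Subgroup.center SL23
  · have h := Subgroup.card_dvd_of_le hc
    rw [card_center_sl23, Nat.dvd_prime Nat.prime_two] at h
    rcases h with h | h
    · exact Or.inl (Subgroup.eq_bot_of_card_eq N h)
    · exact Or.inr (Or.inr (Or.inl (Subgroup.eq_of_le_of_card_ge hc (by rw [card_center_sl23, h]))))
  have hQ : quatSub ≤ N := by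
    obtain ⟨g, hg, hgc⟩ := Set.not_subset.1 hc
    obtain ⟨g', hg', hg4, hgc'⟩ : ∃ g' ∈ N, g' ^ 4 = 1 ∧ ∃ h, h * g' ≠ g' * h := by
      by_cases h4 : g ^ 4 = 1
      · exact ⟨g, hg, h4, by by_contra h; push Not at h; exact hgc (Subgroup.mem_center_iff.2 h)⟩
      · obtain ⟨h, k, hk, hk4⟩ := sl23_commutator_noncentral g h4
        exact ⟨_, mul_mem (hN.conj_mem g hg h) (inv_mem hg), hk4, k, hk⟩
    intro y hy
    rcases sl23_prod_conj g' y hg4 hgc' hy with rfl | ⟨u, rfl⟩ | ⟨u, rfl⟩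
    · exact one_mem N
    · exact hN.conj_mem g' hg' u
    · exact mul_mem (hN.conj_mem g' hg' u) hg'
  by_cases hle : N ≤ quatSub
  · exact Or.inr (Or.inr (Or.inr (le_antisymm hle hQ)))
  · refine Or.inr (Or.inl ((Subgroup.eq_top_iff' N).2 fun y => ?_))
    obtain ⟨g, hg, hgQ⟩ := Set.not_subset.1 hle
    rcases sl23_cover g y hgQ with h | h | h
    · exact hQ h
    · simpa using mul_mem (hQ (show y * g⁻¹ ∈ quatSub from h)) hg
    · simpa using mul_mem (hQ (show y * g ∈ quatSub from h)) (inv_mem hg)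

theorem sl23_complement (P : Sylow 3 SL23) :
    Subgroup.IsComplement' quatSub (P : Subgroup SL23) := by
  have hP : Nat.card (P : Subgroup SL23) = 3 := by
    rw [Sylow.card_eq_multiplicity, card_sl23, show 24 = 3 * 8 by norm_num,
      Nat.factorization_mul (by norm_num) (by norm_num), Finsupp.add_apply,
      Nat.Prime.factorization_self Nat.prime_three, Nat.factorization_eq_zero_of_not_dvd (by norm_num),
      pow_one]
  refine Subgroup.isComplement'_of_coprime ?_ ?_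
  · rw [card_quatSub, hP, card_sl23]
  · rw [card_quatSub, hP]; norm_num

end Cfsg.Agent.SL2Tor
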