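import Cfsg.Agent.SL2Tor.Borel
import Mathlib.GroupTheory.GroupAction.CardCommute

/-! Class numbers of the Borel subgroup and of the torus normaliser in `SL₂(q)`, `q` odd. -/

set_option autoImplicit false

namespace Cfsg.Agent.SL2Tor

open Matrix Cfsg

variable {F : Type*} [Field F]

theorem two_ne_zero_of_odd_card [Fintype F] (hodd : Odd (Fintype.card F)) : (2 : F) ≠ 0 := by
  intro h2
  have hch : ringChar F = 2 := CharP.ringChar_of_prime_eq_zero Nat.prime_two (by exact_mod_cast h2)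
  have := FiniteField.even_card_of_char_two hch
  obtain ⟨k, hk⟩ := hodd
  omega

theorem units_sq_eq_iff (c r : Fˣ) : c ^ 2 = r ^ 2 ↔ c = r ∨ c = -r := by
  rw [Units.ext_iff, Units.val_pow_eq_pow_val, Units.val_pow_eq_pow_val, sq_eq_sq_iff_eq_or_eq_neg]
  exact or_congr Units.ext_iff.symm (by rw [← Units.val_neg]; exact Units.ext_iff.symm)

theorem card_units_sq_eq [Fintype F] [DecidableEq F] (h2 : (2 : F) ≠ 0) (r : Fˣ) :
    (Finset.univ.filter (fun c : Fˣ => c ^ 2 = r ^ 2)).card = 2 := by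
  rw [Finset.card_eq_two]
  refine ⟨r, -r, fun e => mul_ne_zero h2 r.ne_zero ?_, ?_⟩
  · have e' := congrArg Units.val e
    rw [Units.val_neg] at e'
    linear_combination e'
  · ext c
    simp [units_sq_eq_iff]

theorem sl_eq_iff (g h : Matrix.SpecialLinearGroup (Fin 2) F) :
    g = h ↔ (g : Matrix (Fin 2) (Fin 2) F) = (h : Matrix (Fin 2) (Fin 2) F) :=
  ⟨fun e => by rw [e], Subtype.ext⟩

theorem borel_commute_iff (p r : Fˣ × F) :
    Commute (borelEquiv p) (borelEquiv r) ↔
      r.2 * ((p.1 : F) - ((p.1⁻¹ : Fˣ) : F)) = p.2 * ((r.1 : F) - ((r.1⁻¹ : Fˣ) : F)) := by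
  rw [Commute, SemiconjBy, Subtype.ext_iff, sl_eq_iff]
  change ((!![(p.1 : F), p.2; 0, ((p.1⁻¹ : Fˣ) : F)] * !![(r.1 : F), r.2; 0, ((r.1⁻¹ : Fˣ) : F)] :
      Matrix (Fin 2) (Fin 2) F) = _ * !![(p.1 : F), p.2; 0, ((p.1⁻¹ : Fˣ) : F)]) ↔ _
  rw [show ((borelEquiv r).1 : Matrix (Fin 2) (Fin 2) F) = !![(r.1 : F), r.2; 0, ((r.1⁻¹ : Fˣ) : F)] from rfl,
    Matrix.mul_fin_two, Matrix.mul_fin_two]
  constructor
  · intro h
    have e := congrFun (congrFun h 0) 1
    simp at e
    simp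
    linear_combination e
  · intro h
    simp at h
    ext i j
    fin_cases i <;> fin_cases j <;> simp <;> first | linear_combination h | ring

theorem card_line (ca cb : F) (h : ca ≠ 0 ∨ cb ≠ 0) :
    Nat.card {ts : F × F // ts.2 * ca = ts.1 * cb} = Nat.card F := by
  refine (Nat.card_eq_of_bijective (fun k : F => (⟨(k * ca, k * cb), by ring⟩ :
    {ts : F × F // ts.2 * ca = ts.1 * cb})) ⟨fun k k' e => ?_, ?_⟩).symm
  · have e' := congrArg Subtype.val e
    simp at e'
    rcases h with h | h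
    · exact e'.1.resolve_right h
    · exact e'.2.resolve_right h
  · rintro ⟨⟨t, s⟩, e⟩
    dsimp only at e
    by_cases hca : ca = 0
    · have hcb := h.resolve_left (fun x => x hca)
      have ht : t = 0 := by
        rw [hca, mul_zero] at e
        exact (mul_eq_zero.1 e.symm).resolve_right hcb
      exact ⟨s / cb, Subtype.ext (Prod.ext (by simp [hca, ht]) (by simp [hcb]))⟩
    · refine ⟨t / ca, Subtype.ext (Prod.ext (by simp [hca]) ?_)⟩
      field_simp
      linear_combination -e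

theorem card_borel_classes [Fintype F] (hodd : Odd (Fintype.card F)) :
    Nat.card (ConjClasses ((upperTriangularGL 2 F).comap Matrix.SpecialLinearGroup.toGL :
      Subgroup (Matrix.SpecialLinearGroup (Fin 2) F))) = Fintype.card F + 3 := by
  classical
  have h2 := two_ne_zero_of_odd_card hodd
  obtain ⟨ev, hev⟩ : ∃ ev : Fˣ → F, ∀ a, ev a = (a : F) - ((a⁻¹ : Fˣ) : F) := ⟨_, fun _ => rfl⟩
  have hev0 : ∀ a, ev a = 0 ↔ a ^ 2 = 1 := by
    intro a
    rw [hev, sub_eq_zero, ← Units.ext_iff, pow_two, eq_inv_iff_mul_eq_one]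
  have h := card_comm_eq_card_conjClasses_mul_card ((upperTriangularGL 2 F).comap
    Matrix.SpecialLinearGroup.toGL : Subgroup (Matrix.SpecialLinearGroup (Fin 2) F))
  rw [card_borelSL, Nat.card_eq_fintype_card (α := F)] at h
  have e : {x : Fˣ × Fˣ × F × F // x.2.2.2 * ev x.1 = x.2.2.1 * ev x.2.1} ≃
      { p : ((upperTriangularGL 2 F).comap Matrix.SpecialLinearGroup.toGL :
          Subgroup (Matrix.SpecialLinearGroup (Fin 2) F)) × ((upperTriangularGL 2 F).comap
          Matrix.SpecialLinearGroup.toGL : Subgroup (Matrix.SpecialLinearGroup (Fin 2) F)) //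
        Commute p.1 p.2 } :=
    ({ toFun := fun x => ((x.1, x.2.2.1), (x.2.1, x.2.2.2))
       invFun := fun y => (y.1.1, y.2.1, y.1.2, y.2.2)
       left_inv := fun _ => rfl
       right_inv := fun _ => rfl } : Fˣ × Fˣ × F × F ≃ (Fˣ × F) × Fˣ × F).trans
      (Equiv.prodCongr borelEquiv borelEquiv) |>.subtypeEquiv (fun x => by
        simp only [Equiv.trans_apply, Equiv.coe_fn_mk, Equiv.prodCongr_apply, Prod.map]
        rw [borel_commute_iff, hev, hev])
  have e2 : {x : Fˣ × Fˣ × F × F // x.2.2.2 * ev x.1 = x.2.2.1 * ev x.2.1} ≃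
      Σ ab : Fˣ × Fˣ, {ts : F × F // ts.2 * ev ab.1 = ts.1 * ev ab.2} :=
    { toFun := fun x => ⟨(x.1.1, x.1.2.1), ⟨x.1.2.2, x.2⟩⟩
      invFun := fun y => ⟨(y.1.1, y.1.2, y.2.1), y.2.2⟩
      left_inv := fun _ => rfl
      right_inv := fun _ => rfl }
  rw [← Nat.card_congr e, Nat.card_congr e2, Nat.card_sigma] at h
  obtain ⟨D, hD⟩ : ∃ D : Finset (Fˣ × Fˣ), D = Finset.univ.filter (fun c : Fˣ => c ^ 2 = 1) ×ˢ
      Finset.univ.filter (fun c : Fˣ => c ^ 2 = 1) := ⟨_, rfl⟩
  have hDc : D.card = 4 := by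
    have := card_units_sq_eq h2 (1 : Fˣ)
    rw [one_pow] at this
    rw [hD, Finset.card_product, this]
  rw [← Finset.sum_add_sum_compl D,
    Finset.sum_eq_card_nsmul (b := Fintype.card F * Fintype.card F) (fun ab hab => ?_),
    Finset.sum_eq_card_nsmul (b := Fintype.card F) (fun ab hab => ?_),
    Finset.card_compl, hDc, Fintype.card_prod, Fintype.card_units, smul_eq_mul, smul_eq_mul] at h
  · obtain ⟨n, hn⟩ : ∃ n, Fintype.card F = n + 3 := ⟨Fintype.card F - 3, by
      have := Fintype.one_lt_card (α := F); obtain ⟨k, hk⟩ := hodd; omega⟩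
    rw [hn] at h ⊢
    rw [show n + 3 - 1 = n + 2 from rfl, show (n + 2) * (n + 2) - 4 = n * n + 4 * n by
      rw [Nat.sub_eq_iff_eq_add (by nlinarith)]; ring] at h
    refine Nat.eq_of_mul_eq_mul_right (m := (n + 2) * (n + 3)) (by positivity) ?_
    rw [← h]; ring
  · rw [hD, Finset.mem_compl, Finset.mem_product, Finset.mem_filter, Finset.mem_filter] at hab
    rw [card_line _ _ ?_, Nat.card_eq_fintype_card]
    simp only [Finset.mem_univ, true_and, not_and_or] at hab
    simpa [hev0] using hab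
  · rw [hD, Finset.mem_product, Finset.mem_filter, Finset.mem_filter] at hab
    rw [Nat.card_congr (Equiv.subtypeUnivEquiv (fun ts => by
      rw [(hev0 _).2 hab.1.2, (hev0 _).2 hab.2.2]; ring)), Nat.card_prod, Nat.card_eq_fintype_card]

/-- A monomial matrix of determinant one. -/
def monoSL : Bool × Fˣ → Matrix.SpecialLinearGroup (Fin 2) F
  | (false, a) => ⟨!![(a : F), 0; 0, ((a⁻¹ : Fˣ) : F)], by simp [det_fin_two_of]⟩
  | (true, a) => ⟨!![0, -(a : F); ((a⁻¹ : Fˣ) : F), 0], by simp [det_fin_two_of]⟩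

theorem monoSL_injective : Function.Injective (monoSL (F := F)) := by
  rintro ⟨_ | _, a⟩ ⟨_ | _, b⟩ h
  · have h' := congrFun (congrFun (congrArg Subtype.val h) 0) 0
    simp [monoSL] at h'; exact Prod.ext rfl (Units.ext h')
  · have h' := congrFun (congrFun (congrArg Subtype.val h) 0) 0
    simp [monoSL] at h'
  · have h' := congrFun (congrFun (congrArg Subtype.val h) 0) 0
    simp [monoSL] at h'
    first | exact absurd h'.symm b.ne_zero | exact absurd h' a.ne_zero
  · have h' := congrFun (congrFun (congrArg Subtype.val h) 0) 1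
    simp [monoSL] at h'; exact Prod.ext rfl (Units.ext h')

theorem commute_monoSL_iff (a b : Fˣ) :
    (Commute (monoSL (false, a)) (monoSL (false, b))) ∧
    (Commute (monoSL (false, a)) (monoSL (true, b)) ↔ a ^ 2 = 1) ∧
    (Commute (monoSL (true, b)) (monoSL (false, a)) ↔ a ^ 2 = 1) ∧
    (Commute (monoSL (true, a)) (monoSL (true, b)) ↔ a ^ 2 = b ^ 2) := by
  have key1 : Commute (monoSL (false, a)) (monoSL (true, b)) ↔ a ^ 2 = 1 := by
    rw [Commute, SemiconjBy, sl_eq_iff, Matrix.SpecialLinearGroup.coe_mul,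
      Matrix.SpecialLinearGroup.coe_mul]
    simp only [monoSL, Matrix.mul_fin_two]
    constructor
    · intro h
      have e := congrFun (congrFun h 0) 1
      simp at e
      apply Units.ext
      push_cast
      field_simp at e
      linear_combination e
    · intro h
      have h' : a⁻¹ = a := by rw [inv_eq_iff_mul_eq_one, ← pow_two, h]
      rw [h']
      ext i j; fin_cases i <;> fin_cases j <;> simp [mul_comm]
  refine ⟨?_, key1, ⟨fun h => key1.1 h.symm, fun h => (key1.2 h).symm⟩, ?_⟩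
  · rw [Commute, SemiconjBy, sl_eq_iff, Matrix.SpecialLinearGroup.coe_mul,
      Matrix.SpecialLinearGroup.coe_mul]
    simp only [monoSL, Matrix.mul_fin_two]
    ext i j; fin_cases i <;> fin_cases j <;> simp [mul_comm]
  · rw [Commute, SemiconjBy, sl_eq_iff, Matrix.SpecialLinearGroup.coe_mul,
      Matrix.SpecialLinearGroup.coe_mul]
    simp only [monoSL, Matrix.mul_fin_two]
    constructor
    · intro h
      have e := congrFun (congrFun h 0) 0
      simp at e
      apply Units.ext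
      push_cast
      field_simp at e
      linear_combination e
    · intro h
      rcases (units_sq_eq_iff a b).1 h with rfl | rfl
      · rfl
      · ext i j; fin_cases i <;> fin_cases j <;> simp [inv_neg, mul_comm]

variable (d : Matrix.SpecialLinearGroup (Fin 2) F)
  (hd01 : (d : Matrix (Fin 2) (Fin 2) F) 0 1 = 0) (hd10 : (d : Matrix (Fin 2) (Fin 2) F) 1 0 = 0)
  (hda : (d : Matrix (Fin 2) (Fin 2) F) 0 0 ^ 2 ≠ 1)
include hd01 hd10 hda

theorem centralizer_diag_iff (g : Matrix.SpecialLinearGroup (Fin 2) F) :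
    g ∈ Subgroup.centralizer ({d} : Set (Matrix.SpecialLinearGroup (Fin 2) F)) ↔
      ((g : Matrix (Fin 2) (Fin 2) F) 0 1 = 0 ∧ (g : Matrix (Fin 2) (Fin 2) F) 1 0 = 0) := by
  have hd := d.2
  rw [det_fin_two, hd01, zero_mul, sub_zero] at hd
  have hne : (d : Matrix (Fin 2) (Fin 2) F) 0 0 ≠ (d : Matrix (Fin 2) (Fin 2) F) 1 1 := fun e =>
    hda (by rw [pow_two]; linear_combination hd + (d : Matrix (Fin 2) (Fin 2) F) 0 0 * e)
  rw [Subgroup.mem_centralizer_singleton_iff, sl_eq_iff, Matrix.SpecialLinearGroup.coe_mul,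
    Matrix.SpecialLinearGroup.coe_mul, ← Matrix.ext_iff]
  simp only [Fin.forall_fin_two, Matrix.mul_apply, Fin.sum_univ_two, hd01, hd10, mul_zero, zero_mul,
    add_zero, zero_add]
  constructor
  · rintro ⟨⟨-, h1⟩, h2, -⟩
    exact ⟨(mul_left_cancel₀ (sub_ne_zero.2 hne) (by linear_combination -h1 : _ = ((d : Matrix (Fin 2) (Fin 2) F) 0 0 - (d : Matrix (Fin 2) (Fin 2) F) 1 1) * 0)),
      (mul_left_cancel₀ (sub_ne_zero.2 hne) (by linear_combination h2 : _ = ((d : Matrix (Fin 2) (Fin 2) F) 0 0 - (d : Matrix (Fin 2) (Fin 2) F) 1 1) * 0))⟩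
  · rintro ⟨h1, h2⟩
    simp [h1, h2, mul_comm]

theorem normalizer_diag_iff (g : Matrix.SpecialLinearGroup (Fin 2) F) :
    g ∈ Subgroup.normalizer ((Subgroup.centralizer ({d} : Set (Matrix.SpecialLinearGroup (Fin 2) F))) :
        Set (Matrix.SpecialLinearGroup (Fin 2) F)) ↔ ∃ p, monoSL p = g := by
  have hd := d.2
  rw [det_fin_two, hd01, zero_mul, sub_zero] at hd
  have hne : (d : Matrix (Fin 2) (Fin 2) F) 0 0 ≠ (d : Matrix (Fin 2) (Fin 2) F) 1 1 := fun e =>
    hda (by rw [pow_two]; linear_combination hd + (d : Matrix (Fin 2) (Fin 2) F) 0 0 * e)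
  constructor
  · intro hg
    have h := ((Subgroup.mem_normalizer_iff).1 hg d).1 (Subgroup.mem_centralizer_singleton_iff.2 rfl)
    rw [centralizer_diag_iff d hd01 hd10 hda, Matrix.SpecialLinearGroup.coe_mul,
      Matrix.SpecialLinearGroup.coe_mul, Matrix.SpecialLinearGroup.coe_inv, adjugate_fin_two] at h
    simp [Matrix.mul_apply, Fin.sum_univ_two, hd01, hd10] at h
    obtain ⟨h1, h2⟩ := h
    have hg' := g.2
    rw [det_fin_two] at hg'
    have e1 : (g : Matrix (Fin 2) (Fin 2) F) 0 0 * (g : Matrix (Fin 2) (Fin 2) F) 0 1 = 0 :=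
      (mul_eq_zero.1 (show ((d : Matrix (Fin 2) (Fin 2) F) 0 0 - (d : Matrix (Fin 2) (Fin 2) F) 1 1) *
        ((g : Matrix (Fin 2) (Fin 2) F) 0 0 * (g : Matrix (Fin 2) (Fin 2) F) 0 1) = 0 by
          linear_combination -h1)).resolve_left (sub_ne_zero.2 hne)
    have e2 : (g : Matrix (Fin 2) (Fin 2) F) 1 0 * (g : Matrix (Fin 2) (Fin 2) F) 1 1 = 0 :=
      (mul_eq_zero.1 (show ((d : Matrix (Fin 2) (Fin 2) F) 0 0 - (d : Matrix (Fin 2) (Fin 2) F) 1 1) *
        ((g : Matrix (Fin 2) (Fin 2) F) 1 0 * (g : Matrix (Fin 2) (Fin 2) F) 1 1) = 0 by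
          linear_combination h2)).resolve_left (sub_ne_zero.2 hne)
    rcases mul_eq_zero.1 e1 with a0 | b0
    · rw [a0, zero_mul, zero_sub] at hg'
      have hb : (g : Matrix (Fin 2) (Fin 2) F) 0 1 ≠ 0 := by intro e; simp [e] at hg'
      have hc : (g : Matrix (Fin 2) (Fin 2) F) 1 0 ≠ 0 := by intro e; simp [e] at hg'
      refine ⟨(true, Units.mk0 (-(g : Matrix (Fin 2) (Fin 2) F) 0 1) (neg_ne_zero.2 hb)), Subtype.ext ?_⟩
      have hd11 := (mul_eq_zero.1 e2).resolve_left hc
      ext i j; fin_cases i <;> fin_cases j <;> simp [monoSL, a0, hd11]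
      field_simp
      linear_combination hg'
    · rw [b0, zero_mul, sub_zero] at hg'
      have ha : (g : Matrix (Fin 2) (Fin 2) F) 0 0 ≠ 0 := by intro e; simp [e] at hg'
      have hd11 : (g : Matrix (Fin 2) (Fin 2) F) 1 1 ≠ 0 := by intro e; simp [e] at hg'
      refine ⟨(false, Units.mk0 _ ha), Subtype.ext ?_⟩
      have hc := (mul_eq_zero.1 e2).resolve_right hd11
      ext i j; fin_cases i <;> fin_cases j <;> simp [monoSL, b0, hc]
      field_simp
      linear_combination -hg'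
  · have key : ∀ (p : Bool × Fˣ) (h : Matrix.SpecialLinearGroup (Fin 2) F),
        h ∈ Subgroup.centralizer ({d} : Set (Matrix.SpecialLinearGroup (Fin 2) F)) →
          monoSL p * h * (monoSL p)⁻¹ ∈ Subgroup.centralizer ({d} : Set (Matrix.SpecialLinearGroup (Fin 2) F)) := by
      intro p h hh
      rw [centralizer_diag_iff d hd01 hd10 hda] at hh ⊢
      rw [Matrix.SpecialLinearGroup.coe_mul, Matrix.SpecialLinearGroup.coe_mul,
        Matrix.SpecialLinearGroup.coe_inv, adjugate_fin_two,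
        Matrix.eta_fin_two (h : Matrix (Fin 2) (Fin 2) F), hh.1, hh.2]
      rcases p with ⟨_ | _, a⟩ <;> simp [monoSL]
    rintro ⟨p, rfl⟩
    rw [Subgroup.mem_normalizer_iff]
    intro h
    refine ⟨key p h, fun hh => ?_⟩
    obtain ⟨q, hq⟩ : ∃ q, monoSL q = (monoSL p)⁻¹ := by
      rcases p with ⟨_ | _, a⟩
      · exact ⟨(false, a⁻¹), Subtype.ext (by
          rw [Matrix.SpecialLinearGroup.coe_inv, adjugate_fin_two]; simp [monoSL])⟩
      · exact ⟨(true, -a), Subtype.ext (by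
          rw [Matrix.SpecialLinearGroup.coe_inv, adjugate_fin_two]; simp [monoSL, inv_neg])⟩
    have := key q _ hh
    rw [hq, inv_inv] at this
    simpa [mul_assoc] using this

theorem normalizer_diag_sq (g : Matrix.SpecialLinearGroup (Fin 2) F)
    (hg : g ∈ Subgroup.normalizer ((Subgroup.centralizer ({d} : Set (Matrix.SpecialLinearGroup (Fin 2) F))) :
        Set (Matrix.SpecialLinearGroup (Fin 2) F)))
    (hn : g ∉ Subgroup.centralizer ({d} : Set (Matrix.SpecialLinearGroup (Fin 2) F))) :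
    ((g * g : Matrix.SpecialLinearGroup (Fin 2) F) : Matrix (Fin 2) (Fin 2) F) = -1 := by
  obtain ⟨⟨_ | _, a⟩, rfl⟩ := (normalizer_diag_iff d hd01 hd10 hda g).1 hg
  · exact absurd ((centralizer_diag_iff d hd01 hd10 hda _).2 ⟨rfl, rfl⟩) hn
  · rw [Matrix.SpecialLinearGroup.coe_mul]
    simp only [monoSL, Matrix.mul_fin_two]
    ext i j; fin_cases i <;> fin_cases j <;> simp

theorem normalizer_diag_counts [Fintype F] (hodd : Odd (Fintype.card F)) :
    Nat.card (Subgroup.normalizer ((Subgroup.centralizer ({d} : Set (Matrix.SpecialLinearGroup (Fin 2) F))) :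
        Set (Matrix.SpecialLinearGroup (Fin 2) F))) = 2 * (Fintype.card F - 1) ∧
    Nat.card (ConjClasses (Subgroup.normalizer ((Subgroup.centralizer
        ({d} : Set (Matrix.SpecialLinearGroup (Fin 2) F))) : Set (Matrix.SpecialLinearGroup (Fin 2) F)))) =
      (Fintype.card F + 5) / 2 := by
  classical
  have h2 := two_ne_zero_of_odd_card hodd
  obtain ⟨N, hN⟩ : ∃ N, N = Subgroup.normalizer ((Subgroup.centralizer
      ({d} : Set (Matrix.SpecialLinearGroup (Fin 2) F))) : Set (Matrix.SpecialLinearGroup (Fin 2) F)) :=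
    ⟨_, rfl⟩
  rw [← hN]
  have hmem : ∀ g, g ∈ N ↔ ∃ p, monoSL p = g := hN ▸ normalizer_diag_iff d hd01 hd10 hda
  obtain ⟨e, he⟩ : ∃ e : Bool × Fˣ ≃ N, ∀ p, (e p).1 = monoSL p :=
    ⟨Equiv.ofBijective (fun p => (⟨monoSL p, (hmem _).2 ⟨p, rfl⟩⟩ : N))
      ⟨fun p q h => monoSL_injective (congrArg Subtype.val h), fun g => by
        obtain ⟨p, hp⟩ := (hmem g).1 g.2; exact ⟨p, Subtype.ext hp⟩⟩, fun _ => rfl⟩
  have hc : Nat.card N = 2 * (Fintype.card F - 1) := by
    rw [← Nat.card_congr e, Nat.card_prod, Nat.card_units, Nat.card_eq_fintype_card (α := F)]; simp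
  refine ⟨hc, ?_⟩
  have h := card_comm_eq_card_conjClasses_mul_card N
  have e1 : {p : (Bool × Fˣ) × (Bool × Fˣ) // Commute (monoSL p.1) (monoSL p.2)} ≃
      {p : N × N // Commute p.1 p.2} :=
    (Equiv.prodCongr e e).subtypeEquiv (fun p => by
      simp only [Equiv.prodCongr_apply, Prod.map, Commute, SemiconjBy, Subtype.ext_iff, Subgroup.coe_mul, he])
  rw [← Nat.card_congr e1, hc, Nat.card_eq_fintype_card, Fintype.card_subtype, Finset.card_filter,
    Fintype.sum_prod_type, Fintype.sum_prod_type, Fintype.sum_bool] at h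
  simp only [Fintype.sum_prod_type, Fintype.sum_bool, fun a b : Fˣ => (commute_monoSL_iff a b).1,
    fun a b : Fˣ => (commute_monoSL_iff a b).2.1, fun a b : Fˣ => (commute_monoSL_iff b a).2.2.1,
    fun a b : Fˣ => (commute_monoSL_iff a b).2.2.2, Finset.sum_add_distrib, if_true] at h
  have s1 : (∑ a : Fˣ, if a ^ 2 = 1 then 1 else 0) = 2 := by
    rw [← Finset.card_filter]; simpa using card_units_sq_eq h2 (1 : Fˣ)
  have s2 : ∀ b : Fˣ, (∑ a : Fˣ, if b ^ 2 = a ^ 2 then 1 else 0) = 2 := fun b => by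
    rw [← Finset.card_filter]
    refine Eq.trans ?_ (card_units_sq_eq h2 b)
    simp only [eq_comm]
  have s3 : ∑ _a : Fˣ, ∑ b : Fˣ, (if b ^ 2 = 1 then 1 else 0) = (Fintype.card F - 1) * 2 := by
    simp [s1, Fintype.card_units]
  have s4 : ∑ a : Fˣ, ∑ _b : Fˣ, (if a ^ 2 = 1 then 1 else 0) = (Fintype.card F - 1) * 2 := by
    rw [Finset.sum_comm, s3]
  simp only [s2, s3, Finset.sum_const, Finset.card_univ, Fintype.card_units, smul_eq_mul, mul_one, ← Finset.mul_sum, s1] at h
  obtain ⟨n, hn⟩ : ∃ n, Fintype.card F = 2 * n + 3 := ⟨(Fintype.card F - 3) / 2, by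
    have := Fintype.one_lt_card (α := F); obtain ⟨k, hk⟩ := hodd; omega⟩
  rw [hn, show 2 * n + 3 - 1 = 2 * n + 2 from rfl] at h
  rw [hn, show (2 * n + 3 + 5) / 2 = n + 4 by omega]
  refine Nat.eq_of_mul_eq_mul_right (m := 2 * (2 * n + 2)) (by positivity) ?_
  rw [← h]; ring

end Cfsg.Agent.SL2Tor
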