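import Cfsg.Agent.SL2Tor.TorusData
import Cfsg.Agent.SL2Tor.ClassCount
import Cfsg.Agent.SL2Tor.PSL

/-! The two maximal tori of `SL₂(q)`, `q` odd, and their normalisers. -/

set_option autoImplicit false

namespace Cfsg.Agent.SL2Tor

open Matrix

variable {F : Type*} [Field F]

/-- A cyclic self-centralising torus with inverting normaliser. -/
structure IsTorus (T : Subgroup (Matrix.SpecialLinearGroup (Fin 2) F)) : Prop where
  cyclic : IsCyclic T
  neg_one : -1 ∈ T
  cent : ∀ x ∈ T, x ∉ ({1, -1} : Set (Matrix.SpecialLinearGroup (Fin 2) F)) →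
    Subgroup.centralizer ({x} : Set (Matrix.SpecialLinearGroup (Fin 2) F)) = T
  norm : ∀ g ∈ Subgroup.normalizer (T : Set (Matrix.SpecialLinearGroup (Fin 2) F)),
    g ∈ T ∨ ((g : Matrix (Fin 2) (Fin 2) F) * (g : Matrix (Fin 2) (Fin 2) F) = -1 ∧
      ∀ t ∈ T, g * t * g⁻¹ = t⁻¹)
  outside : ∃ w ∈ Subgroup.normalizer (T : Set (Matrix.SpecialLinearGroup (Fin 2) F)), w ∉ T
  nontriv : ∃ x ∈ T, x ∉ ({1, -1} : Set (Matrix.SpecialLinearGroup (Fin 2) F))

theorem sl_eq_pm_of_sq [Finite F] (h2 : (2 : F) ≠ 0) (A : Matrix.SpecialLinearGroup (Fin 2) F) :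
    A * A = 1 ↔ A ∈ ({1, -1} : Set (Matrix.SpecialLinearGroup (Fin 2) F)) := by
  refine ⟨fun h => ?_, fun h => ?_⟩
  · by_cases h1 : A = 1
    · exact Or.inl h1
    · exact Or.inr (Subtype.ext (by
        rw [Cfsg.Agent.LinearGroup.eq_neg_one_of_sq_eq_one h2 A h h1,
          Matrix.SpecialLinearGroup.coe_neg, Matrix.SpecialLinearGroup.coe_one]))
  · rcases h with h | h
    · rw [h, mul_one]
    · rw [Set.mem_singleton_iff.1 h]
      exact Subtype.ext (by
        rw [Matrix.SpecialLinearGroup.coe_mul, Matrix.SpecialLinearGroup.coe_neg,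
          Matrix.SpecialLinearGroup.coe_one]; simp)

namespace IsTorus

variable {T : Subgroup (Matrix.SpecialLinearGroup (Fin 2) F)} (hT : IsTorus T)
include hT

theorem comm : ∀ s ∈ T, ∀ t ∈ T, s * t = t * s := by
  haveI := hT.cyclic
  intro s hs t ht
  exact congrArg Subtype.val (IsMulCommutative.is_comm.comm (⟨s, hs⟩ : T) ⟨t, ht⟩)

theorem centralizer_eq : Subgroup.centralizer (T : Set (Matrix.SpecialLinearGroup (Fin 2) F)) = T := by
  obtain ⟨x, hx, hxZ⟩ := hT.nontriv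
  refine le_antisymm (fun g hg => ?_) fun t ht => Subgroup.mem_centralizer_iff.2 fun s hs => hT.comm s hs t ht
  rw [← hT.cent x hx hxZ, Subgroup.mem_centralizer_singleton_iff]
  exact (Subgroup.mem_centralizer_iff.1 hg x hx).symm

theorem index_normalizer [Finite F] (h2 : (2 : F) ≠ 0) :
    (T.subgroupOf (Subgroup.normalizer (T : Set (Matrix.SpecialLinearGroup (Fin 2) F)))).index = 2 := by
  obtain ⟨w, hwN, hw⟩ := hT.outside
  obtain ⟨x, hx, hxZ⟩ := hT.nontriv
  rw [Subgroup.index_eq_two_iff]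
  refine ⟨⟨w, hwN⟩, fun b => ?_⟩
  simp only [Subgroup.mem_subgroupOf, Subgroup.coe_mul]
  rcases hT.norm b.1 b.2 with hb | hb
  · refine Or.inr ⟨hb, fun h => hw ?_⟩
    simpa using mul_mem (inv_mem hb) h
  · refine Or.inl ⟨?_, fun h => hxZ ((sl_eq_pm_of_sq h2 x).1 ?_)⟩
    · refine (hT.cent x hx hxZ).le (Subgroup.mem_centralizer_singleton_iff.2 (mul_inv_eq_iff_eq_mul.1 ?_))
      rw [show b.1 * w * x * (b.1 * w)⁻¹ = b.1 * (w * x * w⁻¹) * b.1⁻¹ by group]
      rcases hT.norm w hwN with h | ⟨-, h⟩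
      · exact absurd h hw
      · rw [h x hx, hb.2 _ (inv_mem hx), inv_inv]
    · have e := hb.2 x hx
      rw [hT.comm b.1 h x hx, mul_inv_cancel_right] at e
      nth_rw 2 [e]
      exact mul_inv_cancel x

theorem card_normalizer [Finite F] (h2 : (2 : F) ≠ 0) :
    Nat.card (Subgroup.normalizer (T : Set (Matrix.SpecialLinearGroup (Fin 2) F))) = 2 * Nat.card T := by
  rw [← Subgroup.card_mul_index (T.subgroupOf _), hT.index_normalizer h2, mul_comm,
    Nat.card_congr (Subgroup.subgroupOfEquivOfLe Subgroup.le_normalizer).toEquiv]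

theorem classes_normalizer [Finite F] (h2 : (2 : F) ≠ 0) :
    2 * Nat.card (ConjClasses (Subgroup.normalizer (T : Set (Matrix.SpecialLinearGroup (Fin 2) F)))) =
      Nat.card T + 6 := by
  rw [card_classes_inverting (T.subgroupOf _) ?_ (hT.index_normalizer h2) ?_ ?_,
    Nat.card_congr (Subgroup.subgroupOfEquivOfLe Subgroup.le_normalizer).toEquiv]
  · intro s hs t ht
    exact Subtype.ext (hT.comm _ hs _ ht)
  · intro g hg t ht
    rcases hT.norm g.1 g.2 with h | h
    · exact absurd h hg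
    · exact Subtype.ext (h.2 _ ht)
  · have hne : (1 : Matrix.SpecialLinearGroup (Fin 2) F) ≠ -1 := fun e => by
      have := congrArg (fun A : Matrix.SpecialLinearGroup (Fin 2) F => (A : Matrix (Fin 2) (Fin 2) F) 0 0) e
      simp at this
      exact h2 (by linear_combination this)
    rw [Nat.card_eq_two_iff]
    have hm : ∀ v, v ∈ T → v ∈ Subgroup.normalizer (T : Set (Matrix.SpecialLinearGroup (Fin 2) F)) :=
      fun v hv => Subgroup.le_normalizer hv
    refine ⟨⟨⟨⟨1, hm _ (one_mem T)⟩, one_mem T⟩, Subtype.ext (Subtype.ext (one_mul _))⟩, ⟨⟨⟨-1, hm _ hT.neg_one⟩, hT.neg_one⟩,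
      Subtype.ext (Subtype.ext ((sl_eq_pm_of_sq h2 _).2 (Or.inr rfl)))⟩, fun e => hne (congrArg (fun v => v.1.1.1) e), ?_⟩
    ext t
    simp only [Set.mem_univ, iff_true, Set.mem_insert_iff, Set.mem_singleton_iff]
    have ht : t.1.1.1 * t.1.1.1 = 1 := congrArg (fun v => v.1.1) t.2
    rcases (sl_eq_pm_of_sq h2 _).1 ht with e | e
    · exact Or.inl (Subtype.ext (Subtype.ext (Subtype.ext e)))
    · exact Or.inr (Subtype.ext (Subtype.ext (Subtype.ext e)))

theorem normalizer_sq (g : Matrix.SpecialLinearGroup (Fin 2) F)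
    (hg : g ∈ Subgroup.normalizer (T : Set (Matrix.SpecialLinearGroup (Fin 2) F))) (hn : g ∉ T) :
    (g : Matrix (Fin 2) (Fin 2) F) * (g : Matrix (Fin 2) (Fin 2) F) = -1 := by
  rcases hT.norm g hg with h | h
  · exact absurd h hn
  · exact h.1

end IsTorus

theorem split_isTorus [Finite F] (h2 : (2 : F) ≠ 0) (hbig : 3 < Nat.card F) :
    IsTorus (Cfsg.Agent.LinearGroup.splitTorus (F := F)).range := by
  haveI := Fintype.ofFinite F
  classical
  have hmem : ∀ g : Matrix.SpecialLinearGroup (Fin 2) F,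
      g ∈ (Cfsg.Agent.LinearGroup.splitTorus (F := F)).range ↔
        (g : Matrix (Fin 2) (Fin 2) F) 0 1 = 0 ∧ (g : Matrix (Fin 2) (Fin 2) F) 1 0 = 0 := by
    intro g
    constructor
    · rintro ⟨t, rfl⟩; exact ⟨rfl, rfl⟩
    · rintro ⟨h1, h2'⟩
      have hd := g.2
      rw [det_fin_two, h1, zero_mul, sub_zero] at hd
      refine ⟨Units.mk0 _ (left_ne_zero_of_mul (hd.symm ▸ one_ne_zero)), Subtype.ext ?_⟩
      rw [Cfsg.Agent.LinearGroup.splitTorus_val]
      ext i j; fin_cases i <;> fin_cases j <;> simp [h1, h2']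
      exact inv_eq_of_mul_eq_one_right hd
  have hcen : ∀ x ∈ (Cfsg.Agent.LinearGroup.splitTorus (F := F)).range,
      x ∉ ({1, -1} : Set (Matrix.SpecialLinearGroup (Fin 2) F)) →
        (x : Matrix (Fin 2) (Fin 2) F) 0 0 ^ 2 ≠ 1 := by
    intro x hx hxZ hsq
    obtain ⟨h1, h3⟩ := (hmem x).1 hx
    apply hxZ
    rw [← sl_eq_pm_of_sq h2]
    have hd := x.2
    rw [det_fin_two, h1, zero_mul, sub_zero] at hd
    have he : (x : Matrix (Fin 2) (Fin 2) F) 1 1 = (x : Matrix (Fin 2) (Fin 2) F) 0 0 := by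
      linear_combination (x : Matrix (Fin 2) (Fin 2) F) 0 0 * hd - (x : Matrix (Fin 2) (Fin 2) F) 1 1 * hsq
    apply Subtype.ext
    rw [Matrix.SpecialLinearGroup.coe_mul, Matrix.eta_fin_two (x : Matrix (Fin 2) (Fin 2) F),
      Matrix.SpecialLinearGroup.coe_one, Matrix.mul_fin_two]
    ext i j; fin_cases i <;> fin_cases j <;> simp [h1, h3, he, ← pow_two, hsq]
  obtain ⟨a, ha0, ha⟩ : ∃ a : F, a ≠ 0 ∧ a ^ 2 ≠ 1 := by
    by_contra h
    push Not at h
    have : (Finset.univ : Finset F) ⊆ {0, 1, -1} := fun x _ => by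
      rcases eq_or_ne x 0 with hx | hx
      · simp [hx]
      · rcases sq_eq_one_iff.1 (h x hx) with e | e <;> simp [e]
    have := (Finset.card_le_card this).trans Finset.card_le_three
    rw [Finset.card_univ, ← Nat.card_eq_fintype_card] at this
    omega
  obtain ⟨d, hdT, hd⟩ : ∃ d ∈ (Cfsg.Agent.LinearGroup.splitTorus (F := F)).range,
      (d : Matrix (Fin 2) (Fin 2) F) 0 0 ^ 2 ≠ 1 :=
    ⟨_, ⟨Units.mk0 a ha0, rfl⟩, by rw [Cfsg.Agent.LinearGroup.splitTorus_val]; simpa using ha⟩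
  have hC : ∀ x ∈ (Cfsg.Agent.LinearGroup.splitTorus (F := F)).range,
      (x : Matrix (Fin 2) (Fin 2) F) 0 0 ^ 2 ≠ 1 →
        Subgroup.centralizer ({x} : Set (Matrix.SpecialLinearGroup (Fin 2) F)) =
          (Cfsg.Agent.LinearGroup.splitTorus (F := F)).range := by
    intro x hx hx2
    ext g
    rw [centralizer_diag_iff x ((hmem x).1 hx).1 ((hmem x).1 hx).2 hx2, hmem]
  have hN : ∀ g, g ∈ Subgroup.normalizer ((Cfsg.Agent.LinearGroup.splitTorus (F := F)).range :
      Set (Matrix.SpecialLinearGroup (Fin 2) F)) ↔ ∃ p, monoSL p = g := by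
    intro g
    rw [← hC d hdT hd]
    exact normalizer_diag_iff d ((hmem d).1 hdT).1 ((hmem d).1 hdT).2 hd g
  refine ⟨isCyclic_of_surjective _ (MonoidHom.rangeRestrict_surjective _), ?_, fun x hx hxZ =>
    hC x hx (hcen x hx hxZ), fun g hg => ?_, ⟨monoSL (true, 1), (hN _).2 ⟨_, rfl⟩, fun h => ?_⟩,
    ⟨d, hdT, fun h => ?_⟩⟩
  · rw [hmem, Matrix.SpecialLinearGroup.coe_neg, Matrix.SpecialLinearGroup.coe_one]; simp
  · obtain ⟨⟨_ | _, a⟩, rfl⟩ := (hN g).1 hg
    · exact Or.inl ((hmem _).2 ⟨rfl, rfl⟩)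
    · refine Or.inr ⟨?_, fun t ht => ?_⟩
      · simp only [monoSL, Matrix.mul_fin_two]
        ext i j; fin_cases i <;> fin_cases j <;> simp
      · obtain ⟨h1, h3⟩ := (hmem t).1 ht
        rw [mul_inv_eq_iff_eq_mul, sl_eq_iff, Matrix.SpecialLinearGroup.coe_mul,
          Matrix.SpecialLinearGroup.coe_mul, Matrix.SpecialLinearGroup.coe_inv, adjugate_fin_two,
          Matrix.eta_fin_two (t : Matrix (Fin 2) (Fin 2) F)]
        simp only [monoSL, Matrix.mul_fin_two, h1, h3]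
        ext i j; fin_cases i <;> fin_cases j <;> simp [mul_comm]
  · exact one_ne_zero (α := F) (by simpa [monoSL] using ((hmem _).1 h).2)
  · rcases h with h | h
    · exact hd (by simp [h])
    · rw [Set.mem_singleton_iff] at h
      exact hd (by rw [h, Matrix.SpecialLinearGroup.coe_neg, Matrix.SpecialLinearGroup.coe_one]; simp)

theorem exists_nonsplit_isTorus [Fintype F] (hodd : Odd (Fintype.card F)) :
    ∃ T : Subgroup (Matrix.SpecialLinearGroup (Fin 2) F), IsTorus T ∧ Nat.card T = Fintype.card F + 1 ∧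
      ∀ g : Matrix.SpecialLinearGroup (Fin 2) F,
        (∀ (c : F) (v : Fin 2 → F), v ≠ 0 → (g : Matrix (Fin 2) (Fin 2) F).mulVec v ≠ c • v) →
          ∃ h : Matrix.SpecialLinearGroup (Fin 2) F, h * g * h⁻¹ ∈ T := by
  classical
  have h2 := two_ne_zero_of_odd_card hodd
  have hch : ringChar F ≠ 2 := fun e => h2 (by
    have := ringChar.Nat.cast_ringChar (R := F); rw [e] at this; exact_mod_cast this)
  obtain ⟨ε, hε⟩ := FiniteField.exists_nonsquare hch
  haveI hab : Fact (∀ r : F, r ^ 2 ≠ ε + 0 * r) :=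
    ⟨fun r h => hε ⟨r, by rw [zero_mul, add_zero] at h; rw [← h, pow_two]⟩⟩
  have hε0 : ε ≠ 0 := fun e => hε (e ▸ IsSquare.zero)
  obtain ⟨T, hTdef⟩ : ∃ T, T = (Cfsg.Agent.LinearGroup.nonsplitTorus ε 0).range := ⟨_, rfl⟩
  have hmem : ∀ g : Matrix.SpecialLinearGroup (Fin 2) F, g ∈ T ↔
      (g : Matrix (Fin 2) (Fin 2) F) 0 0 = (g : Matrix (Fin 2) (Fin 2) F) 1 1 ∧
        (g : Matrix (Fin 2) (Fin 2) F) 0 1 = ε * (g : Matrix (Fin 2) (Fin 2) F) 1 0 := by
    intro g
    rw [hTdef]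
    constructor
    · rintro ⟨z, rfl⟩; rw [Cfsg.Agent.LinearGroup.nonsplitTorus_val]; simp
    · rintro ⟨h1, h3⟩
      have hd := g.2
      rw [det_fin_two, ← h1, h3] at hd
      obtain ⟨z, hz⟩ : ∃ z : QuadraticAlgebra F ε 0,
          z = ⟨(g : Matrix (Fin 2) (Fin 2) F) 0 0, (g : Matrix (Fin 2) (Fin 2) F) 1 0⟩ := ⟨_, rfl⟩
      have hn : QuadraticAlgebra.norm z = 1 := by
        rw [QuadraticAlgebra.norm_def, hz]; linear_combination hd
      have hu : IsUnit z := QuadraticAlgebra.isUnit_iff_norm_isUnit.2 (by rw [hn]; exact isUnit_one)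
      have hk : hu.unit ∈ (Cfsg.Agent.LinearGroup.unitsNorm ε (0 : F)).ker := by
        rw [MonoidHom.mem_ker]
        exact Units.ext (by show QuadraticAlgebra.norm _ = _; rw [IsUnit.unit_spec, hn]; rfl)
      refine ⟨⟨hu.unit, hk⟩, Subtype.ext ?_⟩
      rw [Cfsg.Agent.LinearGroup.nonsplitTorus_val]
      ext i j; fin_cases i <;> fin_cases j <;>
        simp [Cfsg.Agent.LinearGroup.torVal, hz, h1, h3]
  have hcard : Nat.card T = Fintype.card F + 1 := by
    rw [hTdef, ← Nat.card_congr (MonoidHom.ofInjective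
      (Cfsg.Agent.LinearGroup.nonsplitTorus_injective ε (0 : F))).toEquiv]
    have hq : 1 < Nat.card F := Finite.one_lt_card
    have hE : Nat.card (QuadraticAlgebra F ε 0)ˣ = Nat.card F ^ 2 - 1 := by
      rw [Nat.card_units, Nat.card_congr (QuadraticAlgebra.equivProd ε 0), Nat.card_prod, sq]
    have hsurj : Function.Surjective (Cfsg.Agent.LinearGroup.unitsNorm ε (0 : F)) := by
      intro c
      obtain ⟨x, y, hxy⟩ := exists_affine_form h2 (neg_ne_zero.2 hε0) (c : F)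
      obtain ⟨z, hz⟩ : ∃ z : QuadraticAlgebra F ε 0, z = ⟨x, y⟩ := ⟨_, rfl⟩
      have hn : QuadraticAlgebra.norm z = (c : F) := by
        rw [QuadraticAlgebra.norm_def, hz]; linear_combination hxy
      have hu : IsUnit z := QuadraticAlgebra.isUnit_iff_norm_isUnit.2 (by rw [hn]; exact c.isUnit)
      exact ⟨hu.unit, Units.ext (by show QuadraticAlgebra.norm _ = _; rw [IsUnit.unit_spec, hn])⟩
    have h1 := Subgroup.card_eq_card_quotient_mul_card_subgroup (Cfsg.Agent.LinearGroup.unitsNorm ε (0 : F)).ker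
    rw [Nat.card_congr (QuotientGroup.quotientKerEquivOfSurjective _ hsurj).toEquiv, hE,
      Nat.card_units, show Nat.card F ^ 2 - 1 = (Nat.card F - 1) * (Nat.card F + 1) by
        rw [mul_comm, ← Nat.sq_sub_sq, one_pow]] at h1
    rw [← Nat.card_eq_fintype_card]
    exact (Nat.eq_of_mul_eq_mul_left (by omega) h1).symm
  have hy : ∀ x ∈ T, x ∉ ({1, -1} : Set (Matrix.SpecialLinearGroup (Fin 2) F)) →
      (x : Matrix (Fin 2) (Fin 2) F) 1 0 ≠ 0 := by
    intro x hx hxZ hy0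
    obtain ⟨h1, h3⟩ := (hmem x).1 hx
    apply hxZ
    rw [← sl_eq_pm_of_sq h2]
    have hd := x.2
    rw [det_fin_two, ← h1, h3, hy0, mul_zero, sub_zero] at hd
    apply Subtype.ext
    rw [Matrix.SpecialLinearGroup.coe_mul, Matrix.eta_fin_two (x : Matrix (Fin 2) (Fin 2) F),
      Matrix.SpecialLinearGroup.coe_one, Matrix.mul_fin_two]
    ext i j; fin_cases i <;> fin_cases j <;> simp [h3, hy0, ← h1, hd]
  have hC : ∀ x ∈ T, (x : Matrix (Fin 2) (Fin 2) F) 1 0 ≠ 0 →
      Subgroup.centralizer ({x} : Set (Matrix.SpecialLinearGroup (Fin 2) F)) = T := by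
    intro x hx hy0
    obtain ⟨h1, h3⟩ := (hmem x).1 hx
    ext g
    rw [Subgroup.mem_centralizer_singleton_iff, hmem, sl_eq_iff, Matrix.SpecialLinearGroup.coe_mul,
      Matrix.SpecialLinearGroup.coe_mul, ← Matrix.ext_iff]
    simp only [Fin.forall_fin_two, Matrix.mul_apply, Fin.sum_univ_two, ← h1, h3]
    constructor
    · rintro ⟨⟨e00, -⟩, e10, -⟩
      exact ⟨mul_right_cancel₀ hy0 (by linear_combination -e10),
        mul_right_cancel₀ hy0 (by linear_combination e00)⟩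
    · rintro ⟨g1, g3⟩
      rw [g1, g3]
      refine ⟨⟨?_, ?_⟩, ?_, ?_⟩ <;> ring
  obtain ⟨τ, hτ, hτy⟩ : ∃ τ ∈ T, (τ : Matrix (Fin 2) (Fin 2) F) 1 0 ≠ 0 := by
    by_contra h
    push Not at h
    have hle : (T : Set (Matrix.SpecialLinearGroup (Fin 2) F)) ⊆ {1, -1} := fun x hx => by
      by_contra hxZ; exact hy x hx hxZ (h x hx)
    have := Nat.card_mono (Set.toFinite _) hle
    simp only [SetLike.coe_sort_coe, hcard, Nat.card_coe_set_eq] at this
    have h' := Set.ncard_insert_le (1 : Matrix.SpecialLinearGroup (Fin 2) F) {-1}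
    rw [Set.ncard_singleton] at h'
    have := Fintype.one_lt_card (α := F)
    omega
  have hinv : ∀ g : Matrix.SpecialLinearGroup (Fin 2) F,
      (g : Matrix (Fin 2) (Fin 2) F) 1 1 = -(g : Matrix (Fin 2) (Fin 2) F) 0 0 →
      (g : Matrix (Fin 2) (Fin 2) F) 0 1 = -(ε * (g : Matrix (Fin 2) (Fin 2) F) 1 0) →
      (g : Matrix (Fin 2) (Fin 2) F) * (g : Matrix (Fin 2) (Fin 2) F) = -1 ∧ ∀ t ∈ T, g * t * g⁻¹ = t⁻¹ := by
    intro g e1 e2
    refine ⟨?_, fun t ht => ?_⟩
    · rw [two_sq, g.2, trace_fin_two, e1]; simp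
    · obtain ⟨h1, h3⟩ := (hmem t).1 ht
      rw [mul_inv_eq_iff_eq_mul, sl_eq_iff, Matrix.SpecialLinearGroup.coe_mul,
        Matrix.SpecialLinearGroup.coe_mul, Matrix.SpecialLinearGroup.coe_inv, adjugate_fin_two,
        Matrix.eta_fin_two (g : Matrix (Fin 2) (Fin 2) F),
        Matrix.eta_fin_two (t : Matrix (Fin 2) (Fin 2) F), e1, e2, ← h1, h3]
      ext i j; fin_cases i <;> fin_cases j <;> simp <;> ring
  have hN : ∀ g ∈ Subgroup.normalizer (T : Set (Matrix.SpecialLinearGroup (Fin 2) F)), g ∈ T ∨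
      ((g : Matrix (Fin 2) (Fin 2) F) * (g : Matrix (Fin 2) (Fin 2) F) = -1 ∧ ∀ t ∈ T, g * t * g⁻¹ = t⁻¹) := by
    intro g hg
    obtain ⟨σ, hσ⟩ : ∃ σ, σ = g * τ * g⁻¹ := ⟨_, rfl⟩
    have hσT : σ ∈ T := hσ ▸ (Subgroup.mem_normalizer_iff.1 hg τ).1 hτ
    obtain ⟨h1, h3⟩ := (hmem τ).1 hτ
    obtain ⟨s1, s3⟩ := (hmem σ).1 hσT
    have htr := trace_conj g τ
    rw [← hσ, trace_fin_two, trace_fin_two, ← h1, ← s1] at htr
    have hx : (σ : Matrix (Fin 2) (Fin 2) F) 0 0 = (τ : Matrix (Fin 2) (Fin 2) F) 0 0 :=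
      mul_left_cancel₀ h2 (by linear_combination htr)
    have d1 := τ.2
    have d2 := σ.2
    rw [det_fin_two, ← h1, h3] at d1
    rw [det_fin_two, ← s1, s3, hx] at d2
    have hyy : (σ : Matrix (Fin 2) (Fin 2) F) 1 0 ^ 2 = (τ : Matrix (Fin 2) (Fin 2) F) 1 0 ^ 2 :=
      mul_left_cancel₀ hε0 (by linear_combination d1 - d2)
    have e : σ * g = g * τ := by rw [hσ, inv_mul_cancel_right]
    rw [sl_eq_iff, Matrix.SpecialLinearGroup.coe_mul, Matrix.SpecialLinearGroup.coe_mul] at e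
    have e00 := congrFun (congrFun e 0) 0
    have e10 := congrFun (congrFun e 1) 0
    simp only [Matrix.mul_apply, Fin.sum_univ_two, ← h1, ← s1, h3, s3, hx] at e00 e10
    rcases sq_eq_sq_iff_eq_or_eq_neg.1 hyy with hs | hs <;> rw [hs] at e00 e10
    · exact Or.inl ((hmem g).2 ⟨mul_right_cancel₀ hτy (by linear_combination e10),
        mul_right_cancel₀ hτy (by linear_combination -e00)⟩)
    · exact Or.inr (hinv g (mul_right_cancel₀ hτy (by linear_combination -e10))
        (mul_right_cancel₀ hτy (by linear_combination -e00)))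
  obtain ⟨u, v, huv⟩ := exists_affine_form h2 (neg_ne_zero.2 hε0) (-1 : F)
  obtain ⟨w, hw⟩ : ∃ w : Matrix.SpecialLinearGroup (Fin 2) F,
      (w : Matrix (Fin 2) (Fin 2) F) = !![u, -(ε * v); v, -u] :=
    ⟨⟨_, by rw [det_fin_two_of]; linear_combination -huv⟩, rfl⟩
  have hwi := hinv w (by simp [hw]) (by simp [hw])
  refine ⟨T, ⟨?_, ?_, fun x hx hxZ => hC x hx (hy x hx hxZ), hN, ⟨w, ?_, fun h => ?_⟩,
    ⟨τ, hτ, fun h => ?_⟩⟩, hcard, fun g hg => ?_⟩
  · rw [hTdef]; exact isCyclic_of_surjective _ (MonoidHom.rangeRestrict_surjective _)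
  · rw [hmem, Matrix.SpecialLinearGroup.coe_neg, Matrix.SpecialLinearGroup.coe_one]; simp
  · rw [Subgroup.mem_normalizer_iff]
    refine fun t => ⟨fun ht => by rw [hwi.2 t ht]; exact inv_mem ht, fun ht => ?_⟩
    have := hwi.2 _ ht
    rw [show w * (w * t * w⁻¹) * w⁻¹ = (w * w) * t * (w * w)⁻¹ by group] at this
    have hwc : w * w ∈ Subgroup.center (Matrix.SpecialLinearGroup (Fin 2) F) := by
      rw [← isScalar_iff_mem_center, Matrix.SpecialLinearGroup.coe_mul, hwi.1]; simp [IsScalar]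
    rw [← Subgroup.mem_center_iff.1 hwc t, mul_inv_cancel_right] at this
    rw [this]
    exact inv_mem ht
  · obtain ⟨h1, h3⟩ := (hmem w).1 h
    simp [hw] at h1 h3
    have hu : u = 0 := (mul_eq_zero.1 (show (2 : F) * u = 0 by linear_combination h1)).resolve_left h2
    have hv : v = 0 := (mul_eq_zero.1 (show (2 * ε : F) * v = 0 by linear_combination -h3)).resolve_left
      (mul_ne_zero h2 hε0)
    rw [hu, hv] at huv
    simp at huv
  · rcases h with h | h
    · exact hτy (by simp [h])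
    · rw [Set.mem_singleton_iff] at h
      exact hτy (by rw [h, Matrix.SpecialLinearGroup.coe_neg, Matrix.SpecialLinearGroup.coe_one]; simp)
  · obtain ⟨t, ht⟩ : ∃ t, t = (g : Matrix (Fin 2) (Fin 2) F).trace := ⟨_, rfl⟩
    have hns : ∀ r : F, r ^ 2 ≠ t ^ 2 - 4 := by
      intro r hr
      have hdet : ((g : Matrix (Fin 2) (Fin 2) F) - ((t + r) / 2) • 1).det = 0 := by
        have hd := g.2
        rw [det_fin_two] at hd
        rw [det_fin_two]
        rw [trace_fin_two] at ht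
        simp only [Matrix.sub_apply, Matrix.smul_apply, Matrix.one_apply_eq, smul_eq_mul, mul_one,
          Matrix.one_apply_ne (show (0 : Fin 2) ≠ 1 by decide),
          Matrix.one_apply_ne (show (1 : Fin 2) ≠ 0 by decide), mul_zero, sub_zero]
        field_simp
        subst ht
        linear_combination 4 * hd + hr
      obtain ⟨v, hv, hv0⟩ := Matrix.exists_mulVec_eq_zero_iff.2 hdet
      rw [Matrix.sub_mulVec, Matrix.smul_mulVec, Matrix.one_mulVec, sub_eq_zero] at hv0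
      exact hg _ v hv hv0
    have hrc : quadraticChar F (t ^ 2 - 4) = -1 :=
      quadraticChar_neg_one_iff_not_isSquare.2 (fun ⟨r, hr⟩ => hns r (by rw [hr, pow_two]))
    have hεc : quadraticChar F ε = -1 := quadraticChar_neg_one_iff_not_isSquare.2 hε
    have h0 : ε * (t ^ 2 - 4) ≠ 0 := mul_ne_zero hε0 (fun e => hns 0 (by rw [e]; ring))
    obtain ⟨r, hr⟩ : IsSquare (ε * (t ^ 2 - 4)) :=
      (quadraticChar_one_iff_isSquare h0).1 (by rw [map_mul, hrc, hεc]; norm_num)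
    obtain ⟨X, hX⟩ : ∃ X : Matrix.SpecialLinearGroup (Fin 2) F,
        (X : Matrix (Fin 2) (Fin 2) F) = !![t / 2, ε * (r / (2 * ε)); r / (2 * ε), t / 2] :=
      ⟨⟨_, by rw [det_fin_two_of]; field_simp; linear_combination hr⟩, rfl⟩
    obtain ⟨x, hx⟩ := isConj_of_trace g X (by rw [← ht, hX]; simp [trace_fin_two]; rw [← mul_two, div_mul_cancel₀ _ h2])
      (by rw [← ht]; exact fun e => hns 0 (by rw [e]; ring))
    exact ⟨x, by rw [← hx, hmem, hX]; simp⟩

end Cfsg.Agent.SL2Tor
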