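import Cfsg.Agent.SL2Tor.ClassCount
import Mathlib.NumberTheory.MulChar.Lemmas

/-! The Mackey formula for characters induced from the Borel subgroup of `SL₂(q)`. -/

set_option autoImplicit false

namespace Cfsg.Agent.SL2Tor

open Matrix Cfsg ComplexConjugate

variable {F : Type*} [Field F] [Fintype F] [DecidableEq F]

theorem indFun_borel_upper (α : MulChar F ℂ) (p : Fˣ × F) :
    indFun ((upperTriangularGL 2 F).comap Matrix.SpecialLinearGroup.toGL)
      (fun b => α (((b : Matrix.SpecialLinearGroup (Fin 2) F) : Matrix (Fin 2) (Fin 2) F) 0 0))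
      ((borelEquiv p : ((upperTriangularGL 2 F).comap Matrix.SpecialLinearGroup.toGL :
        Subgroup (Matrix.SpecialLinearGroup (Fin 2) F))) : Matrix.SpecialLinearGroup (Fin 2) F) =
      if p.1 ^ 2 = 1 then (if p.2 = 0 then ((Fintype.card F : ℂ) + 1) * α p.1 else α p.1)
      else α p.1 + α ((p.1⁻¹ : Fˣ) : F) := by
  obtain ⟨h1, h2, h3, h4⟩ := indFun_borel_values α
    ((borelEquiv p : ((upperTriangularGL 2 F).comap Matrix.SpecialLinearGroup.toGL :
        Subgroup (Matrix.SpecialLinearGroup (Fin 2) F))) : Matrix.SpecialLinearGroup (Fin 2) F)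
  by_cases hp : p.1 ^ 2 = 1
  · rw [if_pos hp]
    have e : ((p.1⁻¹ : Fˣ) : F) = (p.1 : F) := by
      rw [inv_eq_iff_mul_eq_one.2 (by rw [← pow_two, hp])]
    by_cases ht : p.2 = 0
    · rw [if_pos ht]; exact h4 ht rfl e.symm
    · rw [if_neg ht]; exact h3 rfl e.symm ht
  · rw [if_neg hp]
    have hne : ((p.1⁻¹ : Fˣ) : F) - (p.1 : F) ≠ 0 := sub_ne_zero.2 fun e =>
      hp (by rw [pow_two]; nth_rw 1 [← Units.ext e]; exact inv_mul_cancel p.1)
    obtain ⟨D, hD⟩ : ∃ D : Matrix.SpecialLinearGroup (Fin 2) F, D = monoSL (false, p.1) := ⟨_, rfl⟩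
    have hconj : ((borelEquiv p : ((upperTriangularGL 2 F).comap Matrix.SpecialLinearGroup.toGL :
        Subgroup (Matrix.SpecialLinearGroup (Fin 2) F))) : Matrix.SpecialLinearGroup (Fin 2) F) =
        upperUni (Multiplicative.ofAdd (p.2 / (((p.1⁻¹ : Fˣ) : F) - (p.1 : F)))) * D *
          (upperUni (Multiplicative.ofAdd (p.2 / (((p.1⁻¹ : Fˣ) : F) - (p.1 : F)))))⁻¹ := by
      rw [eq_mul_inv_iff_mul_eq, sl_eq_iff, Matrix.SpecialLinearGroup.coe_mul,
        Matrix.SpecialLinearGroup.coe_mul, upperUni_val, hD]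
      show (!![(p.1 : F), p.2; 0, ((p.1⁻¹ : Fˣ) : F)] : Matrix (Fin 2) (Fin 2) F) * _ = _
      simp only [monoSL, Matrix.mul_fin_two, toAdd_ofAdd]
      ext i j
      fin_cases i <;> fin_cases j <;> simp
      rw [Units.val_inv_eq_inv_val] at hne
      have h' : (1 : F) - (p.1 : F) ^ 2 ≠ 0 := fun e => hne (by field_simp; linear_combination e)
      field_simp
      ring
    rw [hconj, Cfsg.Agent.CharInd.isClassFunction_indFun]
    obtain ⟨g1, -, -, -⟩ := indFun_borel_values α D
    rw [g1 (by rw [hD]; rfl) (by rw [hD]; rfl) (by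
      rw [hD]; intro e; exact hp (Units.ext (by push_cast; exact e)))]
    rw [hD]; rfl

theorem classInner_borel (hodd : Odd (Fintype.card F)) (α β : MulChar F ℂ) [Decidable (α = β)]
    [Decidable (α = β⁻¹)] :
    classInner (indFun ((upperTriangularGL 2 F).comap Matrix.SpecialLinearGroup.toGL)
        (fun b => α (((b : Matrix.SpecialLinearGroup (Fin 2) F) : Matrix (Fin 2) (Fin 2) F) 0 0)))
      (indFun ((upperTriangularGL 2 F).comap Matrix.SpecialLinearGroup.toGL)
        (fun b => β (((b : Matrix.SpecialLinearGroup (Fin 2) F) : Matrix (Fin 2) (Fin 2) F) 0 0))) =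
      (if α = β then 1 else 0) + (if α = β⁻¹ then 1 else 0) := by
  classical
  rw [Cfsg.Agent.CharInd.classInner_indFun_left _ _ (Cfsg.Agent.CharInd.isClassFunction_indFun _ _),
    classInner, card_borelSL, Nat.card_eq_fintype_card,
    ← Equiv.sum_comp borelEquiv]
  simp only [indFun_borel_upper]
  have hrow : ∀ a : Fˣ, ∑ t : F, α ((a : F)) *
      conj (if a ^ 2 = 1 then (if t = 0 then ((Fintype.card F : ℂ) + 1) * β a else β a)
        else β a + β ((a⁻¹ : Fˣ) : F)) =
      (Fintype.card F : ℂ) * ((α * β⁻¹) a + (α * β) a) := by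
    intro a
    have hb : conj (β a) = β ((a⁻¹ : Fˣ) : F) := by
      rw [← RCLike.star_def, MulChar.star_apply', MulChar.inv_apply', Units.val_inv_eq_inv_val]
    have hb' : conj (β ((a⁻¹ : Fˣ) : F)) = β a := by rw [← hb, Complex.conj_conj]
    rw [MulChar.mul_apply, MulChar.mul_apply, MulChar.inv_apply',
      show ((a : F))⁻¹ = ((a⁻¹ : Fˣ) : F) from (Units.val_inv_eq_inv_val a).symm]
    by_cases ha : a ^ 2 = 1
    · have e : a⁻¹ = a := by rw [inv_eq_iff_mul_eq_one, ← pow_two, ha]
      rw [e] at hb ⊢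
      simp only [if_pos ha]
      rw [← Finset.add_sum_erase _ _ (Finset.mem_univ (0 : F)), if_pos rfl,
        Finset.sum_eq_card_nsmul (b := α (a : F) * β (a : F)) (fun t ht => by
          rw [if_neg (Finset.ne_of_mem_erase ht), hb]),
        Finset.card_erase_of_mem (Finset.mem_univ _), Finset.card_univ, nsmul_eq_mul,
        Nat.cast_sub Fintype.card_pos, map_mul, map_add, Complex.conj_natCast, map_one, hb, Nat.cast_one]
      ring
    · simp only [if_neg ha]
      rw [Finset.sum_const, Finset.card_univ, nsmul_eq_mul, map_add, hb, hb']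
      ring
  rw [Fintype.sum_prod_type]
  refine Eq.trans (congrArg _ (Finset.sum_congr rfl fun a _ => hrow a)) ?_
  have hsum : ∀ χ : MulChar F ℂ, ∑ a : Fˣ, χ a = ∑ a : F, χ a := by
    intro χ
    rw [← Finset.add_sum_erase Finset.univ (fun a : F => χ a) (Finset.mem_univ 0), MulChar.map_zero, zero_add]
    refine Finset.sum_bij' (fun a _ => (a : F)) (fun x hx => Units.mk0 x (Finset.ne_of_mem_erase hx))
      (fun a _ => Finset.mem_erase.2 ⟨a.ne_zero, Finset.mem_univ _⟩) (fun _ _ => Finset.mem_univ _)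
      (fun a _ => Units.ext rfl) (fun x _ => rfl) (fun a _ => rfl)
  have horth : ∀ χ : MulChar F ℂ, ∑ a : F, χ a = if χ = 1 then (Fintype.card F : ℂ) - 1 else 0 := by
    intro χ
    by_cases h : χ = 1
    · rw [if_pos h, h, MulChar.sum_one_eq_card_units, Fintype.card_units, Nat.cast_sub Fintype.card_pos,
        Nat.cast_one]
    · rw [if_neg h, MulChar.sum_eq_zero_of_ne_one h]
  rw [← Finset.mul_sum, Finset.sum_add_distrib, hsum, hsum, horth, horth]
  simp only [mul_inv_eq_one, mul_eq_one_iff_eq_inv, inv_inv]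
  have hq : (Fintype.card F : ℂ) ≠ 0 := Nat.cast_ne_zero.2 Fintype.card_ne_zero
  have hq1 : (Fintype.card F : ℂ) - 1 ≠ 0 := sub_ne_zero.2 (by
    exact_mod_cast (Fintype.one_lt_card (α := F)).ne')
  rw [Nat.cast_mul, Nat.cast_sub Fintype.card_pos, Nat.cast_one]
  split_ifs <;> field_simp <;> ring

end Cfsg.Agent.SL2Tor
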