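import Cfsg.Agent.Lib.LinearGroup.TorusSylow
import Cfsg.Agent.Recog71.SL2Orders

/-! `SL₂(2^t) = ABA` with `A` a nonsplit torus and `B` a Sylow 2-subgroup. -/

set_option autoImplicit false

namespace Cfsg.Agent.SL2Tor

open Matrix Cfsg.Agent.LinearGroup

variable {F : Type*} [Field F]

/-- Upper unitriangular matrices. -/
noncomputable def upperUni : Multiplicative F →* Matrix.SpecialLinearGroup (Fin 2) F :=
  MonoidHom.mk' (fun t => ⟨!![1, t.toAdd; 0, 1], by simp [det_fin_two_of]⟩)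
    (fun s t => Subtype.ext (by
      show _ = (!![1, s.toAdd; 0, 1] : Matrix (Fin 2) (Fin 2) F) * !![1, t.toAdd; 0, 1]
      rw [Matrix.mul_fin_two]
      simp [add_comm]))

theorem upperUni_val (t : Multiplicative F) :
    ((upperUni t : Matrix.SpecialLinearGroup (Fin 2) F) : Matrix (Fin 2) (Fin 2) F) = !![1, t.toAdd; 0, 1] :=
  rfl

theorem upperUni_injective : Function.Injective (upperUni (F := F)) := by
  intro s t h
  have h' := congrFun (congrFun (congrArg Subtype.val h) 0) 1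
  rw [upperUni_val, upperUni_val] at h'
  exact Multiplicative.toAdd.injective (by simpa using h')

theorem mem_upperUni_range (u : Matrix.SpecialLinearGroup (Fin 2) F)
    (h00 : (u : Matrix (Fin 2) (Fin 2) F) 0 0 = 1) (h10 : (u : Matrix (Fin 2) (Fin 2) F) 1 0 = 0) :
    u ∈ (upperUni (F := F)).range := by
  have hd := u.2
  rw [det_fin_two, h00, h10, one_mul, mul_zero, sub_zero] at hd
  refine ⟨Multiplicative.ofAdd ((u : Matrix (Fin 2) (Fin 2) F) 0 1), Subtype.ext ?_⟩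
  ext i j
  fin_cases i <;> fin_cases j <;> simp [upperUni_val, h00, h10, hd]

variable [Finite F] [CharP F 2]

theorem exists_sq_eq (c : F) : ∃ r : F, r ^ 2 = c := by
  obtain ⟨r, hr⟩ := FiniteField.isSquare_of_char_two (ringChar.eq F 2) c
  exact ⟨r, by rw [hr]; ring⟩

variable (a b : F) [hab : Fact (∀ r : F, r ^ 2 ≠ a + b * r)]

/-- The norm form. -/
def normForm (x y : F) : F := x ^ 2 + b * x * y - a * y ^ 2

theorem normForm_ne_zero (x y : F) (h : x ≠ 0 ∨ y ≠ 0) : normForm a b x y ≠ 0 := by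
  intro e
  unfold normForm at e
  rcases eq_or_ne y 0 with hy | hy
  · subst hy; simp at e; exact h.elim (fun h => h e) (fun h => h rfl)
  · apply hab.out (-(x / y))
    field_simp
    linear_combination e

theorem card_nonsplit_eq : Nat.card (unitsNorm a b).ker = Nat.card F + 1 := by
  have hq : 1 < Nat.card F := Finite.one_lt_card
  have hE : Nat.card (QuadraticAlgebra F a b)ˣ = Nat.card F ^ 2 - 1 := by
    rw [Nat.card_units, Nat.card_congr (QuadraticAlgebra.equivProd a b), Nat.card_prod, sq]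
  have hsurj : Function.Surjective (unitsNorm a b) := by
    intro c
    obtain ⟨r, hr⟩ := exists_sq_eq (c : F)
    have hr0 : r ≠ 0 := by rintro rfl; exact c.ne_zero (by simpa using hr.symm)
    have hu : IsUnit (algebraMap F (QuadraticAlgebra F a b) r) := (Ne.isUnit hr0).map _
    refine ⟨hu.unit, Units.ext ?_⟩
    show QuadraticAlgebra.norm _ = _
    rw [IsUnit.unit_spec, ← hr, QuadraticAlgebra.norm_def]
    simp [QuadraticAlgebra.algebraMap_eq]
    ring
  have h1 := Subgroup.card_eq_card_quotient_mul_card_subgroup (unitsNorm a b).ker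
  rw [Nat.card_congr (QuotientGroup.quotientKerEquivOfSurjective (unitsNorm a b) hsurj).toEquiv, hE,
    Nat.card_units, show Nat.card F ^ 2 - 1 = (Nat.card F - 1) * (Nat.card F + 1) by
      rw [mul_comm, ← Nat.sq_sub_sq, one_pow]] at h1
  exact (Nat.eq_of_mul_eq_mul_left (by omega) h1).symm

theorem exists_torus_col (x y : F) (h : normForm a b x y = 1) :
    ∃ T ∈ (nonsplitTorus a b).range, (T : Matrix (Fin 2) (Fin 2) F) 0 0 = x ∧
      (T : Matrix (Fin 2) (Fin 2) F) 1 0 = y := by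
  obtain ⟨z, hz⟩ : ∃ z : QuadraticAlgebra F a b, z = ⟨x, y⟩ := ⟨_, rfl⟩
  have hn : QuadraticAlgebra.norm z = 1 := by
    rw [QuadraticAlgebra.norm_def, hz]; rw [← h, normForm]; ring
  have hu : IsUnit z := QuadraticAlgebra.isUnit_iff_norm_isUnit.2 (by rw [hn]; exact isUnit_one)
  have hk : hu.unit ∈ (unitsNorm a b).ker := by
    rw [MonoidHom.mem_ker]
    exact Units.ext (by show QuadraticAlgebra.norm _ = _; rw [IsUnit.unit_spec, hn]; rfl)
  refine ⟨_, ⟨⟨hu.unit, hk⟩, rfl⟩, ?_⟩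
  rw [nonsplitTorus_val]
  simp [torVal, hz]

theorem exists_fixed_norm (g : Matrix.SpecialLinearGroup (Fin 2) F) :
    ∃ x y : F, normForm a b x y = 1 ∧
      normForm a b ((g : Matrix (Fin 2) (Fin 2) F) 0 0 * x + (g : Matrix (Fin 2) (Fin 2) F) 0 1 * y)
        ((g : Matrix (Fin 2) (Fin 2) F) 1 0 * x + (g : Matrix (Fin 2) (Fin 2) F) 1 1 * y) = 1 := by
  have hd := g.2
  rw [det_fin_two] at hd
  have h2 : (2 : F) = 0 := CharTwo.two_eq_zero
  obtain ⟨M, hM⟩ : ∃ M : Matrix (Fin 2) (Fin 2) F, M = (g : Matrix (Fin 2) (Fin 2) F) := ⟨_, rfl⟩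
  rw [← hM] at hd ⊢
  obtain ⟨sa, hsa⟩ := exists_sq_eq (normForm a b (M 0 0) (M 1 0) - 1)
  obtain ⟨sc, hsc⟩ := exists_sq_eq (normForm a b (M 0 1) (M 1 1) + a)
  obtain ⟨x, y, hxy, hrel⟩ : ∃ x y : F, (x ≠ 0 ∨ y ≠ 0) ∧ sa * x + sc * y = 0 := by
    by_cases h : sc ≠ 0 ∨ sa ≠ 0
    · exact ⟨sc, sa, h, by linear_combination sa * sc * h2⟩
    · push Not at h
      exact ⟨1, 0, Or.inl one_ne_zero, by rw [h.2]; ring⟩
  have hQ := normForm_ne_zero a b x y hxy
  obtain ⟨r, hr⟩ := exists_sq_eq (normForm a b x y)⁻¹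
  have h1 : normForm a b (r * x) (r * y) = 1 := by
    rw [show normForm a b (r * x) (r * y) = r ^ 2 * normForm a b x y by unfold normForm; ring, hr,
      inv_mul_cancel₀ hQ]
  refine ⟨r * x, r * y, h1, ?_⟩
  have key : normForm a b (M 0 0 * (r * x) + M 0 1 * (r * y)) (M 1 0 * (r * x) + M 1 1 * (r * y)) -
      normForm a b (r * x) (r * y) = r ^ 2 * (sa * x + sc * y) ^ 2 := by
    rw [show (sa * x + sc * y) ^ 2 = sa ^ 2 * x ^ 2 + sc ^ 2 * y ^ 2 + 2 * (sa * sc * x * y) by ring,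
      hsa, hsc, h2]
    unfold normForm
    linear_combination (r ^ 2 * x * y * (M 0 0 * M 0 1 - a * M 1 0 * M 1 1 + b * M 0 1 * M 1 0)) * h2 +
      (b * r ^ 2 * x * y) * hd
  rw [hrel] at key
  linear_combination key + h1

theorem exists_mul_eq (g : Matrix.SpecialLinearGroup (Fin 2) F) :
    ∃ u ∈ (nonsplitTorus a b).range, ∃ v ∈ (upperUni (F := F)).range,
      ∃ w ∈ (nonsplitTorus a b).range, g = u * v * w := by
  obtain ⟨x, y, h1, h2⟩ := exists_fixed_norm a b g
  obtain ⟨T, hT, hT0, hT1⟩ := exists_torus_col a b x y h1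
  obtain ⟨S, hS, hS0, hS1⟩ := exists_torus_col a b _ _ h2
  refine ⟨S, hS, S⁻¹ * g * T, ?_, T⁻¹, inv_mem hT, by group⟩
  have e : ∀ i, ((g * T : Matrix.SpecialLinearGroup (Fin 2) F) : Matrix (Fin 2) (Fin 2) F) i 0 =
      (S : Matrix (Fin 2) (Fin 2) F) i 0 := by
    intro i
    rw [Matrix.SpecialLinearGroup.coe_mul, Matrix.mul_apply, Fin.sum_univ_two, hT0, hT1]
    fin_cases i <;> simp [hS0, hS1]
  have e' : ∀ i, ((S⁻¹ * g * T : Matrix.SpecialLinearGroup (Fin 2) F) : Matrix (Fin 2) (Fin 2) F) i 0 =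
      (1 : Matrix (Fin 2) (Fin 2) F) i 0 := by
    intro i
    rw [← Matrix.SpecialLinearGroup.coe_one (n := Fin 2) (R := F), ← inv_mul_cancel S, mul_assoc,
      Matrix.SpecialLinearGroup.coe_mul, Matrix.SpecialLinearGroup.coe_mul S⁻¹ S, Matrix.mul_apply,
      Matrix.mul_apply]
    exact Finset.sum_congr rfl fun j _ => by rw [e]
  exact mem_upperUni_range _ (by simpa using e' 0) (by simpa using e' 1)

omit [Finite F] in
theorem upperUni_mul_self : ∀ v ∈ (upperUni (F := F)).range, v * v = 1 := by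
  rintro v ⟨t, rfl⟩
  rw [← map_mul]
  have : t * t = 1 := CharTwo.add_self_eq_zero (t.toAdd)
  rw [this, map_one]

omit hab in
theorem psl_aba :
    ∃ A B : Subgroup (Matrix.ProjectiveSpecialLinearGroup (Fin 2) F),
      IsCyclic A ∧ Nat.card A = Nat.card F + 1 ∧ IsMulCommutative B ∧ (∀ b ∈ B, b * b = 1) ∧
        Nat.card B = Nat.card F ∧
        ∀ g : Matrix.ProjectiveSpecialLinearGroup (Fin 2) F,
          ∃ a ∈ A, ∃ b ∈ B, ∃ c ∈ A, g = a * b * c := by
  obtain ⟨a, b, hab⟩ := exists_irreducible_quadratic (F := F)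
  haveI : Fact (∀ r : F, r ^ 2 ≠ a + b * r) := ⟨hab⟩
  obtain ⟨π, hπ⟩ : ∃ π : Matrix.SpecialLinearGroup (Fin 2) F →*
      Matrix.ProjectiveSpecialLinearGroup (Fin 2) F, π = QuotientGroup.mk' _ := ⟨_, rfl⟩
  have hinj : Function.Injective π := by
    rw [injective_iff_map_eq_one]
    intro g hg
    rw [hπ, QuotientGroup.mk'_apply, QuotientGroup.eq_one_iff,
      Cfsg.Agent.Recog71.sl2_center_eq_bot, Subgroup.mem_bot] at hg
    exact hg
  have hsurj : Function.Surjective π := hπ ▸ QuotientGroup.mk'_surjective _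
  refine ⟨(π.comp (nonsplitTorus a b)).range, (π.comp (upperUni (F := F))).range, ?_, ?_, ?_, ?_, ?_, ?_⟩
  · exact isCyclic_of_surjective _ (MonoidHom.rangeRestrict_surjective _)
  · rw [← card_nonsplit_eq a b]
    exact (Nat.card_congr (MonoidHom.ofInjective (f := π.comp (nonsplitTorus a b)) (fun x y h => nonsplitTorus_injective a b (hinj h))).toEquiv).symm
  · refine ⟨⟨?_⟩⟩
    rintro ⟨_, s, rfl⟩ ⟨_, t, rfl⟩
    exact Subtype.ext (by rw [Subgroup.coe_mul, Subgroup.coe_mul, ← map_mul, ← map_mul, mul_comm])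
  · rintro _ ⟨t, rfl⟩
    rw [MonoidHom.comp_apply, ← map_mul, upperUni_mul_self _ ⟨t, rfl⟩, map_one]
  · rw [← Nat.card_congr (MonoidHom.ofInjective (f := π.comp (upperUni (F := F))) (fun x y h => upperUni_injective (hinj h))).toEquiv]
    exact Nat.card_congr Multiplicative.toAdd
  · intro g
    obtain ⟨h, rfl⟩ := hsurj g
    obtain ⟨u, ⟨s, rfl⟩, v, ⟨t, rfl⟩, w, ⟨r, rfl⟩, rfl⟩ := exists_mul_eq a b h
    exact ⟨_, ⟨s, rfl⟩, _, ⟨t, rfl⟩, _, ⟨r, rfl⟩, by simp⟩

end Cfsg.Agent.SL2Tor
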