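import Cfsg.Agent.SL2Tor.Core

/-! The set of traces of a product of two non-central classes of `SL₂` is large. -/

set_option autoImplicit false

namespace Cfsg.Agent.SL2Tor

open Matrix

variable {F : Type*} [Field F] [Finite F]

theorem card_units_three {F : Type*} [Field F] [Fintype F] (hq : 4 ≤ Fintype.card F) (a b : F) :
    ∃ z : F, z ≠ 0 ∧ z ≠ a ∧ z ≠ b := by
  classical
  have h : ({0, a, b} : Finset F).card < (Finset.univ : Finset F).card := by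
    refine lt_of_le_of_lt Finset.card_le_three ?_
    rw [Finset.card_univ]; omega
  obtain ⟨z, -, hz⟩ := Finset.exists_mem_notMem_of_card_lt_card h
  simp only [Finset.mem_insert, Finset.mem_singleton, not_or] at hz
  exact ⟨z, hz.1, hz.2.1, hz.2.2⟩

theorem exists_square_avoiding {F : Type*} [Field F] [Fintype F] (hq : 4 ≤ Fintype.card F) (w : F) :
    ∃ z : F, z ≠ 0 ∧ z ^ 2 ≠ w := by
  by_cases hw : w = 1
  · obtain ⟨z, h0, h1, h2⟩ := card_units_three hq 1 (-1)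
    exact ⟨z, h0, fun e => (sq_eq_one_iff.1 (e.trans hw)).elim h1 h2⟩
  · exact ⟨1, one_ne_zero, by rw [one_pow]; exact Ne.symm hw⟩

/-- A non-zero binary form `x² + t x y + y²` takes a value off any two given ones. -/
theorem exists_form_avoiding [Fintype F] (hq : 4 ≤ Fintype.card F) (t w₀ w₁ : F) :
    ∃ x y : F, (x ≠ 0 ∨ y ≠ 0) ∧ x ^ 2 + t * x * y + y ^ 2 ≠ w₀ ∧ x ^ 2 + t * x * y + y ^ 2 ≠ w₁ := by
  by_cases ht : t ^ 2 = 4
  · obtain ⟨x0, y0, hne, h0⟩ : ∃ x0 y0 : F, (x0 ≠ 0 ∨ y0 ≠ 0) ∧ x0 ^ 2 + t * x0 * y0 + y0 ^ 2 = 0 := by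
      by_cases h2 : (2 : F) = 0
      · refine ⟨1, 1, Or.inl one_ne_zero, ?_⟩
        have ht0 : t = 0 := by
          apply eq_zero_of_pow_eq_zero (n := 2)
          rw [ht]; linear_combination 2 * h2
        rw [ht0]; linear_combination h2
      · refine ⟨-t / 2, 1, Or.inr one_ne_zero, ?_⟩
        field_simp
        linear_combination -ht
    by_cases hz : w₀ = 0 ∨ w₁ = 0
    · rcases hz with h | h
      · obtain ⟨z, hz0, hz1⟩ := exists_square_avoiding hq w₁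
        refine ⟨z, 0, Or.inl hz0, ?_, ?_⟩ <;> simp
        · rw [h]; exact pow_ne_zero 2 hz0
        · exact hz1
      · obtain ⟨z, hz0, hz1⟩ := exists_square_avoiding hq w₀
        refine ⟨z, 0, Or.inl hz0, ?_, ?_⟩ <;> simp
        · exact hz1
        · rw [h]; exact pow_ne_zero 2 hz0
    · push Not at hz
      exact ⟨x0, y0, hne, by rw [h0]; exact Ne.symm hz.1, by rw [h0]; exact Ne.symm hz.2⟩
  · obtain ⟨w, hw, h0, h1⟩ := card_units_three hq w₀ w₁
    obtain ⟨x, y, h⟩ := exists_conic ht 0 0 w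
    simp only [zero_mul, add_zero] at h
    refine ⟨x, y, ?_, h ▸ h0, h ▸ h1⟩
    by_contra hc
    push Not at hc
    obtain ⟨rfl, rfl⟩ := hc
    exact hw (by rw [← h]; ring)

theorem exists_sl_col (x y : F) (h : x ≠ 0 ∨ y ≠ 0) :
    ∃ k : Matrix.SpecialLinearGroup (Fin 2) F,
      (k : Matrix (Fin 2) (Fin 2) F) 0 0 = x ∧ (k : Matrix (Fin 2) (Fin 2) F) 1 0 = y := by
  rcases eq_or_ne x 0 with hx | hx
  · have hy : y ≠ 0 := h.resolve_left (fun e => e hx)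
    exact ⟨⟨!![x, -y⁻¹; y, 0], by rw [det_fin_two_of]; field_simp; ring⟩, by simp, by simp⟩
  · exact ⟨⟨!![x, 0; y, x⁻¹], by rw [det_fin_two_of]; field_simp; ring⟩, by simp, by simp⟩

theorem trace_mul_avoiding_parabolic [Fintype F] (hq : 4 ≤ Fintype.card F)
    (A B : Matrix.SpecialLinearGroup (Fin 2) F)
    (hA : ¬ IsScalar (A : Matrix (Fin 2) (Fin 2) F)) (hB : ¬ IsScalar (B : Matrix (Fin 2) (Fin 2) F))
    (hB4 : (B : Matrix (Fin 2) (Fin 2) F).trace ^ 2 = 4) (c : F) :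
    ∃ x : Matrix.SpecialLinearGroup (Fin 2) F,
      ((A * (x * B * x⁻¹) : Matrix.SpecialLinearGroup (Fin 2) F) : Matrix (Fin 2) (Fin 2) F).trace ≠ c ∧
      ((A * (x * B * x⁻¹) : Matrix.SpecialLinearGroup (Fin 2) F) : Matrix (Fin 2) (Fin 2) F).trace ≠ -c := by
  obtain ⟨P, hP⟩ := exists_gl_comp A.2 hA
  obtain ⟨α, hα⟩ : ∃ α : F, α = (A : Matrix (Fin 2) (Fin 2) F).trace := ⟨_, rfl⟩
  rw [← hα] at hP
  obtain ⟨s, hs, hs2⟩ : ∃ s : F, (B : Matrix (Fin 2) (Fin 2) F).trace = 2 * s ∧ s ^ 2 = 1 := by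
    by_cases h2 : (2 : F) = 0
    · refine ⟨1, ?_, one_pow 2⟩
      have : (B : Matrix (Fin 2) (Fin 2) F).trace ^ 2 = 0 := by rw [hB4]; linear_combination 2 * h2
      rw [eq_zero_of_pow_eq_zero this, h2, zero_mul]
    · refine ⟨(B : Matrix (Fin 2) (Fin 2) F).trace / 2, by field_simp, ?_⟩
      field_simp
      linear_combination hB4
  have hs0 : s ≠ 0 := by rintro rfl; simp at hs2
  obtain ⟨B₁, hB₁⟩ : ∃ B₁ : Matrix (Fin 2) (Fin 2) F, B₁ = P⁻¹.val * (B : Matrix (Fin 2) (Fin 2) F) * P.val :=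
    ⟨_, rfl⟩
  have hB₁d : B₁.det = 1 := by rw [hB₁, det_units_conj']; exact B.2
  have hB₁t : B₁.trace = 2 * s := by rw [hB₁, trace_units_conj']; exact hs
  have hB₁ns : ¬ IsScalar B₁ := by
    intro hsc
    obtain ⟨h1, h2, h3⟩ := hsc
    have e : B₁ = B₁ 1 1 • 1 := by
      ext i j; fin_cases i <;> fin_cases j <;> simp [h1, h2, h3]
    apply hB
    have eB : (B : Matrix (Fin 2) (Fin 2) F) = P.val * B₁ * P⁻¹.val := by
      rw [hB₁]; simp [← Matrix.mul_assoc]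
    rw [eB, e]
    simp [IsScalar, Matrix.one_apply]
  have hU : ∀ r : F, r ≠ 0 → ¬ IsScalar (!![s, r; 0, s] : Matrix (Fin 2) (Fin 2) F) :=
    fun r hr ⟨h, _, _⟩ => hr (by simpa using h)
  obtain ⟨Q, hQ⟩ := conj_gl_of_trace (A := !![s, 1; 0, s]) (B := B₁)
    (by rw [det_fin_two_of]; linear_combination hs2) hB₁d (hU 1 one_ne_zero) hB₁ns
    (by rw [hB₁t]; simp [trace_fin_two]; ring)
  obtain ⟨d, hd⟩ : ∃ d : F, d = Q.val.det := ⟨_, rfl⟩
  have hd0 : d ≠ 0 := hd ▸ Q.det.ne_zero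
  obtain ⟨Q₁, hQ₁⟩ : ∃ Q₁ : Matrix.SpecialLinearGroup (Fin 2) F,
      (Q₁ : Matrix (Fin 2) (Fin 2) F) = Q.val * !![d⁻¹, 0; 0, 1] :=
    ⟨⟨_, by rw [Matrix.det_mul, ← hd, det_fin_two_of]; field_simp; ring⟩, rfl⟩
  have hQB : (Q₁ : Matrix (Fin 2) (Fin 2) F) * !![s, d; 0, s] = B₁ * (Q₁ : Matrix (Fin 2) (Fin 2) F) := by
    rw [hQ₁, hQ]
    simp only [Matrix.mul_assoc, Units.inv_mul_cancel_left]
    congr 1
    ext i j
    fin_cases i <;> fin_cases j <;> simp [Matrix.mul_apply, Fin.sum_univ_two] <;> field_simp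
  obtain ⟨a, b, hab, h0, h1⟩ := exists_form_avoiding hq α ((c - s * α) / d) ((-c - s * α) / d)
  obtain ⟨k, hka, hkb⟩ := exists_sl_col a b hab
  obtain ⟨K, hK⟩ : ∃ K : Matrix.SpecialLinearGroup (Fin 2) F, K = k * Q₁⁻¹ := ⟨_, rfl⟩
  obtain ⟨x, hx⟩ : ∃ x : Matrix.SpecialLinearGroup (Fin 2) F, (x : Matrix (Fin 2) (Fin 2) F) =
      P.val * (K : Matrix (Fin 2) (Fin 2) F) * P⁻¹.val :=
    ⟨⟨_, by rw [det_units_conj]; exact K.2⟩, rfl⟩
  have inv_eq : ∀ (u : Matrix.SpecialLinearGroup (Fin 2) F) (M : Matrix (Fin 2) (Fin 2) F),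
      (u : Matrix (Fin 2) (Fin 2) F) * M = 1 →
        ((u⁻¹ : Matrix.SpecialLinearGroup (Fin 2) F) : Matrix (Fin 2) (Fin 2) F) = M := by
    intro u M hu
    have h' : ((u⁻¹ : Matrix.SpecialLinearGroup (Fin 2) F) : Matrix (Fin 2) (Fin 2) F) *
        (u : Matrix (Fin 2) (Fin 2) F) = 1 := by
      rw [← Matrix.SpecialLinearGroup.coe_mul, inv_mul_cancel, Matrix.SpecialLinearGroup.coe_one]
    exact left_inv_eq_right_inv h' hu
  have hmulinv : ∀ u : Matrix.SpecialLinearGroup (Fin 2) F, (u : Matrix (Fin 2) (Fin 2) F) *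
      ((u⁻¹ : Matrix.SpecialLinearGroup (Fin 2) F) : Matrix (Fin 2) (Fin 2) F) = 1 := fun u => by
    rw [← Matrix.SpecialLinearGroup.coe_mul, mul_inv_cancel, Matrix.SpecialLinearGroup.coe_one]
  have htr : ((A * (x * B * x⁻¹) : Matrix.SpecialLinearGroup (Fin 2) F) : Matrix (Fin 2) (Fin 2) F).trace =
      s * α + d * (a ^ 2 + α * a * b + b ^ 2) := by
    have hxinv : ((x⁻¹ : Matrix.SpecialLinearGroup (Fin 2) F) : Matrix (Fin 2) (Fin 2) F) =
        P.val * ((K⁻¹ : Matrix.SpecialLinearGroup (Fin 2) F) : Matrix (Fin 2) (Fin 2) F) * P⁻¹.val := by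
      refine inv_eq x _ ?_
      rw [hx]
      simp only [Matrix.mul_assoc, Units.inv_mul_cancel_left]
      rw [← Matrix.mul_assoc (K : Matrix (Fin 2) (Fin 2) F), hmulinv, Matrix.one_mul, Units.mul_inv]
    have e1 : ((A * (x * B * x⁻¹) : Matrix.SpecialLinearGroup (Fin 2) F) : Matrix (Fin 2) (Fin 2) F) =
        P.val * (comp2 α * ((K : Matrix (Fin 2) (Fin 2) F) * B₁ *
          ((K⁻¹ : Matrix.SpecialLinearGroup (Fin 2) F) : Matrix (Fin 2) (Fin 2) F))) * P⁻¹.val := by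
      have hA' : (A : Matrix (Fin 2) (Fin 2) F) = P.val * comp2 α * P⁻¹.val := by
        rw [← hP]; simp [Matrix.mul_assoc]
      rw [Matrix.SpecialLinearGroup.coe_mul, Matrix.SpecialLinearGroup.coe_mul,
        Matrix.SpecialLinearGroup.coe_mul, hx, hxinv, hA', hB₁]
      simp [Matrix.mul_assoc]
    have e2 : (K : Matrix (Fin 2) (Fin 2) F) * B₁ *
        ((K⁻¹ : Matrix.SpecialLinearGroup (Fin 2) F) : Matrix (Fin 2) (Fin 2) F) =
        (k : Matrix (Fin 2) (Fin 2) F) * !![s, d; 0, s] *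
          ((k⁻¹ : Matrix.SpecialLinearGroup (Fin 2) F) : Matrix (Fin 2) (Fin 2) F) := by
      rw [hK, _root_.mul_inv_rev, inv_inv, Matrix.SpecialLinearGroup.coe_mul,
        Matrix.SpecialLinearGroup.coe_mul]
      simp only [Matrix.mul_assoc]
      rw [← Matrix.mul_assoc B₁, ← hQB, Matrix.mul_assoc, ← Matrix.mul_assoc _
        (Q₁ : Matrix (Fin 2) (Fin 2) F), ← Matrix.SpecialLinearGroup.coe_mul, inv_mul_cancel,
        Matrix.SpecialLinearGroup.coe_one, Matrix.one_mul]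
    rw [e1, trace_units_conj, e2, Matrix.SpecialLinearGroup.coe_inv, adjugate_fin_two]
    rw [Matrix.eta_fin_two (k : Matrix (Fin 2) (Fin 2) F), comp2]
    simp [hka, hkb]
    have hdk := k.2
    rw [det_fin_two, hka, hkb] at hdk
    linear_combination (s * α) * hdk
  exact ⟨x, fun e => h0 (by rw [eq_div_iff hd0]; linear_combination htr.symm.trans e),
    fun e => h1 (by rw [eq_div_iff hd0]; linear_combination htr.symm.trans e)⟩

/-- The traces of `A · Bˣ` are not contained in a pair `±c`. -/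
theorem trace_mul_avoiding [Fintype F] (hq : 4 ≤ Fintype.card F)
    (A B : Matrix.SpecialLinearGroup (Fin 2) F)
    (hA : ¬ IsScalar (A : Matrix (Fin 2) (Fin 2) F)) (hB : ¬ IsScalar (B : Matrix (Fin 2) (Fin 2) F))
    (c : F) :
    ∃ x : Matrix.SpecialLinearGroup (Fin 2) F,
      ((A * (x * B * x⁻¹) : Matrix.SpecialLinearGroup (Fin 2) F) : Matrix (Fin 2) (Fin 2) F).trace ≠ c ∧
      ((A * (x * B * x⁻¹) : Matrix.SpecialLinearGroup (Fin 2) F) : Matrix (Fin 2) (Fin 2) F).trace ≠ -c := by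
  by_cases hB4 : (B : Matrix (Fin 2) (Fin 2) F).trace ^ 2 = 4
  · exact trace_mul_avoiding_parabolic hq A B hA hB hB4 c
  by_cases hA4 : (A : Matrix (Fin 2) (Fin 2) F).trace ^ 2 = 4
  · obtain ⟨x, h1, h2⟩ := trace_mul_avoiding_parabolic hq B A hB hA hA4 c
    refine ⟨x⁻¹, ?_⟩
    have : ((A * (x⁻¹ * B * x⁻¹⁻¹) : Matrix.SpecialLinearGroup (Fin 2) F) : Matrix (Fin 2) (Fin 2) F).trace =
        ((B * (x * A * x⁻¹) : Matrix.SpecialLinearGroup (Fin 2) F) : Matrix (Fin 2) (Fin 2) F).trace := by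
      rw [inv_inv, ← trace_conj x (A * (x⁻¹ * B * x)),
        show x * (A * (x⁻¹ * B * x)) * x⁻¹ = (x * A * x⁻¹) * B by group,
        Matrix.SpecialLinearGroup.coe_mul, Matrix.trace_mul_comm, ← Matrix.SpecialLinearGroup.coe_mul]
    rw [this]
    exact ⟨h1, h2⟩
  obtain ⟨z, -, hz1, hz2⟩ := card_units_three hq c (-c)
  obtain ⟨x, hx⟩ := exists_trace_mul A B hA4 hB4 z
  exact ⟨x, hx ▸ hz1, hx ▸ hz2⟩

end Cfsg.Agent.SL2Tor
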