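import Cfsg.Prelude.Def_ParabolicCharacters
import Cfsg.Agent.SL2Tor.ABA
import Cfsg.Agent.SL2Tor.Traces
import Cfsg.Agent.Lib.CharInd.Basic

/-! The Borel subgroup of `SL₂(q)` and functions induced from it. -/

set_option autoImplicit false

namespace Cfsg.Agent.SL2Tor

open Matrix Cfsg

variable {F : Type*} [Field F]

theorem mem_borelSL_iff (g : Matrix.SpecialLinearGroup (Fin 2) F) :
    g ∈ (upperTriangularGL 2 F).comap Matrix.SpecialLinearGroup.toGL ↔
      (g : Matrix (Fin 2) (Fin 2) F) 1 0 = 0 := by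
  constructor
  · intro h; exact h (i := 1) (j := 0) (by decide)
  · intro h i j hij
    fin_cases i <;> fin_cases j <;> simp at hij
    exact h

/-- The Borel subgroup as a product of the torus and the root group. -/
noncomputable def borelEquiv :
    Fˣ × F ≃ ((upperTriangularGL 2 F).comap Matrix.SpecialLinearGroup.toGL :
      Subgroup (Matrix.SpecialLinearGroup (Fin 2) F)) where
  toFun p := ⟨⟨!![(p.1 : F), p.2; 0, ((p.1⁻¹ : Fˣ) : F)], by simp [det_fin_two_of]⟩,
    (mem_borelSL_iff _).2 rfl⟩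
  invFun g := (Units.mk0 ((g.1 : Matrix (Fin 2) (Fin 2) F) 0 0) (by
      intro h
      have hd := g.1.2
      rw [det_fin_two, h, (mem_borelSL_iff _).1 g.2] at hd
      simp at hd), (g.1 : Matrix (Fin 2) (Fin 2) F) 0 1)
  left_inv p := Prod.ext (Units.ext rfl) rfl
  right_inv g := by
    have hd := g.1.2
    rw [det_fin_two, (mem_borelSL_iff _).1 g.2, mul_zero, sub_zero] at hd
    apply Subtype.ext; apply Subtype.ext
    ext i j
    fin_cases i <;> fin_cases j <;> simp [(mem_borelSL_iff _).1 g.2]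
    exact inv_eq_of_mul_eq_one_right hd

theorem card_borelSL [Finite F] :
    Nat.card ((upperTriangularGL 2 F).comap Matrix.SpecialLinearGroup.toGL :
      Subgroup (Matrix.SpecialLinearGroup (Fin 2) F)) = (Nat.card F - 1) * Nat.card F := by
  rw [← Nat.card_congr borelEquiv, Nat.card_prod, Nat.card_units]

theorem mulVec_col {g x : Matrix.SpecialLinearGroup (Fin 2) F} {v : Fin 2 → F}
    (hv : ∀ i, (x : Matrix (Fin 2) (Fin 2) F) i 0 = v i) (i : Fin 2) :
    ((g : Matrix (Fin 2) (Fin 2) F) *ᵥ v) i =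
      ((x⁻¹ * g * x : Matrix.SpecialLinearGroup (Fin 2) F) : Matrix (Fin 2) (Fin 2) F) 0 0 * v i +
      ((x⁻¹ * g * x : Matrix.SpecialLinearGroup (Fin 2) F) : Matrix (Fin 2) (Fin 2) F) 1 0 *
        (x : Matrix (Fin 2) (Fin 2) F) i 1 := by
  have e : g * x = x * (x⁻¹ * g * x) := by group
  have e2 := congrArg (fun m : Matrix.SpecialLinearGroup (Fin 2) F => (m : Matrix (Fin 2) (Fin 2) F) i 0) e
  simp only [Matrix.SpecialLinearGroup.coe_mul, Matrix.mul_apply, Fin.sum_univ_two] at e2
  simp only [Matrix.mulVec, dotProduct, Fin.sum_univ_two, Matrix.SpecialLinearGroup.coe_mul,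
    Matrix.mul_apply]
  rw [← hv, ← hv, ← hv]
  linear_combination e2

variable [Fintype F] [DecidableEq F]

theorem sum_col_eq (f : (Fin 2 → F) → ℂ) :
    ∑ x : Matrix.SpecialLinearGroup (Fin 2) F, f (fun i => (x : Matrix (Fin 2) (Fin 2) F) i 0) =
      (Fintype.card F : ℂ) * ∑ v ∈ Finset.univ.filter (fun v : Fin 2 → F => v ≠ 0), f v := by
  have hne : ∀ x : Matrix.SpecialLinearGroup (Fin 2) F,
      (fun i => (x : Matrix (Fin 2) (Fin 2) F) i 0) ∈ Finset.univ.filter (fun v : Fin 2 → F => v ≠ 0) := by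
    intro x
    simp only [Finset.mem_filter, Finset.mem_univ, true_and]
    intro e
    have hd := x.2
    rw [det_fin_two, congrFun e 0, congrFun e 1] at hd
    simp at hd
  rw [← Finset.sum_fiberwise_of_maps_to (fun x _ => hne x), Finset.mul_sum]
  refine Finset.sum_congr rfl fun v hv => ?_
  rw [Finset.sum_congr rfl (fun x hx => by rw [(Finset.mem_filter.1 hx).2] : ∀ x ∈ _, _ = f v),
    Finset.sum_const, nsmul_eq_mul]
  congr 2
  have hv' : v 0 ≠ 0 ∨ v 1 ≠ 0 := by
    by_contra h
    push Not at h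
    exact (Finset.mem_filter.1 hv).2 (funext fun i => by fin_cases i <;> simp [h.1, h.2])
  obtain ⟨k, hk0, hk1⟩ := exists_sl_col (v 0) (v 1) hv'
  have hk : ∀ i, (k : Matrix (Fin 2) (Fin 2) F) i 0 = v i := fun i => by fin_cases i <;> assumption
  rw [← Finset.card_univ]
  symm
  refine Finset.card_bij (fun t _ => k * upperUni (Multiplicative.ofAdd t)) ?_ ?_ ?_
  · intro t _
    simp only [Finset.mem_filter, Finset.mem_univ, true_and]
    funext i
    simp [Matrix.SpecialLinearGroup.coe_mul, Matrix.mul_apply, upperUni_val, hk]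
  · intro s _ t _ h
    exact Multiplicative.ofAdd.injective (upperUni_injective (mul_left_cancel h))
  · intro x hx
    have hx' : ∀ i, (x : Matrix (Fin 2) (Fin 2) F) i 0 = (k : Matrix (Fin 2) (Fin 2) F) i 0 := fun i => by
      rw [hk]; exact congrFun (Finset.mem_filter.1 hx).2 i
    have e : ∀ i, ((k⁻¹ * x : Matrix.SpecialLinearGroup (Fin 2) F) : Matrix (Fin 2) (Fin 2) F) i 0 =
        (1 : Matrix (Fin 2) (Fin 2) F) i 0 := by
      intro i
      rw [← Matrix.SpecialLinearGroup.coe_one (n := Fin 2) (R := F), ← inv_mul_cancel k,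
        Matrix.SpecialLinearGroup.coe_mul, Matrix.SpecialLinearGroup.coe_mul k⁻¹ k, Matrix.mul_apply,
        Matrix.mul_apply]
      exact Finset.sum_congr rfl fun j _ => by rw [hx']
    obtain ⟨t, ht⟩ := mem_upperUni_range (k⁻¹ * x) (by simpa using e 0) (by simpa using e 1)
    exact ⟨t.toAdd, Finset.mem_univ _, by rw [ofAdd_toAdd, ht, mul_inv_cancel_left]⟩

/-- Value of the eigencharacter at a vector. -/
noncomputable def eigVal (α : MulChar F ℂ) (g : Matrix.SpecialLinearGroup (Fin 2) F) (v : Fin 2 → F) : ℂ :=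
  if h : ∃ c : F, (g : Matrix (Fin 2) (Fin 2) F) *ᵥ v = c • v then α h.choose else 0

theorem eigVal_of_eq (α : MulChar F ℂ) {g : Matrix.SpecialLinearGroup (Fin 2) F} {v : Fin 2 → F}
    (hv : v ≠ 0) {c : F} (h : (g : Matrix (Fin 2) (Fin 2) F) *ᵥ v = c • v) : eigVal α g v = α c := by
  rw [eigVal, dif_pos ⟨c, h⟩]
  congr 1
  exact smul_left_injective F hv ((Exists.choose_spec (⟨c, h⟩ : ∃ c : F, _ = c • v)).symm.trans h)

theorem eigVal_of_not (α : MulChar F ℂ) {g : Matrix.SpecialLinearGroup (Fin 2) F} {v : Fin 2 → F}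
    (h : ∀ c : F, (g : Matrix (Fin 2) (Fin 2) F) *ᵥ v ≠ c • v) : eigVal α g v = 0 :=
  dif_neg (fun ⟨c, hc⟩ => h c hc)

theorem indFun_borel (α : MulChar F ℂ) (g : Matrix.SpecialLinearGroup (Fin 2) F) :
    indFun ((upperTriangularGL 2 F).comap Matrix.SpecialLinearGroup.toGL)
      (fun b => α (((b : Matrix.SpecialLinearGroup (Fin 2) F) : Matrix (Fin 2) (Fin 2) F) 0 0)) g =
      ((Fintype.card F : ℂ) - 1)⁻¹ *
        ∑ v ∈ Finset.univ.filter (fun v : Fin 2 → F => v ≠ 0), eigVal α g v := by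
  rw [indFun, card_borelSL, Nat.card_eq_fintype_card]
  have hterm : ∀ x : Matrix.SpecialLinearGroup (Fin 2) F,
      extendByZero ((upperTriangularGL 2 F).comap Matrix.SpecialLinearGroup.toGL)
        (fun b => α (((b : Matrix.SpecialLinearGroup (Fin 2) F) : Matrix (Fin 2) (Fin 2) F) 0 0))
        (x⁻¹ * g * x) = eigVal α g (fun i => (x : Matrix (Fin 2) (Fin 2) F) i 0) := by
    intro x
    have hd := x.2
    have hv : (fun i => (x : Matrix (Fin 2) (Fin 2) F) i 0) ≠ 0 := by
      intro e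
      rw [det_fin_two, congrFun e 0, congrFun e 1] at hd
      simp at hd
    by_cases hm : (x⁻¹ * g * x) ∈ (upperTriangularGL 2 F).comap Matrix.SpecialLinearGroup.toGL
    · have hmv' : (g : Matrix (Fin 2) (Fin 2) F) *ᵥ (fun i => (x : Matrix (Fin 2) (Fin 2) F) i 0) =
          ((x⁻¹ * g * x : Matrix.SpecialLinearGroup (Fin 2) F) : Matrix (Fin 2) (Fin 2) F) 0 0 •
            (fun i => (x : Matrix (Fin 2) (Fin 2) F) i 0) := by
        funext i
        rw [mulVec_col (x := x) (fun _ => rfl), (mem_borelSL_iff _).1 hm]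
        simp
      rw [eigVal_of_eq α hv hmv']
      exact Subtype.val_injective.extend_apply (fun b : ((upperTriangularGL 2 F).comap Matrix.SpecialLinearGroup.toGL : Subgroup (Matrix.SpecialLinearGroup (Fin 2) F)) => α (((b : Matrix.SpecialLinearGroup (Fin 2) F) : Matrix (Fin 2) (Fin 2) F) 0 0)) (0 : Matrix.SpecialLinearGroup (Fin 2) F → ℂ) ⟨_, hm⟩
    · rw [eigVal_of_not α, extendByZero, Function.extend_apply']
      · rfl
      · rintro ⟨b, hb⟩; exact hm (hb ▸ b.2)
      · intro c hc
        apply hm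
        rw [mem_borelSL_iff]
        have h0 := (mulVec_col (g := g) (x := x) (fun _ => rfl) 0).symm.trans (congrFun hc 0)
        have h1 := (mulVec_col (g := g) (x := x) (fun _ => rfl) 1).symm.trans (congrFun hc 1)
        simp only [Pi.smul_apply, smul_eq_mul] at h0 h1
        rw [det_fin_two] at hd
        linear_combination ((x : Matrix (Fin 2) (Fin 2) F) 0 0) * h1 - ((x : Matrix (Fin 2) (Fin 2) F) 1 0) * h0 -
          (((x⁻¹ * g * x : Matrix.SpecialLinearGroup (Fin 2) F) : Matrix (Fin 2) (Fin 2) F) 1 0) * hd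
  rw [Finset.sum_congr rfl (fun x _ => hterm x), sum_col_eq]
  have hq : (Fintype.card F : ℂ) ≠ 0 := Nat.cast_ne_zero.2 Fintype.card_ne_zero
  rw [Nat.cast_mul, Nat.cast_sub Fintype.card_pos, Nat.cast_one, mul_inv, ← mul_assoc,
    mul_assoc ((Fintype.card F : ℂ) - 1)⁻¹, inv_mul_cancel₀ hq, mul_one]

theorem indFun_borel_values (α : MulChar F ℂ) (g : Matrix.SpecialLinearGroup (Fin 2) F) :
    ((g : Matrix (Fin 2) (Fin 2) F) 0 1 = 0 → (g : Matrix (Fin 2) (Fin 2) F) 1 0 = 0 →
      (g : Matrix (Fin 2) (Fin 2) F) 0 0 ^ 2 ≠ 1 →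
      indFun ((upperTriangularGL 2 F).comap Matrix.SpecialLinearGroup.toGL)
        (fun b => α (((b : Matrix.SpecialLinearGroup (Fin 2) F) : Matrix (Fin 2) (Fin 2) F) 0 0)) g =
        α ((g : Matrix (Fin 2) (Fin 2) F) 0 0) + α ((g : Matrix (Fin 2) (Fin 2) F) 1 1)) ∧
    ((∀ (c : F) (v : Fin 2 → F), v ≠ 0 → (g : Matrix (Fin 2) (Fin 2) F).mulVec v ≠ c • v) →
      indFun ((upperTriangularGL 2 F).comap Matrix.SpecialLinearGroup.toGL)
        (fun b => α (((b : Matrix.SpecialLinearGroup (Fin 2) F) : Matrix (Fin 2) (Fin 2) F) 0 0)) g = 0) ∧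
    ((g : Matrix (Fin 2) (Fin 2) F) 1 0 = 0 →
      (g : Matrix (Fin 2) (Fin 2) F) 0 0 = (g : Matrix (Fin 2) (Fin 2) F) 1 1 →
      (g : Matrix (Fin 2) (Fin 2) F) 0 1 ≠ 0 →
      indFun ((upperTriangularGL 2 F).comap Matrix.SpecialLinearGroup.toGL)
        (fun b => α (((b : Matrix.SpecialLinearGroup (Fin 2) F) : Matrix (Fin 2) (Fin 2) F) 0 0)) g =
        α ((g : Matrix (Fin 2) (Fin 2) F) 0 0)) ∧
    ((g : Matrix (Fin 2) (Fin 2) F) 0 1 = 0 → (g : Matrix (Fin 2) (Fin 2) F) 1 0 = 0 →
      (g : Matrix (Fin 2) (Fin 2) F) 0 0 = (g : Matrix (Fin 2) (Fin 2) F) 1 1 →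
      indFun ((upperTriangularGL 2 F).comap Matrix.SpecialLinearGroup.toGL)
        (fun b => α (((b : Matrix.SpecialLinearGroup (Fin 2) F) : Matrix (Fin 2) (Fin 2) F) 0 0)) g =
        ((Fintype.card F : ℂ) + 1) * α ((g : Matrix (Fin 2) (Fin 2) F) 0 0)) := by
  have hq1 : (Fintype.card F : ℂ) - 1 ≠ 0 := sub_ne_zero.2 (by
    exact_mod_cast (Fintype.one_lt_card (α := F)).ne')
  have hd := g.2
  rw [det_fin_two] at hd
  have hmv : ∀ v i, ((g : Matrix (Fin 2) (Fin 2) F) *ᵥ v) i =
      (g : Matrix (Fin 2) (Fin 2) F) i 0 * v 0 + (g : Matrix (Fin 2) (Fin 2) F) i 1 * v 1 := fun v i => by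
    simp [Matrix.mulVec, dotProduct, Fin.sum_univ_two]
  have hvne : ∀ v : Fin 2 → F, v 0 ≠ 0 ∨ v 1 ≠ 0 → v ≠ 0 := fun v h e => by simp [e] at h
  have hcard : ∀ (e : F → (Fin 2 → F)) (he : Function.Injective e),
      (((Finset.univ.filter (fun t : F => t ≠ 0)).map ⟨e, he⟩).card : ℂ) = (Fintype.card F : ℂ) - 1 := by
    intro e he
    rw [Finset.card_map, Finset.filter_ne', Finset.card_erase_of_mem (Finset.mem_univ _), Finset.card_univ,
      Nat.cast_sub Fintype.card_pos, Nat.cast_one]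
  refine ⟨fun h01 h10 h2 => ?_, fun h => ?_, fun h10 heq h01 => ?_, fun h01 h10 heq => ?_⟩
  · rw [h01, zero_mul, sub_zero] at hd
    have hne : (g : Matrix (Fin 2) (Fin 2) F) 0 0 ≠ (g : Matrix (Fin 2) (Fin 2) F) 1 1 := fun e =>
      h2 (by rw [pow_two]; linear_combination hd + (g : Matrix (Fin 2) (Fin 2) F) 0 0 * e)
    have i1 : Function.Injective (fun t : F => (![t, 0] : Fin 2 → F)) := fun s t h => by
      simpa using congrFun h 0
    have i2 : Function.Injective (fun t : F => (![0, t] : Fin 2 → F)) := fun s t h => by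
      simpa using congrFun h 1
    have hdis : Disjoint ((Finset.univ.filter (fun t : F => t ≠ 0)).map ⟨_, i1⟩)
        ((Finset.univ.filter (fun t : F => t ≠ 0)).map ⟨_, i2⟩) := by
      rw [Finset.disjoint_left]
      simp only [Finset.mem_map, Finset.mem_filter, Finset.mem_univ, true_and, Function.Embedding.coeFn_mk]
      rintro _ ⟨s, hs, rfl⟩ ⟨t, ht, e⟩
      exact hs (by simpa using (congrFun e 0).symm)
    rw [indFun_borel, ← Finset.sum_subset (s₁ := ((Finset.univ.filter (fun t : F => t ≠ 0)).map ⟨_, i1⟩) ∪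
        ((Finset.univ.filter (fun t : F => t ≠ 0)).map ⟨_, i2⟩)) ?_ ?_, Finset.sum_union hdis,
      Finset.sum_eq_card_nsmul (b := α ((g : Matrix (Fin 2) (Fin 2) F) 0 0)) ?_,
      Finset.sum_eq_card_nsmul (b := α ((g : Matrix (Fin 2) (Fin 2) F) 1 1)) ?_,
      nsmul_eq_mul, nsmul_eq_mul, hcard _ i1, hcard _ i2, ← mul_add, inv_mul_cancel_left₀ hq1]
    · simp only [Finset.mem_map, Finset.mem_filter, Finset.mem_univ, true_and, Function.Embedding.coeFn_mk]
      rintro _ ⟨t, ht, rfl⟩
      exact eigVal_of_eq α (hvne _ (Or.inr (by simpa using ht))) (funext fun i => by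
        rw [hmv]; fin_cases i <;> simp [h01, h10])
    · simp only [Finset.mem_map, Finset.mem_filter, Finset.mem_univ, true_and, Function.Embedding.coeFn_mk]
      rintro _ ⟨t, ht, rfl⟩
      exact eigVal_of_eq α (hvne _ (Or.inl (by simpa using ht))) (funext fun i => by
        rw [hmv]; fin_cases i <;> simp [h01, h10])
    · intro v hv
      simp only [Finset.mem_union, Finset.mem_map, Finset.mem_filter, Finset.mem_univ, true_and,
        Function.Embedding.coeFn_mk] at hv ⊢
      rcases hv with ⟨t, ht, rfl⟩ | ⟨t, ht, rfl⟩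
      · exact hvne _ (Or.inl (by simpa using ht))
      · exact hvne _ (Or.inr (by simpa using ht))
    · intro v hv hnot
      simp only [Finset.mem_union, Finset.mem_map, Finset.mem_filter, Finset.mem_univ, true_and,
        Function.Embedding.coeFn_mk, not_or, not_exists, not_and] at hv hnot
      refine eigVal_of_not α fun c hc => ?_
      have c0 := congrFun hc 0
      have c1 := congrFun hc 1
      simp only [hmv, Pi.smul_apply, smul_eq_mul, h01, h10, zero_mul, add_zero, zero_add] at c0 c1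
      by_cases hv1 : v 1 = 0
      · exact hnot.1 (v 0) (fun e => hv (funext fun i => by fin_cases i <;> simp [e, hv1]))
          (funext fun i => by fin_cases i <;> simp [hv1])
      · by_cases hv0 : v 0 = 0
        · exact hnot.2 (v 1) hv1 (funext fun i => by fin_cases i <;> simp [hv0])
        · exact hne ((mul_right_cancel₀ hv0 c0).trans (mul_right_cancel₀ hv1 c1).symm)
  · rw [indFun_borel, Finset.sum_eq_zero (fun v hv => eigVal_of_not α fun c =>
      h c v (Finset.mem_filter.1 hv).2), mul_zero]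
  · have i1 : Function.Injective (fun t : F => (![t, 0] : Fin 2 → F)) := fun s t h => by
      simpa using congrFun h 0
    rw [indFun_borel, ← Finset.sum_subset (s₁ := (Finset.univ.filter (fun t : F => t ≠ 0)).map ⟨_, i1⟩) ?_ ?_,
      Finset.sum_eq_card_nsmul (b := α ((g : Matrix (Fin 2) (Fin 2) F) 0 0)) ?_,
      nsmul_eq_mul, hcard _ i1, inv_mul_cancel_left₀ hq1]
    · simp only [Finset.mem_map, Finset.mem_filter, Finset.mem_univ, true_and, Function.Embedding.coeFn_mk]
      rintro _ ⟨t, ht, rfl⟩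
      exact eigVal_of_eq α (hvne _ (Or.inl (by simpa using ht))) (funext fun i => by
        rw [hmv]; fin_cases i <;> simp [h10])
    · intro v hv
      simp only [Finset.mem_map, Finset.mem_filter, Finset.mem_univ, true_and,
        Function.Embedding.coeFn_mk] at hv ⊢
      obtain ⟨t, ht, rfl⟩ := hv
      exact hvne _ (Or.inl (by simpa using ht))
    · intro v hv hnot
      simp only [Finset.mem_map, Finset.mem_filter, Finset.mem_univ, true_and,
        Function.Embedding.coeFn_mk, not_exists, not_and] at hv hnot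
      refine eigVal_of_not α fun c hc => ?_
      have c0 := congrFun hc 0
      have c1 := congrFun hc 1
      simp only [hmv, Pi.smul_apply, smul_eq_mul, h10, zero_mul, zero_add] at c0 c1
      have hv1 : v 1 = 0 := by
        by_contra hv1
        rw [← mul_right_cancel₀ hv1 c1, ← heq] at c0
        exact (mul_ne_zero h01 hv1) (by linear_combination c0)
      exact hnot (v 0) (fun e => hv (funext fun i => by fin_cases i <;> simp [e, hv1]))
        (funext fun i => by fin_cases i <;> simp [hv1])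
  · rw [indFun_borel, Finset.sum_eq_card_nsmul (b := α ((g : Matrix (Fin 2) (Fin 2) F) 0 0)) (fun v hv =>
      eigVal_of_eq α (Finset.mem_filter.1 hv).2 (funext fun i => by
        rw [hmv]; fin_cases i <;> simp [h01, h10, heq])),
      nsmul_eq_mul, Finset.filter_ne', Finset.card_erase_of_mem (Finset.mem_univ _), Finset.card_univ,
      Nat.cast_sub Fintype.card_pos, Fintype.card_fun, Fintype.card_fin, Nat.cast_pow, Nat.cast_one]
    field_simp
    ring

end Cfsg.Agent.SL2Tor
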