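import Cfsg.Agent.Char2x2.SLOddTable

/-! Sums of irreducible characters of `SL₂(q)`, `q` odd, over the upper unitriangular group. -/

set_option autoImplicit false

namespace Cfsg.Agent.SL2Tor

open Matrix Cfsg.Agent.Char2x2

variable {F : Type*} [Field F] [Fintype F] [DecidableEq F]

local notation "SL2" => Matrix.SpecialLinearGroup (Fin 2) F

theorem sum_upper_eq (f : SL2 → ℂ) :
    (∑ g : SL2, if (g : Matrix (Fin 2) (Fin 2) F) 1 0 = 0 ∧ (g : Matrix (Fin 2) (Fin 2) F) 0 0 = 1 ∧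
      (g : Matrix (Fin 2) (Fin 2) F) 1 1 = 1 then f g else 0) = ∑ b : F, f (uS b) := by
  rw [← Finset.sum_filter]
  refine Finset.sum_bij' (fun g _ => (g : Matrix (Fin 2) (Fin 2) F) 0 1) (fun b _ => uS b)
    (fun _ _ => Finset.mem_univ _) (fun b _ => ?_) (fun g hg => ?_) (fun b _ => ?_) (fun g hg => ?_)
  · refine Finset.mem_filter.2 ⟨Finset.mem_univ _, ?_⟩
    simp [uS]
  · simp only [Finset.mem_filter, Finset.mem_univ, true_and] at hg
    apply Subtype.ext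
    ext i j; fin_cases i <;> fin_cases j <;> simp [uS, hg.1, hg.2.1, hg.2.2]
  · simp [uS]
  · simp only [Finset.mem_filter, Finset.mem_univ, true_and] at hg
    congr 1
    apply Subtype.ext
    ext i j; fin_cases i <;> fin_cases j <;> simp [uS, hg.1, hg.2.1, hg.2.2]

theorem sum_uS_pair (hodd : Odd (Fintype.card F)) {χ : Cfsg.IrrCharacter SL2} (hχ : χ ∈ pairSetS) :
    ∑ b : F, (χ : SL2 → ℂ) (uS b) = (Fintype.card F : ℂ) := by
  classical
  obtain ⟨ε, hε⟩ := exists_not_isSquare hodd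
  set e := Units.mk0 ε (ne_zero_of_not_isSquare hε)
  have hne := sigIrr_ne hε (pair_data hε χ hχ).2.2
  have hset : pairSetS (F := F) = {χ, sigIrr e χ} := by
    refine (Finset.eq_of_subset_of_card_le ?_ ?_).symm
    · intro z hz
      simp only [Finset.mem_insert, Finset.mem_singleton] at hz
      rcases hz with rfl | rfl
      exacts [hχ, sigIrr_mem_pair hε _ hχ]
    · rw [card_pairSetS hε, Finset.card_pair hne.symm]
  have h : ∀ b, (χ : SL2 → ℂ) (uS b) + (χ : SL2 → ℂ) (uS (e * b)) = psS (etaC : MulChar F ℂ) (uS b) := by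
    intro b
    rw [← sum_pairSetS hε, hset, Finset.sum_pair hne.symm, sigIrr_apply, sigS_uS]
  have hsum := Finset.sum_congr rfl (fun b (_ : b ∈ Finset.univ) => h b)
  rw [Finset.sum_add_distrib,
    show ∑ b, (χ : SL2 → ℂ) (uS (e * b)) = ∑ b, (χ : SL2 → ℂ) (uS b) from
      Equiv.sum_comp (Equiv.mulLeft₀ (e : F) e.ne_zero) (fun b => (χ : SL2 → ℂ) (uS b)),
    ← Finset.add_sum_erase Finset.univ (fun b => psS (etaC : MulChar F ℂ) (uS b)) (Finset.mem_univ 0),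
    uS_zero, psS_one_apply, Finset.sum_congr rfl (fun b hb => psS_uS _ (Finset.ne_of_mem_erase hb)),
    Finset.sum_const, Finset.card_erase_of_mem (Finset.mem_univ _), Finset.card_univ, nsmul_eq_mul,
    Nat.cast_sub Fintype.card_pos, Nat.cast_one] at hsum
  linear_combination (1 / 2 : ℂ) * hsum

theorem class_of_degree (hodd : Odd (Fintype.card F)) (hq : 5 ≤ Fintype.card F) (χ : Cfsg.IrrCharacter SL2) :
    ((χ : SL2 → ℂ) 1 = (Fintype.card F : ℂ) + 1 → χ ∈ psSetS) ∧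
    ((χ : SL2 → ℂ) 1 = (Fintype.card F : ℂ) → χ = stIrr) ∧
    ((χ : SL2 → ℂ) 1 = (Fintype.card F : ℂ) - 1 → χ ∈ cuspSetS ∧ χ ∉ halfSetS) ∧
    ((χ : SL2 → ℂ) 1 = (((Fintype.card F + 1) / 2 : ℕ) : ℂ) → χ ∈ pairSetS) ∧
    ((χ : SL2 → ℂ) 1 = (((Fintype.card F - 1) / 2 : ℕ) : ℂ) → χ ∈ halfSetS) := by
  obtain ⟨-, -, c3⟩ := half_casts hodd
  rw [← c3, show (Fintype.card F : ℂ) + 1 = ((Fintype.card F + 1 : ℕ) : ℂ) by push_cast; rfl]
  obtain ⟨j, hj⟩ := hodd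
  rcases sl_odd_cases ⟨j, hj⟩ χ with ⟨h, e⟩ | ⟨h, e⟩ | ⟨h, e⟩ | ⟨h, e⟩ | ⟨h, e⟩ | ⟨h, e⟩ <;>
    refine ⟨fun d => ?_, fun d => ?_, fun d => ?_, fun d => ?_, fun d => ?_⟩ <;>
    first
      | exact h
      | exact absurd (Nat.cast_injective (e.symm.trans d)) (by omega)

theorem sum_uS_cases (hodd : Odd (Fintype.card F)) (hq : 5 ≤ Fintype.card F) (χ : Cfsg.IrrCharacter SL2) :
    ((χ : SL2 → ℂ) 1 = (Fintype.card F : ℂ) + 1 → ∑ b : F, (χ : SL2 → ℂ) (uS b) = 2 * (Fintype.card F : ℂ)) ∧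
    ((χ : SL2 → ℂ) 1 = (Fintype.card F : ℂ) → ∑ b : F, (χ : SL2 → ℂ) (uS b) = (Fintype.card F : ℂ)) ∧
    ((χ : SL2 → ℂ) 1 = (Fintype.card F : ℂ) - 1 → ∑ b : F, (χ : SL2 → ℂ) (uS b) = 0) ∧
    ((χ : SL2 → ℂ) 1 = (((Fintype.card F + 1) / 2 : ℕ) : ℂ) →
      ∑ b : F, (χ : SL2 → ℂ) (uS b) = (Fintype.card F : ℂ)) ∧
    ((χ : SL2 → ℂ) 1 = (((Fintype.card F - 1) / 2 : ℕ) : ℂ) → ∑ b : F, (χ : SL2 → ℂ) (uS b) = 0) := by
  classical
  obtain ⟨h1, h2, h3, h4, h5⟩ := class_of_degree hodd hq χ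
  refine ⟨fun d => ?_, fun d => ?_, fun d => ?_, fun d => ?_, fun d => ?_⟩
  · obtain ⟨α, -, e⟩ := mem_psSetS.mp (h1 d)
    rw [e, ← Finset.add_sum_erase Finset.univ (fun b => psS α (uS b)) (Finset.mem_univ 0),
      Finset.sum_congr rfl (fun b hb => psS_uS _ (Finset.ne_of_mem_erase hb)), Finset.sum_const,
      Finset.card_erase_of_mem (Finset.mem_univ _), Finset.card_univ, nsmul_eq_mul,
      Nat.cast_sub Fintype.card_pos, Nat.cast_one]
    show psS α (uS 0) + _ = _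
    rw [uS_zero, psS_one_apply]
    ring
  · rw [h2 d]
    show ∑ b : F, stS (uS b) = _
    rw [← Finset.add_sum_erase Finset.univ (fun b => stS (uS b))
      (Finset.mem_univ 0), Finset.sum_eq_zero (fun b hb => stS_uS (Finset.ne_of_mem_erase hb)), add_zero]
    show stS (uS 0) = _
    rw [uS_zero, stS_one]
  · exact mem_cuspSetS.mp (h3 d).1
  · exact sum_uS_pair hodd (h4 d)
  · exact mem_cuspSetS.mp (mem_halfSetS.mp (h5 d)).1

end Cfsg.Agent.SL2Tor
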