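import Cfsg.Agent.SL2Tor.CuspChar
import Cfsg.Agent.SL2Tor.UnipotentSum
import Mathlib.GroupTheory.FiniteAbelian.Duality

/-! All characters of degree `q - 1`, and the values of those of degree `(q ± 1)/2` on tori. -/

set_option autoImplicit false

namespace Cfsg.Agent.SL2Tor

open Matrix Cfsg Cfsg.Agent.Char2x2
open scoped ComplexConjugate

variable {F : Type*} [Field F] [Fintype F] [DecidableEq F]

local notation "SL2" => Matrix.SpecialLinearGroup (Fin 2) F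

theorem pair_diag (hodd : Odd (Fintype.card F)) {χ : Cfsg.IrrCharacter SL2} (hχ : χ ∈ pairSetS) {g : SL2}
    (h01 : sm g 0 1 = 0) (h10 : sm g 1 0 = 0) (hsq : sm g 0 0 ^ 2 ≠ 1) :
    (χ : SL2 → ℂ) g = etaC (sm g 0 0) := by
  classical
  obtain ⟨ε, hε⟩ := exists_not_isSquare hodd
  set e := Units.mk0 ε (ne_zero_of_not_isSquare hε)
  have hne := sigIrr_ne hε (pair_data hε χ hχ).2.2
  have hset : pairSetS (F := F) = {χ, sigIrr e χ} := by
    refine (Finset.eq_of_subset_of_card_le ?_ ?_).symm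
    · intro z hz
      simp only [Finset.mem_insert, Finset.mem_singleton] at hz
      rcases hz with rfl | rfl
      exacts [hχ, sigIrr_mem_pair hε _ hχ]
    · rw [card_pairSetS hε, Finset.card_pair hne.symm]
  have hs := sum_pairSetS hε g
  rw [hset, Finset.sum_pair hne.symm, psS_diag _ h01 h10 hsq, sigIrr_apply] at hs
  have hfix : sigS e g = g := by
    apply Subtype.ext
    show sm (sigS e g) = sm g
    rw [sm_sigS, h01, h10, mul_zero, zero_mul]
    ext i j; fin_cases i <;> fin_cases j <;> simp [h01, h10]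
  have ha0 : sm g 0 0 ≠ 0 := by
    intro e0
    have hd : (sm g).det = 1 := g.2
    rw [Matrix.det_fin_two, e0, h01] at hd
    simp at hd
  have he : (etaC (sm g 1 1) : ℂ) = etaC (sm g 0 0) := by
    rw [diag_inv h10]
    have hmul : (etaC (sm g 0 0) : ℂ) * etaC (sm g 0 0)⁻¹ = 1 := by
      rw [← map_mul, mul_inv_cancel₀ ha0, map_one]
    have hsq' : (etaC (sm g 0 0) : ℂ) * etaC (sm g 0 0) = 1 := by
      rw [← map_mul]; exact etaC_of_isSquare (mul_ne_zero ha0 ha0) ⟨_, rfl⟩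
    linear_combination (etaC (sm g 0 0) : ℂ) * hmul - (etaC (sm g 0 0)⁻¹ : ℂ) * hsq'
  rw [hfix, he] at hs
  linear_combination (1 / 2 : ℂ) * hs

variable {C : Subgroup (Matrix.SpecialLinearGroup (Fin 2) F)} (hodd : Odd (Fintype.card F))
  (hcard : Nat.card C = Fintype.card F + 1)
include hodd hcard

theorem exists_gen (hT : IsTorus C) :
    ∃ g₀ : C, (∀ x, x ∈ Subgroup.zpowers g₀) ∧ (g₀ : SL2) ∉ ({1, -1} : Set SL2) ∧
      orderOf g₀ = Fintype.card F + 1 := by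
  obtain ⟨g₀, hg⟩ := hT.cyclic.exists_generator
  have hord : orderOf g₀ = Fintype.card F + 1 := by rw [← hcard, orderOf_eq_card_of_forall_mem_zpowers hg]
  refine ⟨g₀, hg, fun h => ?_, hord⟩
  have hsq : g₀ ^ 2 = 1 := by
    rw [pow_two]; exact Subtype.ext ((sl_eq_pm_of_sq (two_ne_zero_of_odd_card hodd) _).2 h)
  have := orderOf_le_of_pow_eq_one two_pos hsq
  have := Fintype.one_lt_card (α := F)
  omega

omit hodd hcard in
theorem hom_ext_gen {g₀ : C} (hg : ∀ x, x ∈ Subgroup.zpowers g₀) {φ ψ : C →* ℂˣ} (h : φ g₀ = ψ g₀) :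
    φ = ψ := by
  ext x
  obtain ⟨n, rfl⟩ := Subgroup.mem_zpowers_iff.1 (hg x)
  rw [map_zpow, map_zpow, h]

theorem exists_half_sign (hT : IsTorus C) :
    ∃ θ₀ : C →* ℂˣ, (∀ c : C, ((θ₀ c : ℂˣ) : ℂ) =
        if (c : SL2) ^ ((Fintype.card F + 1) / 2) = 1 then 1 else -1) ∧
      θ₀ * θ₀ = 1 ∧ θ₀ ≠ 1 ∧ ∀ φ : C →* ℂˣ, φ * φ = 1 → φ = 1 ∨ φ = θ₀ := by
  classical
  have h2 := two_ne_zero_of_odd_card hodd
  obtain ⟨m, hm⟩ : ∃ m, Fintype.card F + 1 = 2 * m := by obtain ⟨j, hj⟩ := hodd; exact ⟨j + 1, by omega⟩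
  rw [show (Fintype.card F + 1) / 2 = m by omega]
  have hcases : ∀ c : C, (c : SL2) ^ m = 1 ∨ (c : SL2) ^ m = -1 := by
    intro c
    refine (sl_eq_pm_of_sq h2 _).1 ?_
    rw [← pow_add, ← two_mul, ← hm, ← hcard]
    exact congrArg Subtype.val (pow_card_eq_one' (x := c))
  have hne : (-1 : SL2) ≠ 1 := fun e => by
    have := congrArg (fun A : SL2 => sm A 0 0) e
    simp [sm] at this
    exact h2 (by linear_combination -this)
  have hnn : (-1 : SL2) * -1 = 1 := (sl_eq_pm_of_sq h2 _).2 (Or.inr rfl)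
  obtain ⟨θ₀, hθ₀⟩ : ∃ θ₀ : C →* ℂˣ, ∀ c, θ₀ c = if (c : SL2) ^ m = 1 then 1 else -1 := by
    refine ⟨MonoidHom.mk' (fun c => if (c : SL2) ^ m = 1 then 1 else -1) (fun a b => ?_), fun _ => rfl⟩
    have e : (((a * b : C) : SL2)) ^ m = (a : SL2) ^ m * (b : SL2) ^ m := by
      rw [Subgroup.coe_mul]; exact Commute.mul_pow (hT.comm _ a.2 _ b.2) m
    simp only [e]
    rcases hcases a with ha | ha <;> rcases hcases b with hb | hb <;> simp [ha, hb, hne, hnn]
  obtain ⟨g₀, hg, -, hord⟩ := exists_gen hodd hcard hT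
  have h1 : θ₀ g₀ = -1 := by
    rw [hθ₀, if_neg]
    intro e
    have : g₀ ^ m = 1 := Subtype.ext (by rw [Subgroup.coe_pow, e, Subgroup.coe_one])
    have := Nat.le_of_dvd (by omega) (orderOf_dvd_of_pow_eq_one this)
    omega
  refine ⟨θ₀, fun c => ?_, ?_, fun e => ?_, fun φ hφ => ?_⟩
  · rw [hθ₀]; split_ifs <;> simp
  · ext c
    rw [MonoidHom.mul_apply, hθ₀]
    split_ifs <;> simp
  · rw [e, MonoidHom.one_apply] at h1
    have := congrArg Units.val h1
    norm_num at this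
  · have h3 : ((φ g₀ : ℂˣ) : ℂ) * ((φ g₀ : ℂˣ) : ℂ) = 1 := by
      rw [← Units.val_mul, ← MonoidHom.mul_apply, hφ]; rfl
    rcases mul_self_eq_one_iff.1 h3 with h | h
    · exact Or.inl (hom_ext_gen hg (Units.ext (by rw [h]; rfl)))
    · exact Or.inr (hom_ext_gen hg (Units.ext (by rw [h, h1]; simp)))

theorem cusp_fill (hT : IsTorus C) :
    (∀ χ ∈ cuspSetS (F := F), χ ∉ halfSetS → ∃ θ : C →* ℂˣ, θ * θ ≠ 1 ∧
      ∀ c : C, (c : SL2) ∉ ({1, -1} : Set SL2) → (χ : SL2 → ℂ) c = -((θ c : ℂ) + ((θ c)⁻¹ : ℂˣ))) ∧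
    ∀ c : C, (c : SL2) ∉ ({1, -1} : Set SL2) →
      (open Classical in ∑ χ ∈ cuspSetS (F := F) \ halfSetS, (χ : SL2 → ℂ) c) =
        1 + if (c : SL2) ^ ((Fintype.card F + 1) / 2) = 1 then 1 else -1 := by
  classical
  have h2 := two_ne_zero_of_odd_card hodd
  obtain ⟨ε, hε⟩ := exists_not_isSquare hodd
  obtain ⟨θ₀, hθ₀, hsq₀, hne₀, huniq⟩ := exists_half_sign hodd hcard hT
  obtain ⟨g₀, hg, hgZ, -⟩ := exists_gen hodd hcard hT
  haveI := hT.cyclic
  letI : CommGroup C := IsCyclic.commGroup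
  have hdual : Nat.card (C →* ℂˣ) = Fintype.card F + 1 :=
    (CommGroup.card_monoidHom_of_hasEnoughRootsOfUnity C ℂ).trans hcard
  haveI : Finite (C →* ℂˣ) := Nat.finite_of_card_ne_zero (by rw [hdual]; omega)
  haveI := Fintype.ofFinite (C →* ℂˣ)
  have hsum : ∀ c : C, c ≠ 1 → ∑ φ : C →* ℂˣ, (φ c : ℂ) = 0 := by
    intro c hc
    obtain ⟨φ₁, hφ₁⟩ := CommGroup.exists_apply_ne_one_of_hasEnoughRootsOfUnity C ℂ hc
    have h := Equiv.sum_comp (Equiv.mulLeft φ₁) (fun φ : C →* ℂˣ => (φ c : ℂ))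
    simp only [Equiv.coe_mulLeft, MonoidHom.mul_apply, Units.val_mul, ← Finset.mul_sum] at h
    have h' : ((φ₁ c : ℂ) - 1) * ∑ φ : C →* ℂˣ, (φ c : ℂ) = 0 := by linear_combination h
    exact (mul_eq_zero.1 h').resolve_left (sub_ne_zero.2 fun e => hφ₁ (Units.ext e))
  obtain ⟨Θ, hΘ⟩ : ∃ Θ : Finset (C →* ℂˣ), Θ = Finset.univ.filter (fun φ => φ * φ ≠ 1) := ⟨_, rfl⟩
  have hΘc : Θᶜ = {1, θ₀} := by
    ext φ
    simp only [hΘ, Finset.mem_compl, Finset.mem_filter, Finset.mem_univ, true_and, not_not,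
      Finset.mem_insert, Finset.mem_singleton]
    exact ⟨huniq φ, by intro h; rcases h with rfl | rfl; exacts [MonoidHom.ext fun _ => by simp, hsq₀]⟩
  have hΘcard : Θ.card = Fintype.card F - 1 := by
    have := Finset.card_compl_add_card Θ
    rw [hΘc, Finset.card_pair hne₀.symm, ← Nat.card_eq_fintype_card, hdual] at this
    omega
  have hΘm : ∀ φ, φ ∈ Θ → φ * φ ≠ 1 := fun φ h => by rw [hΘ, Finset.mem_filter] at h; exact h.2
  choose Φ hΦ1 hΦc hΦn hΦd hΦu using fun φ : {φ // φ ∈ Θ} =>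
    exists_cusp_irr hodd hcard hT φ.1 (hΘm φ.1 φ.2)
  have hmem : ∀ φ, Φ φ ∈ cuspSetS (F := F) \ halfSetS := by
    intro φ
    rw [Finset.mem_sdiff, mem_cuspSetS, mem_halfSetS, IsCuspS]
    refine ⟨?_, fun h => ?_⟩
    · rw [← Finset.add_sum_erase Finset.univ (fun b => (Φ φ : SL2 → ℂ) (uS b)) (Finset.mem_univ 0),
        Finset.sum_congr rfl (fun b hb => hΦu φ b (Finset.ne_of_mem_erase hb)), Finset.sum_const,
        Finset.card_erase_of_mem (Finset.mem_univ _), Finset.card_univ, nsmul_eq_mul,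
        Nat.cast_sub Fintype.card_pos, Nat.cast_one]
      show (Φ φ : SL2 → ℂ) (uS 0) + _ = _
      rw [uS_zero, hΦ1]
      ring
    · have e := h.2
      rw [hΦ1] at e
      have : (Fintype.card F : ℂ) = 1 := by linear_combination e
      exact (Fintype.one_lt_card (α := F)).ne' (by exact_mod_cast this)
  have hfib : ∀ χ : Cfsg.IrrCharacter SL2, (Finset.univ.filter (fun φ => Φ φ = χ)).card ≤ 2 := by
    intro χ
    rcases Finset.eq_empty_or_nonempty (Finset.univ.filter (fun φ => Φ φ = χ)) with h | ⟨ψ, hψ⟩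
    · rw [h]; simp
    refine (Finset.card_le_card_of_injOn (t := ({ψ.1, ψ.1⁻¹} : Finset (C →* ℂˣ))) Subtype.val ?_
      Subtype.val_injective.injOn).trans Finset.card_le_two
    intro φ hφ
    simp only [Finset.coe_filter, Finset.mem_univ, true_and, Set.mem_setOf_eq] at hφ
    rw [Finset.mem_filter] at hψ
    simp only [Finset.coe_insert, Finset.coe_singleton, Set.mem_insert_iff, Set.mem_singleton_iff]
    have e := (hΦc φ g₀ hgZ).symm.trans ((by rw [hφ, hψ.2] :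
      (Φ φ : SL2 → ℂ) (g₀ : SL2) = (Φ ψ : SL2 → ℂ) (g₀ : SL2)).trans (hΦc ψ g₀ hgZ))
    simp only [Units.val_inv_eq_inv_val, neg_inj] at e
    have ha := (φ.1 g₀).ne_zero
    have hb := (ψ.1 g₀).ne_zero
    have e' : ((φ.1 g₀ : ℂ) - ψ.1 g₀) * ((φ.1 g₀ : ℂ) * ψ.1 g₀ - 1) = 0 := by
      field_simp at e
      linear_combination e
    rcases mul_eq_zero.1 e' with h | h
    · exact Or.inl (hom_ext_gen hg (Units.ext (sub_eq_zero.1 h)))
    · refine Or.inr (hom_ext_gen hg ?_)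
      rw [MonoidHom.inv_apply, eq_inv_iff_mul_eq_one]
      exact Units.ext (sub_eq_zero.1 h)
  have hfull : (cuspSetS (F := F) \ halfSetS).card = (Fintype.card F - 1) / 2 := card_fullSetS hodd hε
  have hfib2 : ∀ χ ∈ cuspSetS (F := F) \ halfSetS, (Finset.univ.filter (fun φ => Φ φ = χ)).card = 2 := by
    refine (Finset.sum_eq_sum_iff_of_le (fun χ _ => hfib χ)).1 ?_
    rw [← Finset.card_eq_sum_card_fiberwise (fun φ _ => hmem φ), Finset.card_univ, Fintype.card_coe, hΘcard,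
      Finset.sum_const, hfull, smul_eq_mul]
    obtain ⟨j, hj⟩ := hodd
    omega
  refine ⟨fun χ hχ hχ' => ?_, fun c hc => ?_⟩
  · obtain ⟨φ, hφ⟩ := Finset.card_pos.1 (by rw [hfib2 χ (Finset.mem_sdiff.2 ⟨hχ, hχ'⟩)]; norm_num :
      0 < (Finset.univ.filter (fun φ => Φ φ = χ)).card)
    rw [Finset.mem_filter] at hφ
    refine ⟨φ.1, hΘm φ.1 φ.2, fun c hc => ?_⟩
    rw [← hφ.2]
    exact hΦc φ c hc
  · have hc1 : c ≠ 1 := fun e => hc (Or.inl (by rw [e, Subgroup.coe_one]))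
    have hS : ∀ d : C, d ≠ 1 → ∑ φ ∈ Θ, (φ d : ℂ) = -(1 + (θ₀ d : ℂ)) := by
      intro d hd
      have := Finset.sum_compl_add_sum Θ (fun φ : C →* ℂˣ => (φ d : ℂ))
      rw [hsum d hd, hΘc, Finset.sum_pair hne₀.symm, MonoidHom.one_apply, Units.val_one] at this
      linear_combination this
    have hinv : (θ₀ c⁻¹ : ℂ) = θ₀ c := by
      have : θ₀ c * θ₀ c = 1 := by rw [← MonoidHom.mul_apply, hsq₀]; rfl
      rw [map_inv, inv_eq_of_mul_eq_one_right this]
    have htot : ∑ φ : {φ // φ ∈ Θ}, (Φ φ : SL2 → ℂ) c = 2 * (1 + (θ₀ c : ℂ)) := by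
      rw [Finset.sum_congr rfl (fun φ _ => hΦc φ c hc), Finset.sum_neg_distrib, Finset.sum_add_distrib,
        Finset.sum_coe_sort Θ (fun φ => (φ c : ℂ)), Finset.sum_coe_sort Θ (fun φ => (((φ c)⁻¹ : ℂˣ) : ℂ)),
        hS c hc1, Finset.sum_congr rfl (fun φ _ => by rw [← map_inv] : ∀ φ ∈ Θ, _ = ((φ c⁻¹ : ℂˣ) : ℂ)),
        hS c⁻¹ (inv_ne_one.2 hc1), hinv]
      ring
    rw [← Finset.sum_fiberwise_of_maps_to (fun φ _ => hmem φ),
      Finset.sum_congr rfl (fun χ hχ => (Finset.sum_congr rfl (fun φ hφ => by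
          rw [(Finset.mem_filter.1 hφ).2])).trans ((Finset.sum_const _).trans (by rw [hfib2 χ hχ]))),
      ← Finset.smul_sum, nsmul_eq_mul] at htot
    rw [← hθ₀]
    push_cast at htot
    linear_combination (1 / 2 : ℂ) * htot

omit hcard in
theorem half_elliptic_eq (hT : IsTorus C) (hcard : Nat.card C = Fintype.card F + 1) {χ : Cfsg.IrrCharacter SL2}
    (hχ : χ ∈ halfSetS) (c : C) (hc : (c : SL2) ∉ ({1, -1} : Set SL2)) :
    (χ : SL2 → ℂ) c = if (c : SL2) ^ ((Fintype.card F + 1) / 2) = 1 then -1 else 1 := by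
  classical
  obtain ⟨ε, hε⟩ := exists_not_isSquare hodd
  obtain ⟨ht, hne'⟩ := pow_eq_one_noncentral hodd hcard c.2 hc
  set e := Units.mk0 ε (ne_zero_of_not_isSquare hε)
  have hne := sigIrr_ne hε ((half_data hodd hε).2.1 χ hχ).2
  have hset : halfSetS (F := F) = {χ, sigIrr e χ} := by
    refine (Finset.eq_of_subset_of_card_le ?_ ?_).symm
    · intro z hz
      simp only [Finset.mem_insert, Finset.mem_singleton] at hz
      rcases hz with rfl | rfl
      exacts [hχ, sigIrr_mem_half _ hχ]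
    · rw [(half_data hodd hε).1, Finset.card_pair hne.symm]
  have hns' : NonScalar (sm (sigS e c)) := by
    rw [sm_sigS]
    exact Or.inr (Or.inl (by simpa using ne_zero_of_no_eigvec hne'))
  have htr : (sm (c : SL2)).trace = (sm (sigS e c)).trace := by rw [sm_sigS]; simp [Matrix.trace_fin_two]
  have hsame := eq_of_isConj (CharCore.irr_isCharacter χ)
    (sl_isConj_regular hodd (nonScalar_of_no_eigvec hne') hns' htr ht)
  have hg1 : (c : SL2) ≠ 1 := fun h => hc (Or.inl h)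
  have hs := CharCore.sum_degree_mul_apply (G := SL2) (c : SL2)
  rw [if_neg hg1, sum_split, Finset.sum_eq_zero (s := psSetS) (fun z hz => by
    obtain ⟨α, -, ez⟩ := mem_psSetS.mp hz
    rw [ez, psS_elliptic α hne', mul_zero]), Finset.sum_eq_zero (s := pairSetS) (fun z hz => by
    rw [pair_elliptic hodd hz hne', mul_zero])] at hs
  have hsub : halfSetS (F := F) ⊆ cuspSetS := fun z hz => (mem_halfSetS.mp hz).1
  have hd1 : (χ : SL2 → ℂ) 1 = ((Fintype.card F : ℂ) - 1) / 2 := by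
    linear_combination (1 / 2 : ℂ) * (mem_halfSetS.mp hχ).2
  rw [← Finset.sum_sdiff hsub, Finset.sum_congr (s₁ := cuspSetS \ halfSetS) rfl (fun z hz => by
      rw [((half_data hodd hε).2.2 z (Finset.mem_sdiff.1 hz).1 (Finset.mem_sdiff.1 hz).2).1]),
    ← Finset.mul_sum, (cusp_fill hodd hcard hT).2 c hc, hset, Finset.sum_pair hne.symm, sigIrr_apply,
    sigIrr_apply, map_one, ← hsame, hd1,
    show ((trivIrr : Cfsg.IrrCharacter SL2) : SL2 → ℂ) = trivS from rfl,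
    show ((stIrr : Cfsg.IrrCharacter SL2) : SL2 → ℂ) = stS from rfl, stS_one, (stS_values (c : SL2)).2.1 hne'] at hs
  simp only [trivS, Pi.one_apply] at hs
  have hq1 : (Fintype.card F : ℂ) - 1 ≠ 0 := sub_ne_zero.2 (by
    exact_mod_cast (Fintype.one_lt_card (α := F)).ne')
  apply mul_left_cancel₀ hq1
  split_ifs with h
  · rw [if_pos h] at hs; linear_combination hs
  · rw [if_neg h] at hs; linear_combination hs

theorem cusp_converse (hT : IsTorus C) {χ : Cfsg.IrrCharacter SL2}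
    (hd : (χ : SL2 → ℂ) 1 = (Fintype.card F : ℂ) - 1) :
    ∃ θ : C →* ℂˣ, (∃ c : C, θ c ^ 2 ≠ 1) ∧
      ∀ c : C, (c : SL2) ∉ ({1, -1} : Set SL2) → (χ : SL2 → ℂ) c = -((θ c).val + (θ c)⁻¹.val) := by
  classical
  have h2 := two_ne_zero_of_odd_card hodd
  have hne : ∀ φ : C →* ℂˣ, φ * φ ≠ 1 → ∃ c : C, φ c ^ 2 ≠ 1 := fun φ hφ => by
    by_contra h
    push Not at h
    exact hφ (MonoidHom.ext fun c => by rw [MonoidHom.mul_apply, ← pow_two, h c]; rfl)
  obtain ⟨-, -, c3⟩ := half_casts hodd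
  have hfull : χ ∈ cuspSetS ∧ χ ∉ halfSetS → ∃ θ : C →* ℂˣ, (∃ c : C, θ c ^ 2 ≠ 1) ∧
      ∀ c : C, (c : SL2) ∉ ({1, -1} : Set SL2) → (χ : SL2 → ℂ) c = -((θ c).val + (θ c)⁻¹.val) := fun h => by
    obtain ⟨θ, hθ, hv⟩ := (cusp_fill hodd hcard hT).1 χ h.1 h.2
    exact ⟨θ, hne θ hθ, hv⟩
  by_cases hq : 5 ≤ Fintype.card F
  · exact hfull ((class_of_degree hodd hq χ).2.2.1 hd)
  have h3 : Fintype.card F = 3 := by
    have := Fintype.one_lt_card (α := F); obtain ⟨j, hj⟩ := hodd; omega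
  rcases sl_odd_cases hodd χ with ⟨-, e⟩ | ⟨-, e⟩ | ⟨-, e⟩ | ⟨h, -⟩ | ⟨-, e⟩ | ⟨h, -⟩
  case inr.inr.inr.inr.inr => exact hfull h
  case inr.inr.inr.inl =>
    obtain ⟨ε, hε⟩ := exists_not_isSquare hodd
    have hcardfull : (cuspSetS (F := F) \ halfSetS).card = 1 := by rw [card_fullSetS hodd hε, h3]
    obtain ⟨χ', hχ'⟩ := Finset.card_pos.1 (by omega : 0 < (cuspSetS (F := F) \ halfSetS).card)
    obtain ⟨θ, hθ, -⟩ := (cusp_fill hodd hcard hT).1 χ' (Finset.mem_sdiff.1 hχ').1 (Finset.mem_sdiff.1 hχ').2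
    refine ⟨θ, hne θ hθ, fun c hc => ?_⟩
    rw [pair_elliptic hodd h (pow_eq_one_noncentral hodd hcard c.2 hc).2]
    have hsq : ∀ x : C, (x : SL2) ∉ ({1, -1} : Set SL2) → x * x = ⟨-1, hT.neg_one⟩ := by
      intro x hx
      have h4 : ((x * x : C) : SL2) * ((x * x : C) : SL2) = 1 := by
        rw [← Subgroup.coe_mul, ← Subgroup.coe_one C]
        congr 1
        rw [show x * x * (x * x) = x ^ 4 by simp only [pow_succ, pow_zero, one_mul, mul_assoc]]
        have : x ^ Nat.card C = 1 := pow_card_eq_one'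
        rwa [hcard, h3] at this
      rcases (sl_eq_pm_of_sq h2 _).1 h4 with e | e
      · exact absurd ((sl_eq_pm_of_sq h2 (x : SL2)).1 e) hx
      · exact Subtype.ext e
    obtain ⟨g₀, hg, hgZ, -⟩ := exists_gen hodd hcard hT
    have hθg : θ g₀ * θ g₀ ≠ 1 := fun e => hθ (hom_ext_gen hg (by rw [MonoidHom.mul_apply, e]; rfl))
    have hm : (θ ⟨-1, hT.neg_one⟩ : ℂ) = -1 := by
      have h1 : (θ ⟨-1, hT.neg_one⟩ : ℂ) * (θ ⟨-1, hT.neg_one⟩ : ℂ) = 1 := by
        rw [← Units.val_mul, ← map_mul, show (⟨-1, hT.neg_one⟩ : C) * ⟨-1, hT.neg_one⟩ = 1 from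
          Subtype.ext ((sl_eq_pm_of_sq h2 _).2 (Or.inr rfl)), map_one, Units.val_one]
      refine (mul_self_eq_one_iff.1 h1).resolve_left fun e => hθg ?_
      rw [← map_mul, hsq g₀ hgZ]
      exact Units.ext e
    have hc2 : (θ c : ℂ) * (θ c : ℂ) = -1 := by rw [← Units.val_mul, ← map_mul, hsq c hc, hm]
    have := (θ c).ne_zero
    rw [Units.val_inv_eq_inv_val]
    field_simp
    linear_combination hc2
  all_goals
    exact absurd (Nat.cast_injective (e.symm.trans (hd.trans c3.symm))) (by rw [h3]; norm_num)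

end Cfsg.Agent.SL2Tor
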