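import Cfsg.Agent.SL2Tor.CuspTorus
import Cfsg.Agent.GLFlag.UnipotentIrr
import Cfsg.Agent.Char2x2.SLOddTable
import Mathlib.NumberTheory.MulChar.Duality

/-! The characters of degree `q - 1` of `SL₂(q)`, `q` odd. -/

set_option autoImplicit false

namespace Cfsg.Agent.SL2Tor

open Matrix Cfsg Cfsg.Agent.Char2x2
open scoped ComplexConjugate

variable {F : Type*} [Field F] [Fintype F] [DecidableEq F]

local notation "SL2" => Matrix.SpecialLinearGroup (Fin 2) F

/-- The virtual character `(St - 1) R(β) - Ind θ`. -/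
noncomputable def cuspVirt (β : MulChar F ℂ) (C : Subgroup SL2) (θ : C →* ℂˣ) : SL2 → ℂ :=
  fun g => (stS g - 1) * psS β g - indFun C (fun x => ((θ x : ℂˣ) : ℂ)) g

theorem cuspVirt_apply (β : MulChar F ℂ) (C : Subgroup SL2) (θ : C →* ℂˣ) (g : SL2) :
    cuspVirt β C θ g = (stS g - 1) * psS β g - indFun C (fun x => ((θ x : ℂˣ) : ℂ)) g := rfl

omit [Fintype F] [DecidableEq F] in
theorem neg_one_comm (x : SL2) : x * -1 = -1 * x := by
  apply Subtype.ext
  rw [Matrix.SpecialLinearGroup.coe_mul, Matrix.SpecialLinearGroup.coe_mul, Matrix.SpecialLinearGroup.coe_neg,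
    Matrix.SpecialLinearGroup.coe_one]
  simp

theorem psS_neg (α : MulChar F ℂ) (g : SL2) : psS α (-1 * g) = α (-1) * psS α g := by
  refine indFun_central_mul BS (thS α) (z := (-1 : SL2)) (mem_BS.2 (by simp [sm])) neg_one_comm _ ?_ g
  intro h
  show α _ = α (-1) * α _
  rw [← map_mul]
  congr 1
  simp [Subgroup.coe_mul, Matrix.SpecialLinearGroup.coe_mul]

theorem stS_neg (g : SL2) : stS (-1 * g) = stS g := by
  simp only [stS, Pi.sub_apply, psS_neg, MulChar.one_apply isUnit_one.neg, one_mul]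
  rfl

theorem uS_not_elliptic (t : F) : (sm (uS t)).trace ^ 2 = 4 := by rw [trace_uS]; norm_num

variable {C : Subgroup (Matrix.SpecialLinearGroup (Fin 2) F)} (hodd : Odd (Fintype.card F)) (hcard : Nat.card C = Fintype.card F + 1)
include hodd hcard

theorem indFun_torus_eq_zero (θ : C →* ℂˣ) {g : SL2}
    (hg : g ∉ ({1, -1} : Set SL2)) (ht : (sm g).trace ^ 2 = 4) :
    indFun C (fun x => ((θ x : ℂˣ) : ℂ)) g = 0 := by
  refine Cfsg.Agent.CharInd.indFun_eq_zero_of_forall_notMem _ _ fun x hx => ?_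
  have hZ : x⁻¹ * g * x ∉ ({1, -1} : Set SL2) := fun h =>
    hg (by simpa [mul_assoc] using pm_conj_mem (two_ne_zero_of_odd_card hodd) x _ h)
  refine (pow_eq_one_noncentral hodd hcard hx hZ).1 ?_
  have := trace_conj x⁻¹ g
  rw [inv_inv] at this
  rw [this]; exact ht

theorem indFun_torus_diag (θ : C →* ℂˣ) {g : SL2} (h01 : sm g 0 1 = 0) (h10 : sm g 1 0 = 0)
    (hsq : sm g 0 0 ^ 2 ≠ 1) : indFun C (fun x => ((θ x : ℂˣ) : ℂ)) g = 0 := by
  refine Cfsg.Agent.CharInd.indFun_eq_zero_of_forall_notMem _ _ fun x hx => ?_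
  have hg : g ∉ ({1, -1} : Set SL2) := by
    rintro (h | h)
    · exact hsq (by simp [h, sm])
    · rw [Set.mem_singleton_iff] at h
      exact hsq (by simp [h, sm])
  have hZ : x⁻¹ * g * x ∉ ({1, -1} : Set SL2) := fun h =>
    hg (by simpa [mul_assoc] using pm_conj_mem (two_ne_zero_of_odd_card hodd) x _ h)
  refine (pow_eq_one_noncentral hodd hcard hx hZ).2 (sm g 0 0) ((sm x⁻¹).mulVec ![1, 0]) ?_ ?_
  · intro e
    have := congrArg (sm x).mulVec e
    rw [Matrix.mulVec_mulVec, Matrix.mulVec_zero, ← Matrix.SpecialLinearGroup.coe_mul, mul_inv_cancel,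
      Matrix.SpecialLinearGroup.coe_one, Matrix.one_mulVec] at this
    simpa using congrFun this 0
  · rw [Matrix.mulVec_mulVec, ← Matrix.SpecialLinearGroup.coe_mul,
      show x⁻¹ * g * x * x⁻¹ = x⁻¹ * g by group, Matrix.SpecialLinearGroup.coe_mul, ← Matrix.mulVec_mulVec,
      ← Matrix.mulVec_smul]
    congr 1
    funext i
    fin_cases i <;> simp [Matrix.mulVec, dotProduct, Fin.sum_univ_two, sm] at * <;> simp [h10]

theorem cuspVirt_one (β : MulChar F ℂ) (θ : C →* ℂˣ) :
    cuspVirt β C θ 1 = (Fintype.card F : ℂ) - 1 := by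
  rw [cuspVirt_apply, stS_one, psS_one_apply, Cfsg.Agent.CharInd.indFun_apply_one, map_one, Units.val_one]
  have hidx : C.index * (Fintype.card F + 1) = Fintype.card F * (Fintype.card F - 1) * (Fintype.card F + 1) := by
    rw [← hcard, mul_comm C.index, Subgroup.card_mul_index, card_sl_two', hcard, mul_assoc]
  have hi : C.index = Fintype.card F * (Fintype.card F - 1) :=
    Nat.eq_of_mul_eq_mul_right (Nat.succ_pos _) hidx
  rw [hi, Nat.cast_mul, Nat.cast_sub Fintype.card_pos, Nat.cast_one]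
  ring

theorem cuspVirt_uS (β : MulChar F ℂ) (θ : C →* ℂˣ) {t : F} (ht : t ≠ 0) :
    cuspVirt β C θ (uS t) = -1 := by
  rw [cuspVirt_apply, stS_uS ht, psS_uS β ht, indFun_torus_eq_zero hodd hcard θ ?_ (uS_not_elliptic t)]
  · ring
  · rintro (h | h)
    · exact ht (by simpa [sm_uS] using congrArg (fun A : SL2 => sm A 0 1) h)
    · rw [Set.mem_singleton_iff] at h
      exact ht (by simpa [sm_uS] using congrArg (fun A : SL2 => sm A 0 1) h)

theorem cuspVirt_diag (β : MulChar F ℂ) (θ : C →* ℂˣ) {g : SL2} (h01 : sm g 0 1 = 0) (h10 : sm g 1 0 = 0)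
    (hsq : sm g 0 0 ^ 2 ≠ 1) : cuspVirt β C θ g = 0 := by
  rw [cuspVirt_apply, (stS_values g).1 h01 h10 hsq, indFun_torus_diag hodd hcard θ h01 h10 hsq]
  ring

theorem cuspVirt_elliptic (hT : IsTorus C) (β : MulChar F ℂ) (θ : C →* ℂˣ) (c : C)
    (hc : (c : SL2) ∉ ({1, -1} : Set SL2)) :
    cuspVirt β C θ c = -((θ c : ℂ) + ((θ c)⁻¹ : ℂˣ)) := by
  rw [cuspVirt_apply, psS_elliptic β (pow_eq_one_noncentral hodd hcard c.2 hc).2,
    indFun_torus_elliptic hodd hT θ c hc]
  ring

theorem cuspVirt_neg (hT : IsTorus C) {β : MulChar F ℂ} (θ : C →* ℂˣ)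
    (hβ : β (-1) = (θ ⟨-1, hT.neg_one⟩ : ℂ)) (g : SL2) :
    cuspVirt β C θ (-1 * g) = (θ ⟨-1, hT.neg_one⟩ : ℂ) * cuspVirt β C θ g := by
  rw [cuspVirt_apply, cuspVirt_apply, stS_neg, psS_neg, hβ,
    indFun_central_mul C (fun x => ((θ x : ℂˣ) : ℂ)) hT.neg_one neg_one_comm (θ ⟨-1, hT.neg_one⟩ : ℂ)
      (fun h => by show (θ _ : ℂ) = _; rw [map_mul, Units.val_mul]) g]
  ring

omit hodd hcard in
theorem isClassFunction_cuspVirt (β : MulChar F ℂ) (θ : C →* ℂˣ) : IsClassFunction SL2 (cuspVirt β C θ) := by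
  intro g h
  rw [cuspVirt_apply, cuspVirt_apply, show stS (h * g * h⁻¹) = stS g from
    CharCore.IsIrrCharacter.isCharacter isIrr_stS |> CharCore.IsCharacter.isClassFunction |> fun f => f g h,
    show psS β (h * g * h⁻¹) = psS β g from CharCore.IsCharacter.isClassFunction (isCharacter_psS β) g h,
    Cfsg.Agent.CharInd.isClassFunction_indFun C _ g h]

omit hcard in
theorem exists_sign (hT : IsTorus C) (θ : C →* ℂˣ) :
    ∃ β : MulChar F ℂ, β (-1) = (θ ⟨-1, hT.neg_one⟩ : ℂ) := by
  have h2 := two_ne_zero_of_odd_card hodd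
  have hsq : (θ ⟨-1, hT.neg_one⟩ : ℂ) * (θ ⟨-1, hT.neg_one⟩ : ℂ) = 1 := by
    rw [← Units.val_mul, ← map_mul,
      show (⟨-1, hT.neg_one⟩ : C) * ⟨-1, hT.neg_one⟩ = 1 from
        Subtype.ext ((sl_eq_pm_of_sq h2 _).2 (Or.inr rfl)), map_one, Units.val_one]
  rcases mul_self_eq_one_iff.1 hsq with h | h
  · exact ⟨1, by rw [h, MulChar.one_apply isUnit_one.neg]⟩
  · obtain ⟨χ, hχ⟩ := MulChar.exists_apply_ne_one_of_hasEnoughRootsOfUnity F ℂ (a := (-1 : F))
      (fun e => h2 (by linear_combination -e))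
    refine ⟨χ, ?_⟩
    rw [h]
    have h1 : χ (-1) * χ (-1) = 1 := by rw [← map_mul, neg_one_mul, neg_neg, map_one]
    exact (mul_self_eq_one_iff.1 h1).resolve_left hχ

theorem classInner_cuspVirt (hT : IsTorus C) {β : MulChar F ℂ} (θ : C →* ℂˣ)
    (hβ : β (-1) = (θ ⟨-1, hT.neg_one⟩ : ℂ)) (hθ : θ * θ ≠ 1) :
    classInner (cuspVirt β C θ) (cuspVirt β C θ) = 1 := by
  classical
  have h2 := two_ne_zero_of_odd_card hodd
  have hX := isClassFunction_cuspVirt (C := C) β θ
  have hq0 : (Fintype.card F : ℂ) ≠ 0 := Nat.cast_ne_zero.2 Fintype.card_ne_zero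
  have hq1 : (Fintype.card F : ℂ) - 1 ≠ 0 := sub_ne_zero.2 (by
    exact_mod_cast (Fintype.one_lt_card (α := F)).ne')
  have hsgn : ∀ g, cuspVirt β C θ (-1 * g) = β (-1) * cuspVirt β C θ g := fun g => by
    rw [cuspVirt_neg hodd hcard hT θ hβ, hβ]
  have hb2 : β (-1) * β (-1) = 1 := by rw [← map_mul, neg_one_mul, neg_neg, map_one]
  have hbc : conj (β (-1)) = β (-1) := by
    rcases mul_self_eq_one_iff.1 hb2 with h | h <;> rw [h] <;> simp
  -- the part induced from the Borel subgroup
  have hY : classInner (indFun BS (fun b => (stS (b : SL2) - 1) * thS β b)) (cuspVirt β C θ) = 2 := by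
    rw [Cfsg.Agent.CharInd.classInner_indFun_left _ _ hX, classInner, card_BS]
    rw [← Equiv.sum_comp borelEquiv]
    have hval : ∀ p : Fˣ × F,
        (stS ((borelEquiv p).1) - 1) * thS β (borelEquiv p) * conj (cuspVirt β C θ (borelEquiv p).1) =
          if p.1 ^ 2 = 1 then (if p.2 = 0 then ((Fintype.card F : ℂ) - 1) ^ 2 else 1) else 0 := by
      intro p
      have hst : stS ((borelEquiv p).1) =
          if p.1 ^ 2 = 1 then (if p.2 = 0 then (Fintype.card F : ℂ) else 0) else 1 := by
        show psS 1 _ - 1 = _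
        have := indFun_borel_upper (1 : MulChar F ℂ) p
        rw [MulChar.one_apply p.1.isUnit, MulChar.one_apply (p.1⁻¹).isUnit] at this
        rw [show psS (1 : MulChar F ℂ) (borelEquiv p).1 = _ from this]
        split_ifs <;> ring
      by_cases hp : p.1 ^ 2 = 1
      · rw [if_pos hp, hst, if_pos hp]
        rcases (units_sq_eq_iff p.1 1).1 (by rw [hp, one_pow]) with h1 | h1
        · have e : (borelEquiv p).1 = uS p.2 := Subtype.ext (by
            show (!![(p.1 : F), p.2; 0, ((p.1⁻¹ : Fˣ) : F)] : Matrix (Fin 2) (Fin 2) F) = !![1, p.2; 0, 1]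
            simp [h1])
          rw [e, show thS β (borelEquiv p) = 1 by show β (p.1 : F) = 1; rw [h1, Units.val_one, map_one]]
          by_cases ht : p.2 = 0
          · rw [if_pos ht, if_pos ht, ht, uS_zero, cuspVirt_one hodd hcard, map_sub, Complex.conj_natCast,
              map_one]
            ring
          · rw [if_neg ht, if_neg ht, cuspVirt_uS hodd hcard β θ ht]
            simp
        · have e : (borelEquiv p).1 = -1 * uS (-p.2) := Subtype.ext (by
            show (!![(p.1 : F), p.2; 0, ((p.1⁻¹ : Fˣ) : F)] : Matrix (Fin 2) (Fin 2) F) = _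
            rw [Matrix.SpecialLinearGroup.coe_mul, Matrix.SpecialLinearGroup.coe_neg,
              Matrix.SpecialLinearGroup.coe_one]
            show _ = _ * !![1, -p.2; 0, 1]
            ext i j; fin_cases i <;> fin_cases j <;> simp [h1, inv_neg])
          rw [e, hsgn, map_mul, hbc,
            show thS β (borelEquiv p) = β (-1) by
              show β (p.1 : F) = _; rw [h1, Units.val_neg, Units.val_one]]
          by_cases ht : p.2 = 0
          · rw [if_pos ht, if_pos ht, ht, neg_zero, uS_zero, cuspVirt_one hodd hcard, map_sub,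
              Complex.conj_natCast, map_one]
            linear_combination ((Fintype.card F : ℂ) - 1) ^ 2 * hb2
          · rw [if_neg ht, if_neg ht, cuspVirt_uS hodd hcard β θ (neg_ne_zero.2 ht), show conj (-1 : ℂ) = -1 by simp]
            linear_combination hb2
      · rw [if_neg hp, hst, if_neg hp, sub_self, zero_mul, zero_mul]
    rw [Finset.sum_congr rfl (fun p _ => hval p), Fintype.sum_prod_type]
    have hrow : ∀ a : Fˣ,
        (∑ t : F, if a ^ 2 = 1 then (if t = 0 then ((Fintype.card F : ℂ) - 1) ^ 2 else 1) else 0) =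
          if a ^ 2 = 1 then (Fintype.card F : ℂ) * ((Fintype.card F : ℂ) - 1) else 0 := by
      intro a
      by_cases ha : a ^ 2 = 1
      · simp only [if_pos ha]
        rw [← Finset.add_sum_erase _ _ (Finset.mem_univ (0 : F)), if_pos rfl,
          Finset.sum_congr rfl (fun t ht => if_neg (Finset.ne_of_mem_erase ht)), Finset.sum_const,
          Finset.card_erase_of_mem (Finset.mem_univ _), Finset.card_univ, nsmul_eq_mul,
          Nat.cast_sub Fintype.card_pos, Nat.cast_one]
        ring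
      · simp [if_neg ha]
    rw [Finset.sum_congr rfl (fun a _ => hrow a), ← Finset.sum_filter, Finset.sum_const,
      show (Finset.univ.filter (fun a : Fˣ => a ^ 2 = 1)).card = 2 by
        simpa using card_units_sq_eq h2 (1 : Fˣ),
      nsmul_eq_mul, Nat.cast_mul, Nat.cast_sub Fintype.card_pos, Nat.cast_one]
    push_cast
    field_simp
  -- the part induced from the torus
  have hI : classInner (indFun C (fun x => ((θ x : ℂˣ) : ℂ))) (cuspVirt β C θ) = 1 := by
    rw [Cfsg.Agent.CharInd.classInner_indFun_left _ _ hX, classInner, hcard]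
    have hnorm : ∀ c : C, conj (θ c : ℂ) = (((θ c)⁻¹ : ℂˣ) : ℂ) := by
      intro c
      rw [Units.val_inv_eq_inv_val, Complex.inv_eq_conj]
      refine Complex.norm_eq_one_of_pow_eq_one (n := Nat.card C) ?_ Nat.card_pos.ne'
      rw [← Units.val_pow_eq_pow_val, ← map_pow, pow_card_eq_one', map_one, Units.val_one]
    have hterm : ∀ c : C, (θ c : ℂ) * conj (cuspVirt β C θ (c : SL2)) =
        -(1 + (θ c : ℂ) * (θ c : ℂ)) + if (c : SL2) ∈ ({1, -1} : Set SL2) then (Fintype.card F : ℂ) + 1 else 0 := by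
      intro c
      by_cases hc : (c : SL2) ∈ ({1, -1} : Set SL2)
      · rw [if_pos hc]
        rcases hc with hc | hc
        · obtain rfl : c = 1 := Subtype.ext hc
          rw [map_one, Units.val_one, Subgroup.coe_one, cuspVirt_one hodd hcard, map_sub, Complex.conj_natCast,
            map_one]
          ring
        · obtain rfl : c = ⟨-1, hT.neg_one⟩ := Subtype.ext hc
          show _ * conj (cuspVirt β C θ (-1)) = _
          have e := hsgn 1
          rw [mul_one, cuspVirt_one hodd hcard] at e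
          rw [e, ← hβ, map_mul, hbc, map_sub,
            Complex.conj_natCast, map_one]
          linear_combination ((Fintype.card F : ℂ)) * hb2
      · rw [if_neg hc, cuspVirt_elliptic hodd hcard hT β θ c hc, map_neg, map_add, hnorm, add_zero,
          Units.val_inv_eq_inv_val, map_inv₀, hnorm, Units.val_inv_eq_inv_val, inv_inv]
        have hne := (θ c).ne_zero
        field_simp
    rw [Finset.sum_congr rfl (fun c _ => hterm c), Finset.sum_add_distrib, Finset.sum_neg_distrib,
      Finset.sum_add_distrib]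
    have hs : ∑ c : C, (θ c : ℂ) * (θ c : ℂ) = 0 := by
      have := sum_hom_units_eq_zero ((Units.coeHom ℂ).comp (θ * θ)) (fun e => hθ (MonoidHom.ext fun c =>
        Units.ext (by simpa using DFunLike.congr_fun e c)))
      simpa using this
    have hpm : (Finset.univ.filter (fun c : C => (c : SL2) ∈ ({1, -1} : Set SL2))).card = 2 := by
      rw [Finset.card_eq_two]
      refine ⟨1, ⟨-1, hT.neg_one⟩, fun e => ?_, ?_⟩
      · have := congrArg (fun A : C => sm A.1 0 0) e
        simp [sm] at this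
        exact h2 (by linear_combination this)
      · ext c
        simp only [Finset.mem_filter, Finset.mem_univ, true_and, Finset.mem_insert, Finset.mem_singleton,
          Set.mem_insert_iff, Set.mem_singleton_iff]
        constructor
        · rintro (h | h)
          · exact Or.inl (Subtype.ext h)
          · exact Or.inr (Subtype.ext h)
        · rintro (h | h) <;> subst h
          · exact Or.inl rfl
          · exact Or.inr rfl
    rw [hs, Finset.sum_const, Finset.card_univ, ← Finset.sum_filter, Finset.sum_const, hpm,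
      ← Nat.card_eq_fintype_card (α := C), hcard, nsmul_eq_mul, nsmul_eq_mul]
    push_cast
    field_simp
    ring
  have e : cuspVirt β C θ = indFun BS (fun b => (stS (b : SL2) - 1) * thS β b) -
      indFun C (fun x => ((θ x : ℂˣ) : ℂ)) := by
    funext g
    rw [Pi.sub_apply, cuspVirt_apply]
    congr 1
    exact mul_indFun BS (thS β) (f := fun g => stS g - 1) (fun a b => by
      show stS (b * a * b⁻¹) - 1 = stS a - 1
      rw [CharCore.IsCharacter.isClassFunction (CharCore.IsIrrCharacter.isCharacter isIrr_stS) a b]) g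
  nth_rw 1 [e]
  rw [CharCore.classInner_sub_left, hY, hI]
  norm_num

theorem exists_cusp_irr (hT : IsTorus C) (θ : C →* ℂˣ) (hθ : θ * θ ≠ 1) :
    ∃ χ : Cfsg.IrrCharacter SL2, (χ : SL2 → ℂ) 1 = (Fintype.card F : ℂ) - 1 ∧
      (∀ c : C, (c : SL2) ∉ ({1, -1} : Set SL2) → (χ : SL2 → ℂ) c = -((θ c : ℂ) + ((θ c)⁻¹ : ℂˣ))) ∧
      (∀ g, (χ : SL2 → ℂ) (-1 * g) = (θ ⟨-1, hT.neg_one⟩ : ℂ) * (χ : SL2 → ℂ) g) ∧
      (∀ g, sm g 0 1 = 0 → sm g 1 0 = 0 → sm g 0 0 ^ 2 ≠ 1 → (χ : SL2 → ℂ) g = 0) ∧
      (∀ t : F, t ≠ 0 → (χ : SL2 → ℂ) (uS t) = -1) := by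
  obtain ⟨β, hβ⟩ := exists_sign hodd hT θ
  have hirr : IsIrrCharacter SL2 (cuspVirt β C θ) := by
    refine Cfsg.Agent.GLFlag.isIrr_of_norm_one ![1, -1, -1]
      ![psS (1 : MulChar F ℂ) * psS β, psS β + psS β, indFun C (fun x => ((θ x : ℂˣ) : ℂ))] ?_ _ ?_
      (classInner_cuspVirt hodd hcard hT θ hβ hθ) ⟨(Fintype.card F : ℝ) - 1, ?_, ?_⟩
    · intro i
      fin_cases i
      · exact CharCore.isCharacter_mul (isCharacter_psS _) (isCharacter_psS _)
      · exact CharCore.isCharacter_add (isCharacter_psS _) (isCharacter_psS _)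
      · exact Cfsg.Agent.CharInd.isCharacter_indFun _
          (CharCore.IsIrrCharacter.isCharacter (CharCore.isIrrCharacter_hom θ))
    · funext g
      simp only [cuspVirt_apply, Fin.sum_univ_three, Matrix.cons_val_zero, Matrix.cons_val_one,
        Matrix.cons_val_two, Pi.add_apply, Pi.smul_apply, Pi.mul_apply, smul_eq_mul, stS, Pi.sub_apply]
      show (psS 1 g - 1 - 1) * psS β g - _ = _
      simp
      ring
    · have := Fintype.one_lt_card (α := F)
      have : (1 : ℝ) < Fintype.card F := by exact_mod_cast this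
      linarith
    · rw [cuspVirt_one hodd hcard]; push_cast; rfl
  exact ⟨⟨_, hirr⟩, cuspVirt_one hodd hcard β θ, fun c hc => cuspVirt_elliptic hodd hcard hT β θ c hc,
    cuspVirt_neg hodd hcard hT θ hβ, fun g a b c => cuspVirt_diag hodd hcard β θ a b c,
    fun t ht => cuspVirt_uS hodd hcard β θ ht⟩

end Cfsg.Agent.SL2Tor
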