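import Cfsg.Agent.SL2Tor.SylowTori
import Cfsg.Agent.SL2Tor.ClassCount
import Cfsg.Agent.SL2Tor.CuspChar
import Cfsg.Agent.Char2x2.SLOddTable
import Cfsg.Agent.CharDeep.Deg.Basic
import Cfsg.Agent.Lib.CharCore.Linear
import Cfsg.Agent.Lib.CharCore.Complete

/-! The McKay equality for `SL₂(q)`, `q` odd. -/

set_option autoImplicit false
set_option linter.unusedSectionVars false

namespace Cfsg.Agent.SL2Tor

open Cfsg
open scoped commutatorElement

section Generic

universe u v

variable {G : Type u} [Group G] [Finite G]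

theorem card_degree_congr {A : Type u} [Group A] [Finite A] {B : Type v} [Group B] [Finite B] (e : A ≃* B)
    (P : ℕ → Prop) :
    Nat.card {χ : IrrCharacter A // P (charDegree (χ : A → ℂ))} =
      Nat.card {χ : IrrCharacter B // P (charDegree (χ : B → ℂ))} := by
  refine Nat.card_congr
    { toFun := fun χ => ⟨⟨fun b => (χ.1 : A → ℂ) (e.symm b),
        CharCore.isIrrCharacter_comp_surjective χ.1.2 e.symm.toMonoidHom e.symm.surjective⟩, ?_⟩
      invFun := fun χ => ⟨⟨fun a => (χ.1 : B → ℂ) (e a),
        CharCore.isIrrCharacter_comp_surjective χ.1.2 e.toMonoidHom e.surjective⟩, ?_⟩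
      left_inv := fun χ => Subtype.ext (Subtype.ext (funext fun a => by simp))
      right_inv := fun χ => Subtype.ext (Subtype.ext (funext fun b => by simp)) }
  · have h := χ.2
    unfold charDegree at h ⊢
    simpa using h
  · have h := χ.2
    unfold charDegree at h ⊢
    simpa using h

theorem card_degree_eq_classes (P : ℕ → Prop) (h : ∀ χ : IrrCharacter G, P (charDegree (χ : G → ℂ))) :
    Nat.card {χ : IrrCharacter G // P (charDegree (χ : G → ℂ))} = Nat.card (ConjClasses G) :=
  (Nat.card_congr (Equiv.subtypeUnivEquiv h)).trans CharCore.card_irr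

theorem degree_dvd_card' (χ : IrrCharacter G) : charDegree (χ : G → ℂ) ∣ Nat.card G := by
  rw [← Subgroup.index_bot]
  exact CharDeep.Deg.degree_dvd_index χ ⊥ fun a ha b hb => by
    rw [Subgroup.mem_bot.1 ha, Subgroup.mem_bot.1 hb]

theorem card_degree_one :
    Nat.card {χ : IrrCharacter G // charDegree (χ : G → ℂ) = 1} = (commutator G).index := by
  rw [← CharCore.card_linearCharacters]
  refine Nat.card_congr (Equiv.subtypeEquivRight fun χ => ?_)
  rw [CharDeep.Deg.apply_one χ, Nat.cast_eq_one]

theorem derived_index_four (T : Subgroup G) (hab : ∀ s ∈ T, ∀ t ∈ T, s * t = t * s)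
    (hidx : T.index = 2) (hinv : ∀ g : G, g ∉ T → ∀ t ∈ T, g * t * g⁻¹ = t⁻¹)
    (h2 : Nat.card {t : T // t * t = 1} = 2) : (commutator G).index = 4 := by
  let sq : T →* G := MonoidHom.mk' (fun t => (t : G) * t) (fun s t => by
    show ((s : G) * t) * (s * t) = s * s * (t * t)
    rw [mul_assoc (s : G) t, ← mul_assoc (t : G) s t, hab t t.2 s s.2, mul_assoc, mul_assoc])
  have hle : sq.range ≤ T := by
    rintro _ ⟨t, rfl⟩
    exact mul_mem t.2 t.2
  obtain ⟨w, hw⟩ : ∃ w, w ∉ T := by
    by_contra h
    push Not at h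
    rw [(Subgroup.eq_top_iff' T).2 h, Subgroup.index_top] at hidx
    omega
  haveI hn : sq.range.Normal := ⟨fun d hd g => by
    by_cases hg : g ∈ T
    · rw [hab g hg d (hle hd), mul_inv_cancel_right]; exact hd
    · rw [hinv g hg d (hle hd)]; exact inv_mem hd⟩
  have hcard : Nat.card sq.range * 2 = Nat.card T := by
    rw [← Subgroup.index_ker, ← Subgroup.card_mul_index sq.ker, mul_comm]
    congr 1
    rw [← h2]
    refine Nat.card_congr (Equiv.subtypeEquivRight fun t => ?_)
    rw [MonoidHom.mem_ker, Subtype.ext_iff]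
    rfl
  have h4 : sq.range.index = 4 := by
    have e1 := Subgroup.card_mul_index sq.range
    have e2 := Subgroup.card_mul_index T
    rw [hidx, ← hcard] at e2
    have hpos : 0 < Nat.card sq.range := Nat.card_pos
    nlinarith
  haveI : Fact (Nat.Prime 2) := ⟨Nat.prime_two⟩
  have hc : commutator G ≤ sq.range := by
    have hq : Nat.card (G ⧸ sq.range) = 2 ^ 2 := h4
    rw [← Subgroup.Normal.quotient_commutative_iff_commutator_le]
    exact ⟨⟨IsPGroup.commutative_of_card_eq_prime_sq hq⟩⟩
  have hge : sq.range ≤ commutator G := by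
    rintro _ ⟨t, rfl⟩
    have hm : ⁅(t : G), w⁆ ∈ commutator G :=
      Subgroup.commutator_mem_commutator (Subgroup.mem_top _) (Subgroup.mem_top _)
    convert hm using 1
    show (t : G) * t = _
    rw [commutatorElement_def, mul_assoc (t : G) w, mul_assoc (t : G), hinv w hw _ (inv_mem t.2), inv_inv]
  rw [le_antisymm hc hge, h4]

theorem card_odd_two_group (hG : IsPGroup 2 G) :
    Nat.card {χ : IrrCharacter G // ¬ 2 ∣ charDegree (χ : G → ℂ)} = (commutator G).index := by
  haveI : Fact (Nat.Prime 2) := ⟨Nat.prime_two⟩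
  obtain ⟨k, hk⟩ := IsPGroup.iff_card.1 hG
  rw [← card_degree_one]
  refine Nat.card_congr (Equiv.subtypeEquivRight fun χ => ⟨fun h => ?_, fun h => by rw [h]; norm_num⟩)
  obtain ⟨i, -, hi⟩ := (Nat.dvd_prime_pow Nat.prime_two).1 (hk ▸ degree_dvd_card' χ)
  rcases i with _ | i
  · rw [hi, pow_zero]
  · exact absurd (hi ▸ dvd_pow_self 2 (Nat.succ_ne_zero i)) h

theorem card_odd_twenty_four (hG : Nat.card G = 24) (hc : (commutator G).index = 3) :
    Nat.card {χ : IrrCharacter G // ¬ 2 ∣ charDegree (χ : G → ℂ)} = 4 := by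
  classical
  have := Fintype.ofFinite G
  have hsum : ∑ χ : IrrCharacter G, charDegree (χ : G → ℂ) ^ 2 = 24 := by
    have h := CharCore.sum_degree_sq (G := G)
    rw [hG] at h
    simp only [CharDeep.Deg.apply_one] at h
    exact_mod_cast h
  have h1 := card_degree_one (G := G)
  rw [hc, Nat.card_eq_fintype_card, Fintype.card_subtype] at h1
  rw [Nat.card_eq_fintype_card, Fintype.card_subtype]
  have hd : ∀ χ : IrrCharacter G, charDegree (χ : G → ℂ) = 1 ∨ charDegree (χ : G → ℂ) = 2 ∨
      charDegree (χ : G → ℂ) = 3 ∨ charDegree (χ : G → ℂ) = 4 := by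
    intro χ
    have h2 : charDegree (χ : G → ℂ) ^ 2 ≤ 24 :=
      hsum ▸ Finset.single_le_sum (f := fun ψ : IrrCharacter G => charDegree (ψ : G → ℂ) ^ 2)
        (fun _ _ => Nat.zero_le _) (Finset.mem_univ χ)
    have h3 : charDegree (χ : G → ℂ) ≤ 4 := by nlinarith
    have := CharDeep.Deg.degree_pos χ
    omega
  set A := (Finset.univ.filter fun χ : IrrCharacter G => charDegree (χ : G → ℂ) = 3).card with hA
  set B := (Finset.univ.filter fun χ : IrrCharacter G => charDegree (χ : G → ℂ) = 2).card with hB
  set C := (Finset.univ.filter fun χ : IrrCharacter G => charDegree (χ : G → ℂ) = 4).card with hC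
  have hpt : ∀ χ : IrrCharacter G, charDegree (χ : G → ℂ) ^ 2 = (if charDegree (χ : G → ℂ) = 1 then 1 else 0) +
      9 * (if charDegree (χ : G → ℂ) = 3 then 1 else 0) + 4 * (if charDegree (χ : G → ℂ) = 2 then 1 else 0) +
      16 * (if charDegree (χ : G → ℂ) = 4 then 1 else 0) := by
    intro χ
    rcases hd χ with h | h | h | h <;> simp [h]
  rw [Finset.sum_congr rfl (fun χ _ => hpt χ)] at hsum
  simp only [Finset.sum_add_distrib, ← Finset.mul_sum, ← Finset.card_filter] at hsum
  have hodd : (Finset.univ.filter fun χ : IrrCharacter G => ¬ 2 ∣ charDegree (χ : G → ℂ)).card =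
      (Finset.univ.filter fun χ : IrrCharacter G => charDegree (χ : G → ℂ) = 1).card + A := by
    rw [hA, ← Finset.card_union_of_disjoint (Finset.disjoint_filter.2 fun χ _ a b => by omega),
      ← Finset.filter_or]
    refine congrArg Finset.card (Finset.filter_congr fun χ _ => ?_)
    rcases hd χ with h | h | h | h <;> simp [h]
  rw [hodd, h1]
  rw [h1, ← hA, ← hB, ← hC] at hsum
  omega

end Generic

section SL

open Matrix Cfsg.Agent.Char2x2

variable {F : Type*} [Field F] [Fintype F] [DecidableEq F]

local notation "SL2" => Matrix.SpecialLinearGroup (Fin 2) F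

theorem card_degree_split (hodd : Odd (Fintype.card F)) (P : ℕ → Prop) [DecidablePred P] :
    Nat.card {χ : IrrCharacter SL2 // P (charDegree (χ : SL2 → ℂ))} =
      (if P 1 then 1 else 0) + (if P (Fintype.card F) then 1 else 0) +
      (if P (Fintype.card F + 1) then (Fintype.card F - 3) / 2 else 0) +
      (if P ((Fintype.card F + 1) / 2) then 2 else 0) +
      ((if P (Fintype.card F - 1) then (Fintype.card F - 1) / 2 else 0) +
        (if P ((Fintype.card F - 1) / 2) then 2 else 0)) := by
  classical
  obtain ⟨ε, hε⟩ := exists_not_isSquare hodd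
  obtain ⟨c1, c2, c3⟩ := half_casts hodd
  have deg : ∀ (χ : IrrCharacter SL2) (d : ℕ), (χ : SL2 → ℂ) 1 = (d : ℂ) → charDegree (χ : SL2 → ℂ) = d :=
    fun χ d h => by rw [charDegree, h, Complex.natCast_re, Nat.floor_natCast]
  rw [Nat.card_eq_fintype_card, Fintype.card_subtype, Finset.card_filter, sum_split,
    deg trivIrr 1 (by simp [trivIrr]), deg stIrr (Fintype.card F) stS_one,
    Finset.sum_congr rfl (fun χ hχ => by
      obtain ⟨α, -, e⟩ := mem_psSetS.mp hχ
      rw [deg χ (Fintype.card F + 1) (by rw [e, psS_one_apply]; push_cast; rfl)]),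
    Finset.sum_congr (s₁ := pairSetS) rfl (fun χ hχ => by
      rw [deg χ ((Fintype.card F + 1) / 2) (mul_left_cancel₀ two_ne_zero ((pair_data hε χ hχ).1.trans c1.symm))]),
    ← Finset.sum_sdiff (s₁ := halfSetS) (s₂ := cuspSetS) (fun χ h => (mem_halfSetS.mp h).1),
    Finset.sum_congr (s₁ := halfSetS) rfl (fun χ hχ => by
      rw [deg χ ((Fintype.card F - 1) / 2) (mul_left_cancel₀ two_ne_zero ((mem_halfSetS.mp hχ).2.trans c2.symm))]),
    Finset.sum_congr (s₁ := cuspSetS \ halfSetS) rfl (fun χ hχ => by
      obtain ⟨h, hh⟩ := Finset.mem_sdiff.mp hχ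
      rw [deg χ (Fintype.card F - 1) (((half_data hodd hε).2.2 χ h hh).1.trans c3.symm)]),
    Finset.sum_const, Finset.sum_const, Finset.sum_const, Finset.sum_const, card_pairSetS hε,
    (cusp_data hodd hε).1, (half_data hodd hε).1, card_fullSetS hodd hε]
  simp only [smul_eq_mul, mul_ite, mul_one, mul_zero]

theorem normalizer_unipotent (U : Subgroup SL2) (hU : ∀ g : SL2, g ∈ U ↔ ∃ b, g = uS b) :
    Subgroup.normalizer (U : Set SL2) = (upperTriangularGL 2 F).comap Matrix.SpecialLinearGroup.toGL := by
  have hB : ∀ g ∈ (upperTriangularGL 2 F).comap Matrix.SpecialLinearGroup.toGL, ∀ u ∈ U, g * u * g⁻¹ ∈ U := by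
    intro g hg u hu
    obtain ⟨b, rfl⟩ := (hU u).1 hu
    have h10 := (mem_borelSL_iff g).1 hg
    have hd : sm g 0 0 * sm g 1 1 = 1 := by
      have := g.2
      rw [det_fin_two, h10, mul_zero, sub_zero] at this
      exact this
    refine (hU _).2 ⟨sm g 0 0 * sm g 0 0 * b, Subtype.ext ?_⟩
    rw [Matrix.SpecialLinearGroup.coe_mul, Matrix.SpecialLinearGroup.coe_mul, Matrix.SpecialLinearGroup.coe_inv,
      adjugate_fin_two]
    ext i j
    fin_cases i <;> fin_cases j <;> simp [uS, Matrix.mul_apply, Fin.sum_univ_two, h10, sm] at hd ⊢ <;>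
      first | linear_combination hd | ring
  ext g
  rw [Subgroup.mem_normalizer_iff]
  constructor
  · intro h
    obtain ⟨b, hb⟩ := (hU _).1 ((h (uS 1)).1 ((hU _).2 ⟨1, rfl⟩))
    have e : sm g * sm (uS 1) * adjugate (sm g) = sm (uS b) := congrArg sm hb
    have h10 := congrFun (congrFun e 1) 0
    simp [sm_uS, adjugate_fin_two, Matrix.mul_apply, Fin.sum_univ_two] at h10
    rw [mem_borelSL_iff]
    exact mul_self_eq_zero.1 (by linear_combination -h10)
  · intro hg u
    refine ⟨hB g hg u, fun h => ?_⟩
    simpa [mul_assoc] using hB g⁻¹ (inv_mem hg) _ h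

theorem card_normalizer_transport (P : ℕ → Prop) {Q S : Subgroup SL2} (g : SL2)
    (h : S = Q.map (MulAut.conj g).toMonoidHom) :
    Nat.card {χ : IrrCharacter (Subgroup.normalizer (S : Set SL2)) // P (charDegree χ.1)} =
      Nat.card {χ : IrrCharacter (Subgroup.normalizer (Q : Set SL2)) // P (charDegree χ.1)} := by
  subst h
  exact (card_degree_congr ((Subgroup.equivMapOfInjective (Subgroup.normalizer (Q : Set SL2))
    (MulAut.conj g).toMonoidHom (MulAut.conj g).injective).trans
      (MulEquiv.subgroupCongr (card_centralizer_map (MulAut.conj g) Q).2.symm)) P).symm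

theorem mckay_defining (hodd : Odd (Fintype.card F)) (p : ℕ) [Fact p.Prime] [CharP F p] (S : Sylow p SL2) :
    Nat.card {ψ : IrrCharacter (Subgroup.normalizer ((S : Subgroup SL2) : Set SL2)) //
      ¬ p ∣ charDegree ψ.1} = Fintype.card F + 3 := by
  obtain ⟨k, hp, hk⟩ := FiniteField.card F p
  let φ : Multiplicative F →* SL2 := MonoidHom.mk' (fun b => uS b.toAdd) fun a b => uS_add a.toAdd b.toAdd
  have hU : ∀ g : SL2, g ∈ φ.range ↔ ∃ b, g = uS b := fun g =>
    ⟨fun ⟨b, hb⟩ => ⟨b.toAdd, hb.symm⟩, fun ⟨b, hb⟩ => ⟨Multiplicative.ofAdd b, hb.symm⟩⟩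
  have hinj : Function.Injective φ := fun a b h =>
    Multiplicative.toAdd.injective (congrFun (congrFun (congrArg sm (show uS a.toAdd = uS b.toAdd from h)) 0) 1)
  have hUc : Nat.card φ.range = Fintype.card F := by
    rw [← Nat.card_congr (MonoidHom.ofInjective hinj).toEquiv, ← Nat.card_eq_fintype_card]
    exact Nat.card_congr Multiplicative.toAdd
  have hq := Fintype.one_lt_card (α := F)
  have hpq : p ∣ Fintype.card F := hk ▸ dvd_pow_self p k.ne_zero
  have hfac : Nat.card φ.range = p ^ (Nat.card SL2).factorization p := by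
    rw [hUc, card_sl_two', Nat.factorization_mul (by omega) (Nat.mul_ne_zero (by omega) (by omega)),
      Finsupp.add_apply, Nat.factorization_eq_zero_of_not_dvd (n := (Fintype.card F - 1) * (Fintype.card F + 1)),
      add_zero]
    · rw [hk, Nat.factorization_pow, Finsupp.smul_apply, hp.factorization_self, smul_eq_mul, mul_one]
    · intro h
      rcases hp.dvd_mul.1 h with h | h
      · have h4 := Nat.dvd_sub hpq h
        rw [Nat.sub_sub_self (by omega)] at h4
        exact hp.ne_one (Nat.dvd_one.1 h4)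
      · exact hp.ne_one (Nat.dvd_one.1 ((Nat.dvd_add_right hpq).1 h))
  obtain ⟨g, hg⟩ := MulAction.exists_smul_eq SL2 (Sylow.ofCard φ.range hfac) S
  have hS : (S : Subgroup SL2) = φ.range.map (MulAut.conj g).toMonoidHom := by rw [← hg]; rfl
  rw [card_normalizer_transport (fun d => ¬ p ∣ d) g hS,
    card_degree_congr (MulEquiv.subgroupCongr (normalizer_unipotent φ.range hU)) (fun d => ¬ p ∣ d),
    card_degree_eq_classes (fun d => ¬ p ∣ d), card_borel_classes hodd]
  intro χ hdvd
  have hUB : φ.range ≤ ((upperTriangularGL 2 F).comap Matrix.SpecialLinearGroup.toGL) := Subgroup.le_normalizer.trans (le_of_eq (normalizer_unipotent φ.range hU))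
  haveI : (φ.range.subgroupOf ((upperTriangularGL 2 F).comap Matrix.SpecialLinearGroup.toGL)).Normal := by
    refine ⟨fun u hu b => ?_⟩
    have hb : (b : SL2) ∈ Subgroup.normalizer (φ.range : Set SL2) := (normalizer_unipotent φ.range hU).ge b.2
    exact (Subgroup.mem_normalizer_iff.1 hb u).1 hu
  have hidx : (φ.range.subgroupOf ((upperTriangularGL 2 F).comap Matrix.SpecialLinearGroup.toGL)).index = Fintype.card F - 1 := by
    have e := Subgroup.card_mul_index (φ.range.subgroupOf ((upperTriangularGL 2 F).comap Matrix.SpecialLinearGroup.toGL))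
    rw [Nat.card_congr (Subgroup.subgroupOfEquivOfLe hUB).toEquiv, hUc, card_borelSL, Nat.card_eq_fintype_card,
      mul_comm (Fintype.card F - 1)] at e
    exact Nat.eq_of_mul_eq_mul_left (by omega) e
  have hd := hdvd.trans (CharDeep.Deg.degree_dvd_index χ (φ.range.subgroupOf ((upperTriangularGL 2 F).comap Matrix.SpecialLinearGroup.toGL)) fun a ha b hb => Subtype.ext (by
    obtain ⟨x, hx⟩ := (hU _).1 ha
    obtain ⟨y, hy⟩ := (hU _).1 hb
    show (((upperTriangularGL 2 F).comap Matrix.SpecialLinearGroup.toGL)).subtype a * (((upperTriangularGL 2 F).comap Matrix.SpecialLinearGroup.toGL)).subtype b = (((upperTriangularGL 2 F).comap Matrix.SpecialLinearGroup.toGL)).subtype b * (((upperTriangularGL 2 F).comap Matrix.SpecialLinearGroup.toGL)).subtype a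
    rw [hx, hy, ← uS_add, ← uS_add, add_comm]))
  rw [hidx] at hd
  have h4 := Nat.dvd_sub hpq hd
  rw [Nat.sub_sub_self (by omega)] at h4
  exact hp.ne_one (Nat.dvd_one.1 h4)

theorem mckay_torus (hodd : Odd (Fintype.card F)) (ℓ : ℕ) [Fact ℓ.Prime] (hℓ : ℓ ≠ 2)
    (T : Subgroup SL2) (hT : IsTorus T) (hdvd : ℓ ∣ Nat.card T)
    (hfac : (Nat.card T).factorization ℓ = (Nat.card SL2).factorization ℓ) (S : Sylow ℓ SL2) :
    2 * Nat.card {ψ : IrrCharacter (Subgroup.normalizer ((S : Subgroup SL2) : Set SL2)) //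
      ¬ ℓ ∣ charDegree ψ.1} = Nat.card T + 6 := by
  have h2 := two_ne_zero_of_odd_card (F := F) hodd
  have hlp : ℓ.Prime := Fact.out
  obtain ⟨g, Q, hQT, hQc, hS⟩ := sylow_eq_conj_le T hfac S
  have hpos : 0 < (Nat.card SL2).factorization ℓ := by
    rw [← hfac]; exact hlp.factorization_pos_of_dvd Nat.card_pos.ne' hdvd
  obtain ⟨⟨x, hxQ⟩, hx⟩ := exists_prime_orderOf_dvd_card' (G := Q) ℓ (hQc ▸ dvd_pow_self ℓ hpos.ne')
  rw [Subgroup.orderOf_mk] at hx
  have hxZ : x ∉ ({1, -1} : Set SL2) := fun h => by
    have := orderOf_le_of_pow_eq_one two_pos ((pow_two x).trans ((sl_eq_pm_of_sq h2 x).2 h))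
    have := hlp.two_le
    omega
  obtain ⟨-, hN⟩ := centralizer_normalizer_of_le _ (pm_conj_mem h2) hT.comm hT.cent
    (fun g hg => (hT.norm g hg).imp id And.right) hQT hxQ hxZ
  rw [card_normalizer_transport (fun d => ¬ ℓ ∣ d) g hS,
    card_degree_congr (MulEquiv.subgroupCongr hN) (fun d => ¬ ℓ ∣ d), card_degree_eq_classes (fun d => ¬ ℓ ∣ d),
    hT.classes_normalizer h2]
  intro χ hd
  haveI : (T.subgroupOf (Subgroup.normalizer (T : Set SL2))).Normal :=
    Subgroup.normal_of_index_eq_two (hT.index_normalizer h2)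
  have h := hd.trans (CharDeep.Deg.degree_dvd_index χ (T.subgroupOf (Subgroup.normalizer (T : Set SL2)))
    fun a ha b hb => Subtype.ext (hT.comm _ ha _ hb))
  rw [hT.index_normalizer h2] at h
  exact hℓ ((Nat.prime_dvd_prime_iff_eq hlp Nat.prime_two).1 h)

theorem mckay_two (hodd : Odd (Fintype.card F)) (S : Sylow 2 SL2) :
    Nat.card {ψ : IrrCharacter (Subgroup.normalizer ((S : Subgroup SL2) : Set SL2)) //
      ¬ 2 ∣ charDegree ψ.1} = 4 := by
  have h2 := two_ne_zero_of_odd_card (F := F) hodd
  have hq := Fintype.one_lt_card (α := F)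
  obtain ⟨hC, hbig, hsmall⟩ := sylow_two hodd S
  obtain ⟨j, hj⟩ := hodd
  obtain ⟨T, hT, hTf⟩ : ∃ T : Subgroup SL2, IsTorus T ∧
      (Nat.card T).factorization 2 + 1 = (Nat.card SL2).factorization 2 := by
    have key : ∀ k, k % 4 = 2 → k.factorization 2 = 1 := by
      intro k hk
      obtain ⟨w, hw⟩ : ∃ w, k = 2 * (2 * w + 1) := ⟨k / 4, by omega⟩
      rw [hw, Nat.factorization_mul (by omega) (by omega), Finsupp.add_apply,
        Nat.prime_two.factorization_self, Nat.factorization_eq_zero_of_not_dvd (by omega)]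
    have hfac : (Nat.card SL2).factorization 2 =
        (Fintype.card F - 1).factorization 2 + (Fintype.card F + 1).factorization 2 := by
      rw [card_sl_two', Nat.factorization_mul (by omega) (Nat.mul_ne_zero (by omega) (by omega)), Finsupp.add_apply,
        Nat.factorization_mul (by omega) (by omega), Finsupp.add_apply,
        Nat.factorization_eq_zero_of_not_dvd (by omega : ¬ 2 ∣ Fintype.card F), zero_add]
    rcases (by omega : Fintype.card F % 4 = 1 ∨ Fintype.card F % 4 = 3) with h4 | h4
    · refine ⟨_, split_isTorus h2 (by rw [Nat.card_eq_fintype_card]; omega), ?_⟩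
      rw [← Nat.card_congr (MonoidHom.ofInjective Cfsg.Agent.LinearGroup.splitTorus_injective).toEquiv,
        Nat.card_units, Nat.card_eq_fintype_card, hfac, key (Fintype.card F + 1) (by omega)]
    · obtain ⟨T, hT, hc, -⟩ := exists_nonsplit_isTorus (F := F) ⟨j, hj⟩
      refine ⟨T, hT, ?_⟩
      rw [hc, hfac, key (Fintype.card F - 1) (by omega), add_comm]
  -- the structure of a Sylow subgroup inside the normaliser of the torus
  obtain ⟨N, hN⟩ : ∃ N, N = Subgroup.normalizer (T : Set SL2) := ⟨_, rfl⟩
  have hTN : T ≤ N := hN ▸ Subgroup.le_normalizer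
  have hNc : Nat.card N = 2 * Nat.card T := hN ▸ hT.card_normalizer h2
  have hNf : (Nat.card N).factorization 2 = (Nat.card SL2).factorization 2 := by
    rw [hNc, Nat.factorization_mul two_ne_zero Nat.card_pos.ne', Finsupp.add_apply,
      Nat.prime_two.factorization_self, ← hTf, add_comm]
  obtain ⟨g, Q, hQN, hQc, hS⟩ := sylow_eq_conj_le N hNf S
  have hidx : (T.subgroupOf Q).index = 2 := by
    have hle : T.relIndex Q ≤ T.relIndex N := Subgroup.relIndex_le_of_le_right hQN (by
      rw [Subgroup.relIndex, hN, hT.index_normalizer h2]; norm_num)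
    have h2' : T.relIndex N = 2 := by rw [Subgroup.relIndex, hN]; exact hT.index_normalizer h2
    have hne : T.relIndex Q ≠ 1 := by
      intro h
      have hd := Subgroup.card_dvd_of_le (Subgroup.relIndex_eq_one.1 h)
      rw [hQc, Nat.prime_two.pow_dvd_iff_le_factorization Nat.card_pos.ne'] at hd
      omega
    have h0 : T.relIndex Q ≠ 0 := Subgroup.index_ne_zero_of_finite
    show T.relIndex Q = 2
    omega
  have hsq : Nat.card {t : T.subgroupOf Q // t * t = 1} = 2 := by
    haveI : Fact (Nat.Prime 2) := ⟨Nat.prime_two⟩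
    have hT4 : 2 ∣ Nat.card T := by
      have := Subgroup.orderOf_dvd_natCard T hT.neg_one
      have hz : orderOf (-1 : SL2) = 2 := by
        refine orderOf_eq_prime ((pow_two _).trans ((sl_eq_pm_of_sq h2 _).2 (Or.inr rfl))) ?_
        intro e
        have := congrArg (fun A : SL2 => (A : Matrix (Fin 2) (Fin 2) F) 0 0) e
        simp at this
        exact h2 (by linear_combination -this)
      rwa [hz] at this
    have heven : 2 ∣ Nat.card (T.subgroupOf Q) := by
      have h1 := Subgroup.card_mul_index (T.subgroupOf Q)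
      rw [hidx, hQc, ← hTf, pow_succ] at h1
      rw [Nat.eq_of_mul_eq_mul_right two_pos h1]
      exact dvd_pow_self 2 (Nat.prime_two.factorization_pos_of_dvd Nat.card_pos.ne' hT4).ne'
    obtain ⟨z, hz⟩ := exists_prime_orderOf_dvd_card' 2 heven
    have hz1 : z ≠ 1 := fun h => by simp [h] at hz
    have hzz : z * z = 1 := by
      have := pow_orderOf_eq_one z
      rwa [hz, pow_two] at this
    rw [Nat.card_eq_two_iff]
    refine ⟨⟨1, one_mul 1⟩, ⟨z, hzz⟩, fun e => hz1 (congrArg Subtype.val e).symm, ?_⟩
    ext t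
    simp only [Set.mem_univ, iff_true, Set.mem_insert_iff, Set.mem_singleton_iff]
    have ht : ((t.1.1 : Q) : SL2) * t.1.1 = 1 := congrArg (fun v : T.subgroupOf Q => ((v.1 : Q) : SL2)) t.2
    have hz' : ((z.1 : Q) : SL2) * z.1 = 1 := congrArg (fun v : T.subgroupOf Q => ((v.1 : Q) : SL2)) hzz
    rcases (sl_eq_pm_of_sq h2 _).1 ht with e | e
    · exact Or.inl (Subtype.ext (Subtype.ext (Subtype.ext e)))
    · rcases (sl_eq_pm_of_sq h2 _).1 hz' with e' | e'
      · exact absurd (Subtype.ext (Subtype.ext e')) hz1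
      · exact Or.inr (Subtype.ext (Subtype.ext (Subtype.ext (e.trans e'.symm))))
  have hder : (commutator Q).index = 4 :=
    derived_index_four (T.subgroupOf Q) (fun s hs t ht => Subtype.ext (hT.comm _ hs _ ht)) hidx
      (fun w hw t ht => Subtype.ext (((hT.norm w.1 (hN ▸ hQN w.2)).resolve_left hw).2 _ ht)) hsq
  have hQ2 : IsPGroup 2 Q := IsPGroup.of_card hQc
  rw [card_normalizer_transport (fun d => ¬ 2 ∣ d) g hS]
  obtain ⟨eC, eN⟩ := card_centralizer_map (MulAut.conj g) Q
  have hinj : Function.Injective (MulAut.conj g).toMonoidHom := (MulAut.conj g).injective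
  rcases (by omega : (Fintype.card F % 8 = 1 ∨ Fintype.card F % 8 = 7) ∨
      (Fintype.card F % 8 = 3 ∨ Fintype.card F % 8 = 5)) with hcase | hcase
  · have hNQ : Subgroup.normalizer (Q : Set SL2) = Q := Subgroup.map_injective hinj (by
      rw [← eN, ← hS]; exact hbig hcase)
    rw [card_degree_congr (MulEquiv.subgroupCongr hNQ) (fun d => ¬ 2 ∣ d), card_odd_two_group hQ2, hder]
  · have hN3 : Nat.card (Subgroup.normalizer (Q : Set SL2)) = 3 * Nat.card Q := by
      have h := hsmall hcase
      rw [hS, eN, Nat.card_congr (Subgroup.equivMapOfInjective _ _ hinj).symm.toEquiv] at h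
      rw [h, Nat.card_congr (Subgroup.equivMapOfInjective Q _ hinj).symm.toEquiv]
    have hCQ : ∀ c : SL2, c ∈ Subgroup.centralizer (Q : Set SL2) → c ∈ Subgroup.center SL2 := by
      intro c hc
      have h1 : MulAut.conj g c ∈ Subgroup.centralizer ((S : Subgroup SL2) : Set SL2) := by
        rw [hS, eC]; exact ⟨c, hc, rfl⟩
      rw [hC] at h1
      rw [Subgroup.mem_center_iff] at h1 ⊢
      intro y
      exact (MulAut.conj g).injective (by rw [map_mul, map_mul]; exact h1 _)
    have h8 : Nat.card Q = 8 := by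
      rw [hQc, ← hTf]
      have h4 : 4 ∣ Nat.card SL2 := by
        rw [card_sl_two']
        exact dvd_mul_of_dvd_right ((Nat.mul_dvd_mul (by omega : 2 ∣ Fintype.card F - 1)
          (by omega : 2 ∣ Fintype.card F + 1))) _
      have hm : (Nat.card SL2).factorization 2 = 3 := by
        have e : ∀ k, k % 4 = 2 → k.factorization 2 = 1 := by
          intro k hk
          obtain ⟨w, hw⟩ : ∃ w, k = 2 * (2 * w + 1) := ⟨k / 4, by omega⟩
          rw [hw, Nat.factorization_mul (by omega) (by omega), Finsupp.add_apply,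
            Nat.prime_two.factorization_self, Nat.factorization_eq_zero_of_not_dvd (by omega)]
        have e8 : ∀ k, k % 8 = 4 → k.factorization 2 = 2 := by
          intro k hk
          obtain ⟨w, hw⟩ : ∃ w, k = 2 * (2 * (2 * w + 1)) := ⟨k / 8, by omega⟩
          rw [hw, Nat.factorization_mul (by omega) (by omega), Finsupp.add_apply,
            Nat.prime_two.factorization_self, e _ (by omega)]
        rw [card_sl_two', Nat.factorization_mul (by omega) (Nat.mul_ne_zero (by omega) (by omega)), Finsupp.add_apply,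
          Nat.factorization_mul (by omega) (by omega), Finsupp.add_apply,
          Nat.factorization_eq_zero_of_not_dvd (by omega : ¬ 2 ∣ Fintype.card F), zero_add]
        rcases hcase with h | h
        · rw [e (Fintype.card F - 1) (by omega), e8 (Fintype.card F + 1) (by omega)]
        · rw [e8 (Fintype.card F - 1) (by omega), e (Fintype.card F + 1) (by omega)]
      rw [hTf, hm]; norm_num
    set K := Subgroup.normalizer (Q : Set SL2) with hK
    have hQK : Q ≤ K := Subgroup.le_normalizer
    set Q' := Q.subgroupOf K with hQ'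
    haveI : Q'.Normal := Subgroup.normal_in_normalizer
    have hQ'c : Nat.card Q' = 8 := by rw [Nat.card_congr (Subgroup.subgroupOfEquivOfLe hQK).toEquiv, h8]
    have hK24 : Nat.card K = 24 := by rw [hN3, h8]
    have hidx3 : Q'.index = 3 := by
      have := Subgroup.card_mul_index Q'
      rw [hQ'c, hK24] at this
      omega
    haveI : Fact (Nat.Prime 3) := ⟨Nat.prime_three⟩
    have hder' : commutator K ≤ Q' := by
      rw [← Subgroup.Normal.quotient_commutative_iff_commutator_le]
      haveI : IsCyclic (K ⧸ Q') := isCyclic_of_prime_card (p := 3) hidx3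
      exact ⟨⟨fun a b => IsMulCommutative.is_comm.comm a b⟩⟩
    obtain ⟨r, hr⟩ := exists_prime_orderOf_dvd_card' (G := K) 3 (by rw [hK24]; norm_num)
    have hr3 : r ^ 3 = 1 := hr ▸ pow_orderOf_eq_one r
    apply card_odd_twenty_four hK24
    have hle : commutator K = Q' := by
      by_contra hne
      have hlt : Nat.card (commutator K) ≤ 4 := by
        have h1 := Subgroup.card_dvd_of_le hder'
        rw [hQ'c] at h1
        have h2' : Nat.card (commutator K) ≠ 8 := fun h =>
          hne (Subgroup.eq_of_le_of_card_ge hder' (by rw [hQ'c, h]))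
        obtain ⟨i, hi, e⟩ := (Nat.dvd_prime_pow Nat.prime_two (m := 3)).1 h1
        have hi3 : i ≠ 3 := fun h => h2' (by rw [e, h]; norm_num)
        rw [e]
        exact (Nat.pow_le_pow_right two_pos (show i ≤ 2 by omega)).trans (by norm_num)
      -- the element `-1` is a commutator
      haveI : Fact (Nat.Prime 2) := ⟨Nat.prime_two⟩
      have hQd : Nat.card (commutator Q) = 2 := by
        have h1 := Subgroup.card_mul_index (commutator Q)
        rw [hder, h8] at h1
        omega
      obtain ⟨z, hz⟩ := exists_prime_orderOf_dvd_card' (G := commutator Q) 2 (by rw [hQd])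
      have hzc : Subgroup.inclusion hQK z.1 ∈ commutator K := by
        have hmap : (commutator Q).map (Subgroup.inclusion hQK) ≤ commutator K := by
          rw [commutator_def, Subgroup.map_commutator]
          exact Subgroup.commutator_mono le_top le_top
        exact hmap ⟨z.1, z.2, rfl⟩
      have hzm : ((z.1 : Q) : SL2) = -1 := by
        have hzz : z * z = 1 := by
          have := pow_orderOf_eq_one z
          rwa [hz, pow_two] at this
        have hz' : ((z.1 : Q) : SL2) * z.1 = 1 := congrArg (fun v : commutator Q => ((v.1 : Q) : SL2)) hzz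
        rcases (sl_eq_pm_of_sq h2 _).1 hz' with e | e
        · have : z = 1 := Subtype.ext (Subtype.ext e)
          rw [this, orderOf_one] at hz
          omega
        · exact e
      set m := Subgroup.inclusion hQK z.1 with hm
      have hmval : (m : SL2) = -1 := hzm
      have hmc : ∀ x : K, x * m = m * x := fun x => Subtype.ext (by
        show (x : SL2) * (m : SL2) = (m : SL2) * x
        rw [hmval]
        exact neg_one_comm _)
      -- `r` centralizes the derived subgroup
      have hcent : ∀ c ∈ commutator K, r * c * r⁻¹ = c := by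
        intro c hc
        by_contra hne'
        have hn : ∀ x ∈ commutator K, r * x * r⁻¹ ∈ commutator K := fun x hx =>
          (inferInstance : (commutator K).Normal).conj_mem x hx r
        have hfix : ∀ x : K, r * x * r⁻¹ = x → x ≠ c := fun x hx e => hne' (e ▸ hx)
        have hc1 : c ≠ 1 := fun e => hne' (by simp [e])
        have hcm : c ≠ m := fun e => hne' (by rw [e, hmc, mul_inv_cancel_right])
        have hm1 : m ≠ 1 := fun e => by
          have h' : ((1 : K) : SL2) = -1 := e ▸ hmval
          have := congrArg (fun A : SL2 => (A : Matrix (Fin 2) (Fin 2) F) 0 0) h'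
          simp at this
          exact h2 (by linear_combination this)
        have hinjr : ∀ x y : K, r * x * r⁻¹ = r * y * r⁻¹ → x = y := fun x y e => by
          simpa using e
        set c1 := r * c * r⁻¹ with hc1def
        set c2 := r * c1 * r⁻¹ with hc2def
        have hc3 : r * c2 * r⁻¹ = c := by
          rw [hc2def, hc1def, show r * (r * (r * c * r⁻¹) * r⁻¹) * r⁻¹ = r ^ 3 * c * (r ^ 3)⁻¹ by rw [pow_three]; group, hr3]
          group
        have f1 : r * 1 * r⁻¹ = 1 := by group
        have fm : r * m * r⁻¹ = m := by rw [hmc, mul_inv_cancel_right]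
        have a1 : c1 ≠ 1 := fun e => hc1 (hinjr _ _ (e.trans f1.symm))
        have am : c1 ≠ m := fun e => hcm (hinjr _ _ (e.trans fm.symm))
        have b1 : c2 ≠ 1 := fun e => a1 (hinjr _ _ (e.trans f1.symm))
        have bm : c2 ≠ m := fun e => am (hinjr _ _ (e.trans fm.symm))
        have b2 : c2 ≠ c1 := fun e => hne' (hinjr _ _ e)
        have b3 : c2 ≠ c := fun e => hne' (show c1 = c by
          have := hc3
          rw [e] at this
          exact this)
        classical
        have hsub : ({1, m, c, c1, c2} : Finset K) ⊆ (commutator K : Set K).toFinite.toFinset := by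
          intro x hx
          simp only [Finset.mem_insert, Finset.mem_singleton] at hx
          rw [Set.Finite.mem_toFinset]
          rcases hx with rfl | rfl | rfl | rfl | rfl
          exacts [one_mem _, hzc, hc, hn c hc, hn _ (hn c hc)]
        have h5 := Finset.card_le_card hsub
        rw [← Nat.card_eq_card_finite_toFinset] at h5
        have hne5 : ({1, m, c, c1, c2} : Finset K).card = 5 := by
          rw [Finset.card_insert_of_notMem, Finset.card_insert_of_notMem, Finset.card_insert_of_notMem,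
            Finset.card_insert_of_notMem, Finset.card_singleton]
          · simpa using b2.symm
          · simpa using ⟨Ne.symm hne', b3.symm⟩
          · simpa using ⟨hcm.symm, am.symm, bm.symm⟩
          · simpa using ⟨hm1.symm, hc1.symm, a1.symm, b1.symm⟩
        rw [hne5] at h5
        have : Nat.card (commutator K : Set K) = Nat.card (commutator K) := rfl
        omega
      -- hence `r` centralizes `Q`
      have hrQ : (r : SL2) ∈ Subgroup.centralizer (Q : Set SL2) := by
        rw [Subgroup.mem_centralizer_iff]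
        intro s hs
        set s' : K := ⟨s, hQK hs⟩
        set c := ⁅r, s'⁆ with hc
        have hcm' : c ∈ commutator K := Subgroup.commutator_mem_commutator (Subgroup.mem_top _) (Subgroup.mem_top _)
        have e1 : r * s' * r⁻¹ = c * s' := by rw [hc, commutatorElement_def]; group
        have hpush : ∀ x : K, r * (c * x) * r⁻¹ = c * (r * x * r⁻¹) := fun x => by
          calc r * (c * x) * r⁻¹ = (r * c * r⁻¹) * (r * x * r⁻¹) := by group
            _ = c * (r * x * r⁻¹) := by rw [hcent c hcm']
        have e3 : r ^ 3 * s' * (r ^ 3)⁻¹ = c ^ 3 * s' := by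
          have h0 : r ^ 3 * s' * (r ^ 3)⁻¹ = r * (r * (r * s' * r⁻¹) * r⁻¹) * r⁻¹ := by
            rw [pow_three]; group
          rw [h0, e1, hpush, e1, hpush, hpush, e1, pow_three]
          group
        rw [hr3, one_mul, inv_one, mul_one] at e3
        have hc3 : c ^ 3 = 1 := mul_right_cancel (e3.symm.trans (one_mul s').symm)
        have hc8 : c ^ 8 = 1 := by
          have h := pow_card_eq_one' (x := (⟨c, hder' hcm'⟩ : Q'))
          rw [hQ'c] at h
          exact congrArg Subtype.val h
        have hc0 : c = 1 := by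
          have h9 : c ^ 9 = 1 := by rw [show 9 = 3 * 3 from rfl, pow_mul, hc3, one_pow]
          rw [pow_succ, hc8, one_mul] at h9
          exact h9
        rw [hc0, one_mul, mul_inv_eq_iff_eq_mul] at e1
        exact (congrArg Subtype.val e1).symm
      have hcen := (sl_eq_pm_of_sq h2 (r : SL2)).2 (by
        have := hCQ _ hrQ
        rwa [center_eq_pm h2] at this)
      have h9 : (r : SL2) ^ 2 = 1 := by rw [pow_two]; exact hcen
      have := orderOf_dvd_of_pow_eq_one h9
      rw [Subgroup.orderOf_coe, hr] at this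
      omega
    rw [hle, hidx3]

theorem mckay (hodd : Odd (Fintype.card F)) (ℓ : ℕ) [hℓf : Fact ℓ.Prime] (S : Sylow ℓ SL2) :
    Nat.card {χ : IrrCharacter SL2 // ¬ ℓ ∣ charDegree (χ : SL2 → ℂ)} =
      Nat.card {ψ : IrrCharacter (Subgroup.normalizer ((S : Subgroup SL2) : Set SL2)) //
        ¬ ℓ ∣ charDegree ψ.1} := by
  classical
  have hlp : ℓ.Prime := Fact.out
  have hq := Fintype.one_lt_card (α := F)
  obtain ⟨j, hj⟩ := id hodd
  by_cases hG : ℓ ∣ Nat.card SL2
  swap
  · have hS : (S : Subgroup SL2) = ⊥ := by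
      rw [← Subgroup.card_eq_one, Sylow.card_eq_multiplicity, Nat.factorization_eq_zero_of_not_dvd hG, pow_zero]
    have hN : Subgroup.normalizer ((S : Subgroup SL2) : Set SL2) = ⊤ := by
      rw [Subgroup.eq_top_iff']
      intro x
      rw [Subgroup.mem_normalizer_iff]
      intro y
      simp [hS]
    exact (card_degree_congr ((MulEquiv.subgroupCongr hN).trans Subgroup.topEquiv) (fun d => ¬ ℓ ∣ d)).symm
  have hhalf : ∀ k : ℕ, ℓ ≠ 2 → 2 ∣ k → (ℓ ∣ k / 2 ↔ ℓ ∣ k) := by
    intro k hne ⟨w, hw⟩
    rw [hw, Nat.mul_div_cancel_left _ two_pos]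
    exact ⟨fun h => dvd_mul_of_dvd_right h 2, fun h => (hlp.dvd_mul.1 h).resolve_left
      (fun h' => hne ((Nat.prime_dvd_prime_iff_eq hlp Nat.prime_two).1 h'))⟩
  have hsep : ∀ a b : ℕ, ℓ ∣ a → ℓ ∣ b → (a + 1 = b ∨ (a + 2 = b ∧ ℓ ≠ 2)) → False := by
    intro a b ha hb h
    rcases h with rfl | ⟨rfl, h⟩
    · exact hlp.not_dvd_one ((Nat.dvd_add_right ha).1 hb)
    · exact h ((Nat.prime_dvd_prime_iff_eq hlp Nat.prime_two).1 ((Nat.dvd_add_right ha).1 hb))
  rw [card_degree_split hodd (fun d => ¬ ℓ ∣ d), if_pos hlp.not_dvd_one]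
  by_cases hl2 : ℓ = 2
  · subst hl2
    rw [mckay_two hodd S]
    split_ifs <;> omega
  have h2' := two_ne_zero_of_odd_card (F := F) hodd
  rw [card_sl_two'] at hG
  rcases hlp.dvd_mul.1 hG with h | h
  · obtain ⟨p, hpc⟩ := CharP.exists F
    haveI := hpc
    obtain ⟨k, hp, hk⟩ := FiniteField.card F p
    haveI : Fact p.Prime := ⟨hp⟩
    obtain rfl : ℓ = p := (Nat.prime_dvd_prime_iff_eq hlp hp).1 (hlp.dvd_of_dvd_pow (hk ▸ h))
    rw [mckay_defining hodd ℓ S, if_neg (not_not.2 h), if_pos, if_pos, if_pos, if_pos]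
    · omega
    · rw [hhalf _ hl2 (by omega)]; exact fun h' => hsep _ _ h' h (Or.inl (by omega))
    · exact fun h' => hsep _ _ h' h (Or.inl (by omega))
    · rw [hhalf _ hl2 (by omega)]; exact fun h' => hsep _ _ h h' (Or.inl (by omega))
    · exact fun h' => hsep _ _ h h' (Or.inl (by omega))
  rcases hlp.dvd_mul.1 h with h | h
  · have hbig : 3 < Fintype.card F := by
      have := Nat.le_of_dvd (by omega) h
      have := hlp.two_le
      omega
    have hc : Nat.card (Cfsg.Agent.LinearGroup.splitTorus (F := F)).range = Fintype.card F - 1 := by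
      rw [← Nat.card_congr (MonoidHom.ofInjective Cfsg.Agent.LinearGroup.splitTorus_injective).toEquiv,
        Nat.card_units, Nat.card_eq_fintype_card]
    have hm := mckay_torus hodd ℓ hl2 _ (split_isTorus h2' (by rw [Nat.card_eq_fintype_card]; exact hbig))
      (by rw [hc]; exact h) (by rw [hc]; exact (factorization_sl_two hodd hlp hl2).1 h) S
    rw [hc] at hm
    rw [if_pos, if_pos, if_pos, if_neg (not_not.2 h),
      if_neg (not_not.2 ((hhalf _ hl2 (by omega)).2 h))]
    · omega
    · rw [hhalf _ hl2 (by omega)]; exact fun h' => hsep _ _ h h' (Or.inr ⟨by omega, hl2⟩)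
    · exact fun h' => hsep _ _ h h' (Or.inr ⟨by omega, hl2⟩)
    · exact fun h' => hsep _ _ h h' (Or.inl (by omega))
  · obtain ⟨T, hT, hc, -⟩ := exists_nonsplit_isTorus (F := F) hodd
    have hm := mckay_torus hodd ℓ hl2 T hT (by rw [hc]; exact h)
      (by rw [hc]; exact (factorization_sl_two hodd hlp hl2).2 h) S
    rw [hc] at hm
    rw [if_pos, if_neg (not_not.2 h), if_neg (not_not.2 ((hhalf _ hl2 (by omega)).2 h)), if_pos, if_pos]
    · omega
    · rw [hhalf _ hl2 (by omega)]; exact fun h' => hsep _ _ h' h (Or.inr ⟨by omega, hl2⟩)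
    · exact fun h' => hsep _ _ h' h (Or.inr ⟨by omega, hl2⟩)
    · exact fun h' => hsep _ _ h' h (Or.inl (by omega))

end SL

end Cfsg.Agent.SL2Tor
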