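import Cfsg.Agent.SL2Tor.CuspChar
import Cfsg.Agent.Char2x2.SLOddTable
import Cfsg.Agent.BlkChar.FongBlock
import Cfsg.Agent.Blocks88.Modular
import Cfsg.Agent.CharB.FeitThompsonTI

/-! The blocks of `SL₂(q)` in the defining characteristic, `q` odd. -/

set_option autoImplicit false
set_option linter.unusedSectionVars false

namespace Cfsg.Agent.SL2Tor

open Matrix Cfsg Cfsg.Agent.Char2x2 Cfsg.Agent.BlocksCore

variable {F : Type*} [Field F] [Fintype F] [DecidableEq F]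

local notation "SL2" => Matrix.SpecialLinearGroup (Fin 2) F

theorem sl_sq_neg_one : (-1 : SL2) * -1 = 1 := by simp

theorem neg_one_mem_center : (-1 : SL2) ∈ Subgroup.center SL2 :=
  Subgroup.mem_center_iff.2 neg_one_comm

theorem irr_neg (χ : IrrCharacter SL2) :
    ∃ ε : ℂ, (ε = 1 ∨ ε = -1) ∧ ∀ g : SL2, (χ : SL2 → ℂ) (-1 * g) = ε * (χ : SL2 → ℂ) g := by
  obtain ⟨c, -, hc⟩ := CharB.exists_scalar_mul_of_central χ.2 neg_one_mem_center
  refine ⟨c, ?_, hc⟩
  have h := hc (-1 * 1)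
  rw [← mul_assoc, sl_sq_neg_one, one_mul, hc 1, ← mul_assoc] at h
  have h2 : c * c = 1 := mul_right_cancel₀ (CharCore.irr_apply_one_ne_zero χ) (h.symm.trans (one_mul _).symm)
  exact mul_self_eq_one_iff.1 h2

/-- An element is central up to sign a `p`-element, or `p` divides its class size. -/
theorem trace_or_dvd_index (p : ℕ) [Fact p.Prime] [CharP F p] (g : SL2) :
    (sm g).trace = 2 ∨ (sm g).trace = -2 ∨ p ∣ (Subgroup.centralizer ({g} : Set SL2)).index := by
  by_cases hg : NonScalar (sm g)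
  swap
  · obtain ⟨⟨c, hc⟩, rfl⟩ := exists_scalarSL hg
    rcases sq_eq_one_iff.1 hc with rfl | rfl
    · left; simp [sm, scalarSL]
    · right; left; simp [sm, scalarSL]
  by_contra hcon
  rw [not_or, not_or] at hcon
  obtain ⟨ht1, ht2, hidx⟩ := hcon
  have hcard : p ∣ Nat.card SL2 := by
    rw [card_sl_two']
    obtain ⟨n, -, hn⟩ := FiniteField.card F p
    rw [hn]
    exact dvd_mul_of_dvd_left (dvd_pow_self p n.ne_zero) _
  rw [← Subgroup.card_mul_index (Subgroup.centralizer ({g} : Set SL2))] at hcard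
  obtain ⟨⟨x, hx⟩, hxo⟩ := exists_prime_orderOf_dvd_card' (G := Subgroup.centralizer ({g} : Set SL2)) p
    (((Fact.out : p.Prime).dvd_mul.1 hcard).resolve_right hidx)
  rw [Subgroup.orderOf_mk] at hxo
  have hx1 : sm x ^ p = 1 ∧ sm x ≠ 1 := by
    refine ⟨?_, fun h => ?_⟩
    · have := pow_orderOf_eq_one x
      rw [hxo] at this
      exact (Matrix.SpecialLinearGroup.coe_pow x p).symm.trans
        ((congrArg sm this).trans Matrix.SpecialLinearGroup.coe_one)
    · have : x = 1 := Subtype.ext (h.trans Matrix.SpecialLinearGroup.coe_one.symm)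
      rw [this, orderOf_one] at hxo
      exact (Fact.out : p.Prime).ne_one hxo.symm
  obtain ⟨hns, htr, hdet⟩ := (pow_char_eq_one_iff p _).1 hx1
  have hcomm : sm g * sm x = sm x * sm g := by
    have := congrArg sm (Subgroup.mem_centralizer_singleton_iff.1 hx)
    first
      | exact this
      | exact this.symm
  obtain ⟨a, b, hab⟩ := exists_of_commute hns hcomm
  have hdg : (sm g).det = 1 := g.2
  rw [hab, det_add_smul, nrm, htr, hdet] at hdg
  have htg : (sm g).trace = 2 * (a + b) := by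
    rw [hab, Matrix.trace_add, Matrix.trace_smul, Matrix.trace_smul, htr, Matrix.trace_one, Fintype.card_fin,
      smul_eq_mul, smul_eq_mul]
    push_cast; ring
  rcases sq_eq_one_iff.1 (show (a + b) ^ 2 = 1 by linear_combination hdg) with h | h
  · exact ht1 (by rw [htg, h, mul_one])
  · exact ht2 (by rw [htg, h]; ring)

theorem orderOf_trace_two (p : ℕ) [Fact p.Prime] [CharP F p] {g : SL2} (h : (sm g).trace = 2) :
    ∃ k, orderOf g = p ^ k := by
  by_cases hg : NonScalar (sm g)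
  · have h1 := ((pow_char_eq_one_iff p (sm g)).2 ⟨hg, h, g.2⟩).1
    have h2 : g ^ p = 1 := Subtype.ext ((Matrix.SpecialLinearGroup.coe_pow g p).trans
      (h1.trans Matrix.SpecialLinearGroup.coe_one.symm))
    obtain ⟨k, -, hk⟩ := (Nat.dvd_prime_pow (i := orderOf g) (m := 1) (Fact.out : p.Prime)).1
      (by rw [pow_one]; exact orderOf_dvd_of_pow_eq_one h2)
    exact ⟨k, hk⟩
  · have := smul_one_of_not_nonScalar hg
    have hd : (sm g).det = 1 := g.2
    rw [this, Matrix.det_smul, Matrix.det_one, mul_one, Fintype.card_fin] at hd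
    rw [this, Matrix.trace_smul, Matrix.trace_one, Fintype.card_fin, smul_eq_mul] at h
    refine ⟨0, ?_⟩
    rw [pow_zero, orderOf_eq_one_iff]
    refine Subtype.ext ?_
    show sm g = 1
    have h00 : sm g 0 0 = 1 := by
      push_cast at h
      rcases sq_eq_one_iff.1 hd with e | e
      · exact e
      · rw [e] at h ⊢
        rcases eq_or_ne (2 : F) 0 with h2 | h2
        · linear_combination -h2
        · exact mul_left_cancel₀ h2 (by linear_combination h)
    rw [this, h00, one_smul]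

variable {p : ℕ} [Fact p.Prime] [CharP F p] {M : Ideal AlgInt}

theorem not_dvd_degree (hodd : Odd (Fintype.card F)) {χ : IrrCharacter SL2}
    (hχ : (χ : SL2 → ℂ) 1 ≠ (Fintype.card F : ℂ)) :
    ∃ d : ℕ, (χ : SL2 → ℂ) 1 = (d : ℂ) ∧ ¬ p ∣ d := by
  obtain ⟨n, hp, hn⟩ := FiniteField.card F p
  have hpq : p ∣ Fintype.card F := hn ▸ dvd_pow_self p n.ne_zero
  have hp1 := hp.ne_one
  obtain ⟨j, hj⟩ := hodd
  rcases sl_odd_cases ⟨j, hj⟩ χ with ⟨-, h⟩ | ⟨-, h⟩ | ⟨-, h⟩ | ⟨-, h⟩ | ⟨-, h⟩ | ⟨-, h⟩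
  · exact ⟨1, h, hp.not_dvd_one⟩
  · exact absurd h hχ
  · exact ⟨_, h, fun hd => hp1 (Nat.dvd_one.1 ((Nat.dvd_add_right hpq).1 hd))⟩
  · refine ⟨_, h, fun hd => hp1 (Nat.dvd_one.1 ?_)⟩
    have h2 := dvd_mul_of_dvd_right hd 2
    rw [show 2 * ((Fintype.card F + 1) / 2) = Fintype.card F + 1 by omega] at h2
    exact (Nat.dvd_add_right hpq).1 h2
  · refine ⟨_, h, fun hd => hp1 (Nat.dvd_one.1 ?_)⟩
    have h2 := dvd_mul_of_dvd_right hd 2
    rw [show 2 * ((Fintype.card F - 1) / 2) = Fintype.card F - 1 by omega] at h2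
    have h3 := Nat.dvd_sub hpq h2
    rwa [show Fintype.card F - (Fintype.card F - 1) = 1 by omega] at h3
  · refine ⟨_, h, fun hd => hp1 (Nat.dvd_one.1 ?_)⟩
    have h3 := Nat.dvd_sub hpq hd
    rwa [show Fintype.card F - (Fintype.card F - 1) = 1 by omega] at h3

/-- The central character of a character of degree prime to `p` modulo `M`. -/
theorem centralChar_congr (hodd : Odd (Fintype.card F)) (hM : IsPModular p M) {χ : IrrCharacter SL2}
    (hχ : (χ : SL2 → ℂ) 1 ≠ (Fintype.card F : ℂ)) {ε : ℂ}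
    (hε : ∀ g : SL2, (χ : SL2 → ℂ) (-1 * g) = ε * (χ : SL2 → ℂ) g) (hεr : ε = 1 ∨ ε = -1) (g : SL2) :
    ((sm g).trace = 2 → MemLocalIdeal M (centralChar (χ : SL2 → ℂ) g -
      ((Subgroup.centralizer ({g} : Set SL2)).index : ℂ))) ∧
    ((sm g).trace = -2 → MemLocalIdeal M (centralChar (χ : SL2 → ℂ) g -
      ε * ((Subgroup.centralizer ({g} : Set SL2)).index : ℂ))) ∧
    (p ∣ (Subgroup.centralizer ({g} : Set SL2)).index → MemLocalIdeal M (centralChar (χ : SL2 → ℂ) g)) := by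
  have := isPrime hM
  obtain ⟨d, hd, hpd⟩ := not_dvd_degree (p := p) hodd hχ
  have hd0 : (d : ℂ) ≠ 0 := Nat.cast_ne_zero.2 fun h => hpd (h ▸ dvd_zero p)
  have hinv : MemLocalRing M ((d : ℂ)⁻¹) := memLocalRing_natCast_inv hM hpd
  have key : ∀ (N : ℕ) (u : SL2), (∃ k, orderOf u = p ^ k) →
      MemLocalIdeal M ((N : ℂ) * (χ : SL2 → ℂ) u / (χ : SL2 → ℂ) 1 - (N : ℂ)) := by
    intro N u ⟨k, hk⟩
    have h := memLocalIdeal_mul_left (memLocalRing_natCast N)
      (memLocalIdeal_mul_right (Blocks88.char_sub_degree_mem hM (CharCore.irr_isCharacter χ) hk) hinv)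
    convert h using 1
    rw [hd]; field_simp
  refine ⟨fun ht => key _ g (orderOf_trace_two p ht), fun ht => ?_, fun hdvd => ?_⟩
  · have hu : ∃ k, orderOf (-1 * g) = p ^ k := orderOf_trace_two p (by
      show (-1 * g : SL2).val.trace = 2
      rw [Matrix.SpecialLinearGroup.coe_mul, Matrix.SpecialLinearGroup.coe_neg, Matrix.SpecialLinearGroup.coe_one,
        neg_one_mul, Matrix.trace_neg]
      exact (congrArg Neg.neg ht).trans (neg_neg _))
    have h := memLocalIdeal_mul_left (x := ε)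
      (by rcases hεr with rfl | rfl
          · simpa using memLocalRing_natCast (M := M) 1
          · simpa using memLocalRing_intCast (M := M) (-1))
      (key (Subgroup.centralizer ({g} : Set SL2)).index _ hu)
    convert h using 1
    rw [centralChar, hε g]
    rcases hεr with rfl | rfl <;> ring
  · have h := memLocalIdeal_mul_right (memLocalIdeal_mul_right
      ((memLocalIdeal_natCast_iff hM _).2 hdvd)
      (memLocalRing_of_isIntegral (CharCore.IsCharacter.isIntegral (CharCore.irr_isCharacter χ) g))) hinv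
    convert h using 1
    rw [centralChar, hd, div_eq_mul_inv]

theorem sameBlock_of_sign (hodd : Odd (Fintype.card F)) (hM : IsPModular p M) {χ ψ : IrrCharacter SL2}
    (hχ : (χ : SL2 → ℂ) 1 ≠ (Fintype.card F : ℂ)) (hψ : (ψ : SL2 → ℂ) 1 ≠ (Fintype.card F : ℂ)) {ε : ℂ}
    (hεr : ε = 1 ∨ ε = -1) (h1 : ∀ g : SL2, (χ : SL2 → ℂ) (-1 * g) = ε * (χ : SL2 → ℂ) g)
    (h2 : ∀ g : SL2, (ψ : SL2 → ℂ) (-1 * g) = ε * (ψ : SL2 → ℂ) g) :
    SameBlock M (χ : SL2 → ℂ) (ψ : SL2 → ℂ) := by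
  have := isPrime hM
  intro g
  obtain ⟨a1, a2, a3⟩ := centralChar_congr hodd hM hχ h1 hεr g
  obtain ⟨b1, b2, b3⟩ := centralChar_congr hodd hM hψ h2 hεr g
  rcases trace_or_dvd_index p g with h | h | h
  · have := memLocalIdeal_sub (a1 h) (b1 h)
    simpa using this
  · have := memLocalIdeal_sub (a2 h) (b2 h)
    simpa using this
  · exact memLocalIdeal_sub (a3 h) (b3 h)

theorem blocks (hp : p ≠ 2) (hM : IsPModular p M) :
    (∀ B : Set (IrrCharacter SL2), IsPBlock M B ↔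
      (B = {χ : IrrCharacter SL2 | (χ : SL2 → ℂ) 1 = (Fintype.card F : ℂ)} ∨
       B = {χ : IrrCharacter SL2 | (χ : SL2 → ℂ) (-1) = (χ : SL2 → ℂ) 1 ∧ (χ : SL2 → ℂ) 1 ≠ (Fintype.card F : ℂ)} ∨
       B = {χ : IrrCharacter SL2 | (χ : SL2 → ℂ) (-1) = -(χ : SL2 → ℂ) 1})) ∧
    Nat.card {B : Set (IrrCharacter SL2) // IsPBlock M B} = 3 ∧
    ∀ P : Sylow p SL2,
      IsDefectGroup p M {χ : IrrCharacter SL2 | (χ : SL2 → ℂ) (-1) = (χ : SL2 → ℂ) 1 ∧ (χ : SL2 → ℂ) 1 ≠ (Fintype.card F : ℂ)} (P : Subgroup SL2) ∧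
      IsDefectGroup p M {χ : IrrCharacter SL2 | (χ : SL2 → ℂ) (-1) = -(χ : SL2 → ℂ) 1} (P : Subgroup SL2) := by
  classical
  have := isPrime hM
  obtain ⟨n, hpp, hn⟩ := FiniteField.card F p
  have hodd : Odd (Fintype.card F) := by rw [hn]; exact (hpp.odd_of_ne_two hp).pow
  have hpq : p ∣ Fintype.card F := hn ▸ dvd_pow_self p n.ne_zero
  have hq1 : 1 < Fintype.card F := Fintype.one_lt_card
  set B1 := {χ : IrrCharacter SL2 | (χ : SL2 → ℂ) 1 = (Fintype.card F : ℂ)} with hB1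
  set B2 := {χ : IrrCharacter SL2 | (χ : SL2 → ℂ) (-1) = (χ : SL2 → ℂ) 1 ∧
    (χ : SL2 → ℂ) 1 ≠ (Fintype.card F : ℂ)} with hB2
  set B3 := {χ : IrrCharacter SL2 | (χ : SL2 → ℂ) (-1) = -(χ : SL2 → ℂ) 1} with hB3
  have hne : ∀ χ : IrrCharacter SL2, (χ : SL2 → ℂ) 1 ≠ 0 := CharCore.irr_apply_one_ne_zero
  have hst : ∀ χ : IrrCharacter SL2, χ ∈ B1 → χ = stIrr := by
    intro χ h
    have h' : (χ : SL2 → ℂ) 1 = (Fintype.card F : ℂ) := h
    obtain ⟨j, hj⟩ := hodd
    rcases sl_odd_cases ⟨j, hj⟩ χ with ⟨-, e⟩ | ⟨e, -⟩ | ⟨-, e⟩ | ⟨-, e⟩ | ⟨-, e⟩ | ⟨-, e⟩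
    · rw [h', Nat.cast_inj] at e; omega
    · exact e
    all_goals rw [h', Nat.cast_inj] at e; omega
  have hst1 : (stIrr : IrrCharacter SL2) ∈ B1 := stS_one
  have hstneg : ((stIrr : IrrCharacter SL2) : SL2 → ℂ) (-1) = ((stIrr : IrrCharacter SL2) : SL2 → ℂ) 1 := by
    have := stS_neg (F := F) 1
    rwa [mul_one] at this
  have htriv : (trivIrr : IrrCharacter SL2) ∈ B2 := by
    refine ⟨rfl, ?_⟩
    show (1 : ℂ) ≠ _
    exact_mod_cast hq1.ne
  obtain ⟨χm, hχm⟩ : ∃ χ : IrrCharacter SL2, χ ∈ B3 := by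
    by_contra hno
    push Not at hno
    have hz : (-1 : SL2) ≠ 1 := by
      intro h
      have := congrFun (congrFun (congrArg sm h) 0) 0
      simp [sm] at this
      exact two_ne_zero_of_odd_card (F := F) hodd (by linear_combination -this)
    have hsum := CharCore.sum_degree_mul_apply (G := SL2) (-1)
    rw [if_neg hz] at hsum
    have hall : ∀ χ : IrrCharacter SL2, (χ : SL2 → ℂ) (-1) = (χ : SL2 → ℂ) 1 := by
      intro χ
      obtain ⟨ε, he, hε⟩ := irr_neg χ
      have h1 := hε 1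
      rw [mul_one] at h1
      rcases he with rfl | rfl
      · rw [h1, one_mul]
      · exact absurd (show χ ∈ B3 by rw [hB3]; show _ = _; rw [h1, neg_one_mul]) (hno χ)
    simp only [hall] at hsum
    rw [show ∑ χ : IrrCharacter SL2, (χ : SL2 → ℂ) 1 * (χ : SL2 → ℂ) 1 = (Nat.card SL2 : ℂ) from
      (Finset.sum_congr rfl fun χ _ => (sq _).symm).trans CharCore.sum_degree_sq] at hsum
    exact Nat.card_pos.ne' (Nat.cast_eq_zero.1 hsum)
  have hneg : ∀ χ : IrrCharacter SL2, centralChar (χ : SL2 → ℂ) (-1) = (χ : SL2 → ℂ) (-1) / (χ : SL2 → ℂ) 1 := by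
    intro χ
    rw [centralChar, Subgroup.centralizer_eq_top_iff_subset.2 (Set.singleton_subset_iff.2 neg_one_mem_center),
      Subgroup.index_top, Nat.cast_one, one_mul]
  have hsep : ∀ {χ ψ : IrrCharacter SL2}, χ ∈ B3 → (ψ : SL2 → ℂ) (-1) = (ψ : SL2 → ℂ) 1 →
      ¬ SameBlock M (ψ : SL2 → ℂ) (χ : SL2 → ℂ) := by
    intro χ ψ h1 h2 h
    have := h (-1)
    rw [hneg, hneg, show (χ : SL2 → ℂ) (-1) = -(χ : SL2 → ℂ) 1 from h1, h2, div_self (hne ψ), neg_div,
      div_self (hne χ), show (1 : ℂ) - -1 = ((2 : ℕ) : ℂ) by norm_num, memLocalIdeal_natCast_iff hM] at this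
    exact hp ((Nat.prime_dvd_prime_iff_eq hpp Nat.prime_two).1 this)
  have hu : ¬ p ∣ (Subgroup.centralizer ({uS 1} : Set SL2)).index := by
    intro hd
    have h1 := Subgroup.card_mul_index (Subgroup.centralizer ({uS 1} : Set SL2))
    rw [card_centralizer_uS hodd one_ne_zero, card_sl_two', mul_comm 2, mul_assoc] at h1
    have h2 := Nat.eq_of_mul_eq_mul_left (by omega) h1
    rcases hpp.dvd_mul.1 (h2 ▸ dvd_mul_of_dvd_right hd 2) with h | h
    · have h4 := Nat.dvd_sub hpq h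
      rw [Nat.sub_sub_self (by omega)] at h4
      exact hpp.ne_one (Nat.dvd_one.1 h4)
    · exact hpp.ne_one (Nat.dvd_one.1 ((Nat.dvd_add_right hpq).1 h))
  have hsep2 : ∀ {ψ : IrrCharacter SL2}, ψ ∈ B2 →
      ¬ SameBlock M ((stIrr : IrrCharacter SL2) : SL2 → ℂ) (ψ : SL2 → ℂ) := by
    intro ψ hψ h
    obtain ⟨ε, he, hε⟩ := irr_neg ψ
    have h1 := (centralChar_congr hodd hM hψ.2 hε he (uS 1)).1 (trace_uS 1)
    have h2 := memLocalIdeal_add (h (uS 1)) h1
    rw [centralChar, show ((stIrr : IrrCharacter SL2) : SL2 → ℂ) (uS 1) = 0 from stS_uS one_ne_zero, mul_zero,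
      zero_div] at h2
    have h3 := memLocalIdeal_neg h2
    ring_nf at h3
    exact hu ((memLocalIdeal_natCast_iff hM _).1 h3)
  have hcase : ∀ χ : IrrCharacter SL2, χ ∈ B1 ∨ χ ∈ B2 ∨ χ ∈ B3 := by
    intro χ
    obtain ⟨ε, he, hε⟩ := irr_neg χ
    have h1 := hε 1
    rw [mul_one] at h1
    by_cases hq : (χ : SL2 → ℂ) 1 = (Fintype.card F : ℂ)
    · exact Or.inl hq
    rcases he with rfl | rfl
    · exact Or.inr (Or.inl ⟨by rw [h1, one_mul], hq⟩)
    · exact Or.inr (Or.inr (show _ = _ by rw [h1, neg_one_mul]))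
  have hB3deg : ∀ χ ∈ B3, (χ : SL2 → ℂ) 1 ≠ (Fintype.card F : ℂ) := by
    intro χ hχ hq
    obtain rfl := hst χ hq
    have h := hχ.symm.trans hstneg
    exact hne stIrr (by linear_combination -h / 2)
  have hsign : ∀ (χ : IrrCharacter SL2) (e : ℂ), (e = 1 ∨ e = -1) → (χ : SL2 → ℂ) (-1) = e * (χ : SL2 → ℂ) 1 →
      ∀ g, (χ : SL2 → ℂ) (-1 * g) = e * (χ : SL2 → ℂ) g := by
    intro χ e _ h g
    obtain ⟨ε, -, hε⟩ := irr_neg χ
    have h1 := hε 1
    rw [mul_one, h] at h1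
    rw [hε, mul_right_cancel₀ (hne χ) h1.symm]
  have e1 : blockOf M ((stIrr : IrrCharacter SL2) : SL2 → ℂ) = B1 := by
    ext ψ
    refine ⟨fun h => ?_, fun h => by rw [hst ψ h]; exact mem_blockOf_self _⟩
    rcases hcase ψ with h' | h' | h'
    · exact h'
    · exact absurd h (hsep2 h')
    · exact absurd h (hsep h' hstneg)
  have e2 : blockOf M ((trivIrr : IrrCharacter SL2) : SL2 → ℂ) = B2 := by
    ext ψ
    refine ⟨fun h => ?_, fun h => sameBlock_of_sign hodd hM htriv.2 h.2 (Or.inl rfl)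
      (hsign _ 1 (Or.inl rfl) (htriv.1.trans (one_mul _).symm)) (hsign _ 1 (Or.inl rfl) (h.1.trans (one_mul _).symm))⟩
    rcases hcase ψ with h' | h' | h'
    · exact absurd (sameBlock_symm (show SameBlock M _ _ from h)) (by rw [hst ψ h']; exact hsep2 htriv)
    · exact h'
    · exact absurd h (hsep h' htriv.1)
  have e3 : blockOf M (χm : SL2 → ℂ) = B3 := by
    ext ψ
    refine ⟨fun h => ?_, fun h => sameBlock_of_sign hodd hM (hB3deg _ hχm) (hB3deg _ h) (Or.inr rfl)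
      (hsign _ (-1) (Or.inr rfl) (hχm.trans (neg_one_mul _).symm)) (hsign _ (-1) (Or.inr rfl) (h.trans (neg_one_mul _).symm))⟩
    rcases hcase ψ with h' | h' | h'
    · exact absurd (sameBlock_symm (show SameBlock M _ _ from h)) (by rw [hst ψ h']; exact hsep hχm hstneg)
    · exact absurd (sameBlock_symm (show SameBlock M _ _ from h)) (hsep hχm h'.1)
    · exact h'
  have hiff : ∀ B : Set (IrrCharacter SL2), IsPBlock M B ↔ (B = B1 ∨ B = B2 ∨ B = B3) := by
    intro B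
    constructor
    · intro hB
      obtain ⟨χ, hχ⟩ := isPBlock_nonempty hB
      rcases hcase χ with h | h | h
      · exact Or.inl (isPBlock_eq_of_mem hB (e1 ▸ isPBlock_blockOf _) hχ h)
      · exact Or.inr (Or.inl (isPBlock_eq_of_mem hB (e2 ▸ isPBlock_blockOf _) hχ h))
      · exact Or.inr (Or.inr (isPBlock_eq_of_mem hB (e3 ▸ isPBlock_blockOf _) hχ h))
    · rintro (rfl | rfl | rfl)
      · exact e1 ▸ isPBlock_blockOf _
      · exact e2 ▸ isPBlock_blockOf _
      · exact e3 ▸ isPBlock_blockOf _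
  refine ⟨hiff, ?_, ?_⟩
  · have hset : {B : Set (IrrCharacter SL2) | IsPBlock M B} = {B1, B2, B3} := Set.ext fun B => by
      simp only [Set.mem_insert_iff, Set.mem_singleton_iff]; exact hiff B
    have h12 : B1 ≠ B2 := fun h => (h ▸ htriv : trivIrr ∈ B1) |> fun h' => htriv.2 h'
    have h13 : B1 ≠ B3 := fun h => hB3deg χm hχm (h ▸ hχm : χm ∈ B1)
    have h23 : B2 ≠ B3 := fun h => by
      have h' : (trivIrr : IrrCharacter SL2) ∈ B3 := h ▸ htriv
      have := h'.symm.trans htriv.1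
      exact hne trivIrr (by linear_combination -this / 2)
    show Nat.card ({B : Set (IrrCharacter SL2) | IsPBlock M B} : Set _) = 3
    rw [hset, Nat.card_coe_set_eq, Set.ncard_insert_of_notMem (by simp [h12, h13]), Set.ncard_pair h23]
  · intro P
    have key : ∀ (B : Set (IrrCharacter SL2)) (χ : IrrCharacter SL2), IsPBlock M B → χ ∈ B →
        (χ : SL2 → ℂ) 1 ≠ (Fintype.card F : ℂ) → IsDefectGroup p M B (P : Subgroup SL2) := by
      intro B χ hB hχ hdeg
      obtain ⟨D, hD⟩ := BlocksDefect.exists_isDefectGroup hM hB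
      obtain ⟨d, hd, hpd⟩ := not_dvd_degree (p := p) hodd hdeg
      have hdd : charDegree (χ : SL2 → ℂ) = d := by rw [charDegree, hd, Complex.natCast_re, Nat.floor_natCast]
      have hcard := BlkChar.Fong.natCard_defectGroup_of_not_dvd hM hB hχ (hdd ▸ hpd) hD
      obtain ⟨g, hg⟩ := MulAction.exists_smul_eq SL2 (Sylow.ofCard D hcard) P
      rw [← hg, Sylow.coe_subgroup_smul]
      exact BlocksDefect.isDefectGroup_map_conj hM hB hD g
    exact ⟨key B2 trivIrr ((hiff _).2 (Or.inr (Or.inl rfl))) htriv htriv.2,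
      key B3 χm ((hiff _).2 (Or.inr (Or.inr rfl))) hχm (hB3deg _ hχm)⟩

end Cfsg.Agent.SL2Tor
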