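import Cfsg.Agent.SL2Tor.Core
import Mathlib.LinearAlgebra.Matrix.GeneralLinearGroup.Card
import Mathlib.GroupTheory.Sylow

/-! Sylow 2-subgroups of `PGL₂(q)` for `q + 1` a power of two. -/

set_option autoImplicit false

namespace Cfsg.Agent.SL2Tor

open Matrix
open scoped Pointwise

variable {F : Type*} [Field F]

/-- A square root of `-1` among the `2 × 2` matrices. -/
def rotJ : Matrix (Fin 2) (Fin 2) F := !![0, -1; 1, 0]

theorem rotJ_mul_self : (rotJ : Matrix (Fin 2) (Fin 2) F) * rotJ = -1 := by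
  ext i j; fin_cases i <;> fin_cases j <;> simp [rotJ]

/-- The normaliser of the nonsplit torus attached to `rotJ`. -/
def rotNorm : Subgroup (GL (Fin 2) F) where
  carrier := {g | g.val * rotJ = rotJ * g.val ∨ g.val * rotJ = -(rotJ * g.val)}
  one_mem' := Or.inl (by simp)
  mul_mem' := by
    rintro g h (hg | hg) (hh | hh)
    · left; rw [Units.val_mul, Matrix.mul_assoc, hh, ← Matrix.mul_assoc, hg, Matrix.mul_assoc]
    · right; rw [Units.val_mul, Matrix.mul_assoc, hh, Matrix.mul_neg, ← Matrix.mul_assoc, hg, Matrix.mul_assoc]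
    · right; rw [Units.val_mul, Matrix.mul_assoc, hh, ← Matrix.mul_assoc, hg, Matrix.neg_mul, Matrix.mul_assoc]
    · left; rw [Units.val_mul, Matrix.mul_assoc, hh, Matrix.mul_neg, ← Matrix.mul_assoc, hg, Matrix.neg_mul,
        neg_neg, Matrix.mul_assoc]
  inv_mem' := by
    rintro g (hg | hg)
    · left
      calc g⁻¹.val * rotJ = g⁻¹.val * (rotJ * g.val) * g⁻¹.val := by simp [Matrix.mul_assoc]
        _ = g⁻¹.val * (g.val * rotJ) * g⁻¹.val := by rw [hg]
        _ = rotJ * g⁻¹.val := by simp [← Matrix.mul_assoc]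
    · right
      calc g⁻¹.val * rotJ = g⁻¹.val * (rotJ * g.val) * g⁻¹.val := by simp [Matrix.mul_assoc]
        _ = g⁻¹.val * (-(g.val * rotJ)) * g⁻¹.val := by rw [hg, neg_neg]
        _ = -(rotJ * g⁻¹.val) := by simp [← Matrix.mul_assoc]

theorem mem_rotNorm_iff (g : GL (Fin 2) F) :
    g ∈ (rotNorm : Subgroup (GL (Fin 2) F)) ↔
      g.val * rotJ = rotJ * g.val ∨ g.val * rotJ = -(rotJ * g.val) := Iff.rfl

theorem center_le_rotNorm : Subgroup.center (GL (Fin 2) F) ≤ rotNorm := by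
  rw [Matrix.GeneralLinearGroup.center_eq_range_scalar]
  rintro _ ⟨c, rfl⟩
  left
  exact Matrix.scalar_comm (c : F) (Commute.all _) _

theorem card_center_GL_two [Finite F] :
    Nat.card (Subgroup.center (GL (Fin 2) F)) = Nat.card F - 1 := by
  rw [Matrix.GeneralLinearGroup.center_eq_range_scalar]
  refine (Nat.card_congr (Equiv.ofInjective (fun u : Fˣ => Matrix.GeneralLinearGroup.scalar (Fin 2) u) ?_)).symm.trans
    (Nat.card_units F)
  intro s t h
  have e := congrArg (fun g : GL (Fin 2) F => g.val 0 0) h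
  exact Units.ext (by simpa [Matrix.GeneralLinearGroup.coe_scalar] using e)

variable (hF : ∀ x y : F, x ^ 2 + y ^ 2 = 0 → x = 0 ∧ y = 0)
include hF

theorem two_ne_zero_of_anisotropic : (2 : F) ≠ 0 := by
  intro h
  exact one_ne_zero (hF 1 1 (by linear_combination h)).1

theorem card_rotNorm [Finite F] :
    Nat.card (rotNorm : Subgroup (GL (Fin 2) F)) = (Nat.card F ^ 2 - 1) * 2 := by
  have h2 := two_ne_zero_of_anisotropic hF
  have hdet : ∀ (p : {p : F × F // p ≠ 0}) (s : Bool),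
      IsUnit (if s then !![p.1.1, -p.1.2; p.1.2, p.1.1] else
        (!![p.1.1, p.1.2; p.1.2, -p.1.1] : Matrix (Fin 2) (Fin 2) F)).det := by
    intro p s
    rw [isUnit_iff_ne_zero]
    intro e
    have : p.1.1 ^ 2 + p.1.2 ^ 2 = 0 := by
      cases s <;> simp [det_fin_two_of] at e
      · linear_combination -e
      · linear_combination e
    exact p.2 (Prod.ext (hF _ _ this).1 (hF _ _ this).2)
  obtain ⟨f, hf⟩ : ∃ f : {p : F × F // p ≠ 0} × Bool → GL (Fin 2) F, ∀ x, (f x).val =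
      if x.2 then !![x.1.1.1, -x.1.1.2; x.1.1.2, x.1.1.1] else !![x.1.1.1, x.1.1.2; x.1.1.2, -x.1.1.1] :=
    ⟨fun x => ((Matrix.isUnit_iff_isUnit_det _).2 (hdet x.1 x.2)).unit, fun x => IsUnit.unit_spec _⟩
  have hmem : ∀ x, f x ∈ (rotNorm : Subgroup (GL (Fin 2) F)) := by
    intro x
    rw [mem_rotNorm_iff, hf]
    rcases x with ⟨p, _ | _⟩
    · right; ext i j; fin_cases i <;> fin_cases j <;> simp [rotJ]
    · left; ext i j; fin_cases i <;> fin_cases j <;> simp [rotJ]
  have hbij : Function.Bijective (fun x => (⟨f x, hmem x⟩ : (rotNorm : Subgroup (GL (Fin 2) F)))) := by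
    constructor
    · rintro ⟨p, s⟩ ⟨p', s'⟩ h
      have h' := congrArg Units.val (congrArg Subtype.val h)
      simp only [hf] at h'
      have e00 := congrFun (congrFun h' 0) 0
      have e10 := congrFun (congrFun h' 1) 0
      have e11 := congrFun (congrFun h' 1) 1
      have e01 := congrFun (congrFun h' 0) 1
      rcases s with _ | _ <;> rcases s' with _ | _ <;> simp at e00 e10 e11 e01
      · exact Prod.ext (Subtype.ext (Prod.ext e00 e10)) rfl
      · exfalso
        have a1 : p.1.1 = 0 := (mul_eq_zero.1 (show (2 : F) * p.1.1 = 0 by linear_combination e00 - e11)).resolve_left h2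
        have a2 : p.1.2 = 0 := (mul_eq_zero.1 (show (2 : F) * p.1.2 = 0 by linear_combination e10 + e01)).resolve_left h2
        exact p.2 (Prod.ext a1 a2)
      · exfalso
        have a1 : p.1.1 = 0 := (mul_eq_zero.1 (show (2 : F) * p.1.1 = 0 by linear_combination e00 + e11)).resolve_left h2
        have a2 : p.1.2 = 0 := (mul_eq_zero.1 (show (2 : F) * p.1.2 = 0 by linear_combination e10 - e01)).resolve_left h2
        exact p.2 (Prod.ext a1 a2)
      · exact Prod.ext (Subtype.ext (Prod.ext e00 e10)) rfl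
    · rintro ⟨g, hg⟩
      have hne : ((g.val 0 0, g.val 1 0) : F × F) ≠ 0 := by
        intro e
        obtain ⟨e1, e2⟩ := Prod.mk_eq_zero.1 e
        apply g.det.ne_zero
        show g.val.det = 0
        rw [det_fin_two, e1, e2]; ring
      rcases hg with hg | hg
      · refine ⟨(⟨_, hne⟩, true), Subtype.ext (Units.ext ?_)⟩
        have e1 := congrFun (congrFun hg 0) 0
        have e2 := congrFun (congrFun hg 0) 1
        simp [rotJ, Matrix.mul_apply, Fin.sum_univ_two, Matrix.vecMul, dotProduct] at e1 e2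
        rw [hf]
        ext i j; fin_cases i <;> fin_cases j <;> simp
        · linear_combination -e1
        · linear_combination e2
      · refine ⟨(⟨_, hne⟩, false), Subtype.ext (Units.ext ?_)⟩
        have e1 := congrFun (congrFun hg 0) 0
        have e2 := congrFun (congrFun hg 0) 1
        simp [rotJ, Matrix.mul_apply, Fin.sum_univ_two, Matrix.vecMul, dotProduct] at e1 e2
        rw [hf]
        ext i j; fin_cases i <;> fin_cases j <;> simp
        · linear_combination -e1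
        · linear_combination e2
  classical
  haveI := Fintype.ofFinite F
  rw [← Nat.card_eq_of_bijective _ hbij, Nat.card_prod]
  congr 1
  · rw [Nat.card_eq_fintype_card, Fintype.card_subtype_compl, Fintype.card_subtype_eq,
      Fintype.card_prod, Nat.card_eq_fintype_card, pow_two]
  · simp

/-- Two conjugates of the torus normaliser share a nonscalar element. -/
theorem exists_common (P : GL (Fin 2) F) :
    ∃ g : GL (Fin 2) F, g ∉ Subgroup.center (GL (Fin 2) F) ∧ g ∈ (rotNorm : Subgroup (GL (Fin 2) F)) ∧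
      P⁻¹ * g * P ∈ (rotNorm : Subgroup (GL (Fin 2) F)) := by
  have h2 := two_ne_zero_of_anisotropic hF
  obtain ⟨K, hK⟩ : ∃ K : Matrix (Fin 2) (Fin 2) F, K = P.val * rotJ * P⁻¹.val := ⟨_, rfl⟩
  have htr : K.trace = 0 := by rw [hK, Matrix.trace_units_conj]; simp [rotJ, trace_fin_two]
  have hdt : K.det = 1 := by rw [hK, Matrix.det_units_conj]; simp [rotJ, det_fin_two_of]
  rw [trace_fin_two] at htr
  rw [det_fin_two] at hdt
  have key : ∀ g : GL (Fin 2) F, g.val * K = K * g.val ∨ g.val * K = -(K * g.val) →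
      P⁻¹ * g * P ∈ (rotNorm : Subgroup (GL (Fin 2) F)) := by
    intro g hg
    have e1 : (P⁻¹ * g * P).val * rotJ = P⁻¹.val * (g.val * K) * P.val := by
      simp [hK, Matrix.mul_assoc]
    have e2 : rotJ * (P⁻¹ * g * P).val = P⁻¹.val * (K * g.val) * P.val := by
      simp [hK, ← Matrix.mul_assoc]
    rw [mem_rotNorm_iff, e1, e2]
    rcases hg with h | h
    · left; rw [h]
    · right; rw [h]; simp
  have hns : ∀ g : GL (Fin 2) F, g.val 0 0 + g.val 1 1 = 0 → g ∉ Subgroup.center (GL (Fin 2) F) := by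
    intro g hg hc
    rw [Matrix.GeneralLinearGroup.center_eq_range_scalar] at hc
    obtain ⟨c, rfl⟩ := hc
    apply c.ne_zero
    simp at hg
    exact (mul_eq_zero.1 (show (2 : F) * c = 0 by linear_combination hg)).resolve_left h2
  by_cases h : K 0 0 = 0 ∧ K 0 1 + K 1 0 = 0
  · obtain ⟨g, hg⟩ : ∃ g : GL (Fin 2) F, g.val = rotJ :=
      ⟨((Matrix.isUnit_iff_isUnit_det _).2 (by simp [rotJ, det_fin_two_of])).unit, IsUnit.unit_spec _⟩
    refine ⟨g, hns g (by simp [hg, rotJ]), Or.inl (by rw [hg]), key g (Or.inl ?_)⟩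
    rw [hg, Matrix.eta_fin_two K, rotJ]
    have e11 : K 1 1 = 0 := by linear_combination htr - h.1
    ext i j; fin_cases i <;> fin_cases j <;> simp [h.1, e11]
    · linear_combination -h.2
    · linear_combination h.2
  · obtain ⟨g, hg⟩ : ∃ g : GL (Fin 2) F, g.val =
        !![-(K 0 1 + K 1 0), 2 * K 0 0; 2 * K 0 0, K 0 1 + K 1 0] := by
      refine ⟨((Matrix.isUnit_iff_isUnit_det _).2 ?_).unit, IsUnit.unit_spec _⟩
      rw [det_fin_two_of, isUnit_iff_ne_zero]
      intro e
      obtain ⟨u, v⟩ := hF (K 0 1 + K 1 0) (2 * K 0 0) (by linear_combination -e)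
      exact h ⟨(mul_eq_zero.1 v).resolve_left h2, u⟩
    refine ⟨g, hns g (by simp [hg]), Or.inr ?_, key g (Or.inr ?_)⟩
    · rw [hg]; ext i j; fin_cases i <;> fin_cases j <;> simp [rotJ]
    · have e11 : K 1 1 = -K 0 0 := by linear_combination htr
      rw [hg, Matrix.eta_fin_two K]
      ext i j; fin_cases i <;> fin_cases j <;> simp [e11] <;> ring

omit hF in
theorem conj_mem_map {G H : Type*} [Group G] [Group H] (f : G →* H) {S : Subgroup G} {g P : G}
    (h : P⁻¹ * g * P ∈ S) : f g ∈ MulAut.conj (f P) • S.map f :=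
  Subgroup.mem_pointwise_smul_iff_inv_smul_mem.2 ⟨P⁻¹ * g * P, h, by simp⟩

theorem pgl_sylow_inf_ne_bot [Finite F] {k : ℕ} (hk : Nat.card F + 1 = 2 ^ k) (hk2 : 3 ≤ Nat.card F)
    (H : Sylow 2 (GL (Fin 2) F ⧸ Subgroup.center (GL (Fin 2) F)))
    (x : GL (Fin 2) F ⧸ Subgroup.center (GL (Fin 2) F)) :
    (H : Subgroup (GL (Fin 2) F ⧸ Subgroup.center (GL (Fin 2) F))) ⊓
      MulAut.conj x • (H : Subgroup _) ≠ ⊥ := by
  obtain ⟨π, hπ⟩ : ∃ π : GL (Fin 2) F →* GL (Fin 2) F ⧸ Subgroup.center (GL (Fin 2) F),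
      π = QuotientGroup.mk' _ := ⟨_, rfl⟩
  have hsurj : Function.Surjective π := hπ ▸ QuotientGroup.mk'_surjective _
  have hker : π.ker ≤ rotNorm := by rw [hπ, QuotientGroup.ker_mk']; exact center_le_rotNorm
  obtain ⟨m, rfl⟩ : ∃ m, k = m + 2 := ⟨k - 2, by
    rcases k with _ | _ | k <;> simp_all <;> omega⟩
  have hN := card_rotNorm hF
  have hG : Nat.card (GL (Fin 2) F) = (Nat.card F ^ 2 - 1) * (Nat.card F ^ 2 - Nat.card F) := by
    haveI := Fintype.ofFinite F
    rw [Matrix.card_GL_field, Fin.prod_univ_two, Nat.card_eq_fintype_card]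
    simp
  have hidx := Subgroup.card_mul_index (rotNorm : Subgroup (GL (Fin 2) F))
  rw [hN, hG] at hidx
  have hidx2 : (rotNorm : Subgroup (GL (Fin 2) F)).index * 2 = Nat.card F * (Nat.card F - 1) := by
    have hpos : 0 < Nat.card F ^ 2 - 1 := by
      have : 3 * 3 ≤ Nat.card F ^ 2 := by rw [pow_two]; exact Nat.mul_le_mul hk2 hk2
      omega
    rw [Nat.mul_sub, mul_one, ← pow_two]
    refine Nat.eq_of_mul_eq_mul_left hpos ?_
    rw [← hidx]; ring
  obtain ⟨D, hD⟩ : ∃ D, D = (rotNorm : Subgroup (GL (Fin 2) F)).map π := ⟨_, rfl⟩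
  have hDi : D.index = (rotNorm : Subgroup (GL (Fin 2) F)).index := by
    rw [hD, Subgroup.index_map_eq _ hsurj hker]
  have hq : Nat.card F = 4 * 2 ^ m - 1 := by rw [pow_add] at hk; omega
  have hodd : ¬ 2 ∣ D.index := by
    rw [hDi]
    rintro ⟨i, hi⟩
    rw [hi, hq] at hidx2
    obtain ⟨t, ht⟩ : ∃ t, t + 1 = 2 ^ m := ⟨2 ^ m - 1, Nat.succ_pred_eq_of_pos (Nat.two_pow_pos m)⟩
    rw [← ht, show 4 * (t + 1) - 1 = 4 * t + 3 by omega, show 4 * t + 3 - 1 = 4 * t + 2 by omega,
      show (4 * t + 3) * (4 * t + 2) = 4 * (4 * (t * t) + 5 * t + 1) + 2 by ring] at hidx2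
    omega
  have hDc : Nat.card D = 2 * (Nat.card F + 1) := by
    have hPGL := Subgroup.card_eq_card_quotient_mul_card_subgroup (Subgroup.center (GL (Fin 2) F))
    rw [card_center_GL_two, ← Subgroup.card_mul_index D, hDi, hG] at hPGL
    obtain ⟨q, hq'⟩ : ∃ q, Nat.card F = q + 1 := ⟨Nat.card F - 1, by omega⟩
    rw [hq'] at hPGL hidx2 ⊢
    simp only [Nat.add_sub_cancel] at hPGL hidx2
    rw [show (q + 1) ^ 2 - 1 = q * (q + 2) by rw [Nat.sub_eq_iff_eq_add (Nat.one_le_pow _ _ (by omega))]; ring,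
      show (q + 1) ^ 2 - (q + 1) = (q + 1) * q by rw [Nat.sub_eq_iff_eq_add (Nat.le_self_pow two_ne_zero _)]; ring,
      ← hidx2] at hPGL
    have hi0 : 0 < (rotNorm : Subgroup (GL (Fin 2) F)).index * q := by
      refine Nat.mul_pos (Nat.pos_of_ne_zero ?_) (by omega)
      exact Subgroup.index_ne_zero_of_finite
    refine Nat.eq_of_mul_eq_mul_right hi0 ?_
    rw [← mul_assoc, ← hPGL]; ring
  have hDp : IsPGroup 2 D := IsPGroup.of_card (n := m + 2 + 1) (by rw [hDc, hk]; ring)
  obtain ⟨y, hy⟩ := MulAction.exists_smul_eq (GL (Fin 2) F ⧸ Subgroup.center (GL (Fin 2) F))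
    (hDp.toSylow hodd) H
  have hH : (H : Subgroup (GL (Fin 2) F ⧸ Subgroup.center (GL (Fin 2) F))) = MulAut.conj y • D := by
    rw [← hy, Sylow.coe_subgroup_smul, IsPGroup.toSylow_coe]
  obtain ⟨P, hP⟩ := hsurj (y⁻¹ * x * y)
  obtain ⟨g, hgc, hg, hgP⟩ := exists_common hF P
  rw [Subgroup.ne_bot_iff_exists_ne_one]
  have m1 : MulAut.conj y • π g ∈ MulAut.conj y • D :=
    Subgroup.smul_mem_pointwise_smul _ _ _ (hD ▸ ⟨g, hg, rfl⟩)
  have m2 : MulAut.conj y • π g ∈ MulAut.conj x • MulAut.conj y • D := by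
    rw [← mul_smul, ← map_mul, show x * y = y * (y⁻¹ * x * y) by group, map_mul, mul_smul, ← hP, hD]
    exact Subgroup.smul_mem_pointwise_smul _ _ _ (conj_mem_map π hgP)
  refine ⟨⟨MulAut.conj y • π g, Subgroup.mem_inf.2 ⟨hH ▸ m1, hH ▸ m2⟩⟩, ?_⟩
  rw [ne_eq, Subtype.ext_iff, Subgroup.coe_one]
  simp only [MulAut.smul_def]
  rw [MulEquiv.map_eq_one_iff, hπ, QuotientGroup.mk'_apply, QuotientGroup.eq_one_iff]
  exact hgc

end Cfsg.Agent.SL2Tor
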