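import Cfsg.Agent.SL2Tor.SylowTori
import Cfsg.Agent.SL2Tor.Mackey

/-! Non-split tori: conjugacy, ellipticity, and functions induced from them. -/

set_option autoImplicit false

namespace Cfsg.Agent.SL2Tor

open Matrix Cfsg

section generic

variable {G : Type*} [Group G] [Fintype G]

theorem extendByZero_central_mul (H : Subgroup G) (θ : H → ℂ) {z : G} (hz : z ∈ H) (a : ℂ)
    (hθ : ∀ h : H, θ (⟨z, hz⟩ * h) = a * θ h) (y : G) :
    extendByZero H θ (z * y) = a * extendByZero H θ y := by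
  by_cases hy : y ∈ H
  · rw [show extendByZero H θ y = θ ⟨y, hy⟩ from
        Subtype.val_injective.extend_apply θ (0 : G → ℂ) ⟨y, hy⟩,
      show extendByZero H θ (z * y) = θ (⟨z, hz⟩ * ⟨y, hy⟩) from
        Subtype.val_injective.extend_apply θ (0 : G → ℂ) ((⟨z, hz⟩ : H) * (⟨y, hy⟩ : H)), hθ]
  · rw [Cfsg.Agent.CharInd.extendByZero_notMem θ hy,
      Cfsg.Agent.CharInd.extendByZero_notMem θ (fun h => hy (by simpa using mul_mem (inv_mem hz) h)), mul_zero]

theorem indFun_central_mul (H : Subgroup G) (θ : H → ℂ) {z : G} (hz : z ∈ H)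
    (hzc : ∀ x : G, x * z = z * x) (a : ℂ) (hθ : ∀ h : H, θ (⟨z, hz⟩ * h) = a * θ h) (g : G) :
    indFun H θ (z * g) = a * indFun H θ g := by
  rw [Cfsg.Agent.CharInd.indFun_apply, Cfsg.Agent.CharInd.indFun_apply, mul_left_comm a]
  congr 1
  rw [Finset.mul_sum]
  refine Finset.sum_congr rfl fun x _ => ?_
  rw [show x⁻¹ * (z * g) * x = (x⁻¹ * z) * (g * x) by group, hzc x⁻¹,
    show z * x⁻¹ * (g * x) = z * (x⁻¹ * g * x) by group]
  exact extendByZero_central_mul H θ hz a hθ _

theorem mul_indFun (H : Subgroup G) (θ : H → ℂ) {f : G → ℂ} (hf : IsClassFunction G f) (g : G) :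
    f g * indFun H θ g = indFun H (fun h => f (h : G) * θ h) g := by
  rw [Cfsg.Agent.CharInd.indFun_apply, Cfsg.Agent.CharInd.indFun_apply, mul_left_comm (f g)]
  congr 1
  rw [Finset.mul_sum]
  refine Finset.sum_congr rfl fun x _ => ?_
  by_cases hy : x⁻¹ * g * x ∈ H
  · rw [show extendByZero H θ (x⁻¹ * g * x) = θ ⟨_, hy⟩ from
        Subtype.val_injective.extend_apply θ (0 : G → ℂ) ⟨_, hy⟩,
      show extendByZero H (fun h => f (h : G) * θ h) (x⁻¹ * g * x) = f (x⁻¹ * g * x) * θ ⟨_, hy⟩ from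
        Subtype.val_injective.extend_apply (fun h : H => f (h : G) * θ h) (0 : G → ℂ) ⟨_, hy⟩]
    have := hf g x⁻¹
    rw [inv_inv] at this
    rw [this]
  · rw [Cfsg.Agent.CharInd.extendByZero_notMem θ hy,
      Cfsg.Agent.CharInd.extendByZero_notMem (fun h : H => f (h : G) * θ h) hy, mul_zero]

end generic

variable {F : Type*} [Field F]

theorem IsTorus.map [Finite F] (h2 : (2 : F) ≠ 0) {T : Subgroup (Matrix.SpecialLinearGroup (Fin 2) F)}
    (hT : IsTorus T) (k : Matrix.SpecialLinearGroup (Fin 2) F) :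
    IsTorus (T.map (MulAut.conj k).toMonoidHom) := by
  have hinj : Function.Injective (MulAut.conj k).toMonoidHom := (MulAut.conj k).injective
  have hpm : ∀ z, MulAut.conj k z ∈ ({1, -1} : Set (Matrix.SpecialLinearGroup (Fin 2) F)) ↔
      z ∈ ({1, -1} : Set (Matrix.SpecialLinearGroup (Fin 2) F)) := fun z =>
    ⟨fun h => by
      have := pm_conj_mem h2 k⁻¹ _ h
      simpa [mul_assoc] using this, fun h => pm_conj_mem h2 k z h⟩
  obtain ⟨eC, eN⟩ := card_centralizer_map (MulAut.conj k) T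
  haveI := hT.cyclic
  refine ⟨isCyclic_of_surjective _ (Subgroup.equivMapOfInjective T _ hinj).surjective, ?_, ?_, ?_, ?_, ?_⟩
  · refine ⟨-1, hT.neg_one, ?_⟩
    show k * -1 * k⁻¹ = -1
    rw [Subgroup.mem_center_iff.1 ((center_eq_pm h2 _).2 (Or.inr rfl)) k, mul_inv_cancel_right]
  · rintro _ ⟨x, hx, rfl⟩ hxZ
    have hxZ' : x ∉ ({1, -1} : Set (Matrix.SpecialLinearGroup (Fin 2) F)) := fun h => hxZ ((hpm x).2 h)
    ext g
    obtain ⟨y, rfl⟩ := (MulAut.conj k).surjective g
    rw [show MulAut.conj k y = (MulAut.conj k).toMonoidHom y from rfl, Subgroup.mem_map_iff_mem hinj,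
      Subgroup.mem_centralizer_singleton_iff, ← map_mul, ← map_mul, hinj.eq_iff, ← hT.cent x hx hxZ',
      Subgroup.mem_centralizer_singleton_iff]
  · intro g hg
    rw [eN] at hg
    obtain ⟨y, hy, rfl⟩ := hg
    rcases hT.norm y hy with h | ⟨h, h'⟩
    · exact Or.inl ⟨y, h, rfl⟩
    · refine Or.inr ⟨?_, ?_⟩
      · have e : y * y = -1 := Subtype.ext (by
          rw [Matrix.SpecialLinearGroup.coe_mul, h, Matrix.SpecialLinearGroup.coe_neg,
            Matrix.SpecialLinearGroup.coe_one])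
        have e' : (MulAut.conj k).toMonoidHom y * (MulAut.conj k).toMonoidHom y = -1 := by
          rw [← map_mul, e]
          show k * -1 * k⁻¹ = -1
          rw [Subgroup.mem_center_iff.1 ((center_eq_pm h2 _).2 (Or.inr rfl)) k, mul_inv_cancel_right]
        rw [← Matrix.SpecialLinearGroup.coe_mul, e', Matrix.SpecialLinearGroup.coe_neg,
          Matrix.SpecialLinearGroup.coe_one]
      · rintro _ ⟨t, ht, rfl⟩
        rw [← map_inv, ← map_mul, ← map_mul, h' t ht, map_inv]
  · obtain ⟨w, hw, hwT⟩ := hT.outside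
    exact ⟨(MulAut.conj k).toMonoidHom w, eN ▸ ⟨w, hw, rfl⟩, fun h => hwT ((Subgroup.mem_map_iff_mem hinj).1 h)⟩
  · obtain ⟨x, hx, hxZ⟩ := hT.nontriv
    exact ⟨(MulAut.conj k).toMonoidHom x, ⟨x, hx, rfl⟩, fun h => hxZ ((hpm x).1 h)⟩

variable [Fintype F]

theorem pow_eq_one_noncentral (hodd : Odd (Fintype.card F)) {C : Subgroup (Matrix.SpecialLinearGroup (Fin 2) F)}
    (hcard : Nat.card C = Fintype.card F + 1) {c : Matrix.SpecialLinearGroup (Fin 2) F} (hc : c ∈ C)
    (hZ : c ∉ ({1, -1} : Set (Matrix.SpecialLinearGroup (Fin 2) F))) :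
    (c : Matrix (Fin 2) (Fin 2) F).trace ^ 2 ≠ 4 ∧
      ∀ (l : F) (v : Fin 2 → F), v ≠ 0 → (c : Matrix (Fin 2) (Fin 2) F).mulVec v ≠ l • v := by
  have h2 := two_ne_zero_of_odd_card hodd
  have hpow : c ^ (Fintype.card F + 1) = 1 := by
    rw [← hcard]; exact congrArg Subtype.val (pow_card_eq_one' (x := (⟨c, hc⟩ : C)))
  have h1 : (c : Matrix (Fin 2) (Fin 2) F).trace ^ 2 ≠ 4 := by
    intro ht
    obtain ⟨p, hp⟩ := CharP.exists F
    haveI := hp
    obtain ⟨n, hpr, hn⟩ := FiniteField.card F p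
    haveI : Fact p.Prime := ⟨hpr⟩
    obtain ⟨s, hs⟩ := pow_char_of_trace p c ht
    have hs2 : s ^ 2 = 1 := by
      have := congrArg Matrix.det hs
      rw [Matrix.det_pow, c.2, one_pow, Matrix.det_smul, Matrix.det_one, mul_one, Fintype.card_fin] at this
      exact this.symm
    have h2p : c ^ (p * 2) = 1 := Subtype.ext (by
      rw [Matrix.SpecialLinearGroup.coe_pow, pow_mul, hs, smul_pow, one_pow, hs2, one_smul,
        Matrix.SpecialLinearGroup.coe_one])
    have hg : Nat.gcd (p * 2) (Fintype.card F + 1) ∣ 2 := by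
      rw [Nat.Coprime.gcd_mul_left_cancel]
      · exact Nat.gcd_dvd_left _ _
      · rw [Nat.Prime.coprime_iff_not_dvd hpr]
        intro hd
        exact hpr.not_dvd_one ((Nat.dvd_add_right (hn ▸ dvd_pow_self p n.pos.ne')).1 hd)
    have := pow_gcd_eq_one.2 ⟨h2p, hpow⟩
    obtain ⟨k, hk⟩ := hg
    exact hZ ((sl_eq_pm_of_sq h2 c).1 ((pow_two c).symm.trans ((congrArg (c ^ ·) hk).trans
      (by simp only [pow_mul, this, one_pow]))))
  refine ⟨h1, fun l v hv he => h1 ?_⟩
  have hk : ∀ k : ℕ, ((c : Matrix (Fin 2) (Fin 2) F) ^ k).mulVec v = l ^ k • v := by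
    intro k
    induction k with
    | zero => simp
    | succ k ih => rw [pow_succ, ← Matrix.mulVec_mulVec, he, Matrix.mulVec_smul, ih, smul_smul, pow_succ, mul_comm]
  have hl : l ^ (Fintype.card F + 1) = 1 := by
    apply smul_left_injective F hv
    show l ^ (Fintype.card F + 1) • v = (1 : F) • v
    rw [← hk, ← Matrix.SpecialLinearGroup.coe_pow, hpow, Matrix.SpecialLinearGroup.coe_one, Matrix.one_mulVec,
      one_smul]
  have hl0 : l ≠ 0 := by
    rintro rfl
    rw [zero_pow (Nat.succ_ne_zero _)] at hl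
    exact zero_ne_one hl
  have hl2 : l ^ 2 = 1 := by
    rw [show Fintype.card F + 1 = (Fintype.card F - 1) + 2 by have := Fintype.one_lt_card (α := F); omega,
      pow_add, FiniteField.pow_card_sub_one_eq_one l hl0, one_mul] at hl
    exact hl
  have hdet : ((c : Matrix (Fin 2) (Fin 2) F) - l • 1).det = 0 :=
    Matrix.exists_mulVec_eq_zero_iff.1 ⟨v, hv, by
      rw [Matrix.sub_mulVec, he, Matrix.smul_mulVec, Matrix.one_mulVec, sub_self]⟩
  have hd := c.2
  rw [det_fin_two] at hd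
  rw [det_fin_two] at hdet
  simp only [Matrix.sub_apply, Matrix.smul_apply, Matrix.one_apply_eq, smul_eq_mul, mul_one,
    Matrix.one_apply_ne (show (0 : Fin 2) ≠ 1 by decide),
    Matrix.one_apply_ne (show (1 : Fin 2) ≠ 0 by decide), mul_zero, sub_zero] at hdet
  have e : (c : Matrix (Fin 2) (Fin 2) F).trace * l = 2 := by
    rw [trace_fin_two]; linear_combination hd - hdet + hl2
  linear_combination ((c : Matrix (Fin 2) (Fin 2) F).trace * l + 2) * e -
    (c : Matrix (Fin 2) (Fin 2) F).trace ^ 2 * hl2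

theorem isTorus_of_cyclic (hodd : Odd (Fintype.card F)) (C : Subgroup (Matrix.SpecialLinearGroup (Fin 2) F))
    (hC : IsCyclic C) (hcard : Nat.card C = Fintype.card F + 1) : IsTorus C := by
  have h2 := two_ne_zero_of_odd_card hodd
  obtain ⟨⟨c, hc⟩, hgen⟩ := hC.exists_generator
  have hord : orderOf c = Fintype.card F + 1 := by
    rw [← hcard, ← Subgroup.orderOf_mk c hc, orderOf_eq_card_of_forall_mem_zpowers hgen]
  have hq := Fintype.one_lt_card (α := F)
  have hZ : c ∉ ({1, -1} : Set (Matrix.SpecialLinearGroup (Fin 2) F)) := fun h => by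
    have := orderOf_le_of_pow_eq_one two_pos ((pow_two c).trans ((sl_eq_pm_of_sq h2 c).2 h))
    omega
  obtain ⟨T, hT, hTc, hconj⟩ := exists_nonsplit_isTorus (F := F) hodd
  obtain ⟨k, hk⟩ := hconj c (pow_eq_one_noncentral hodd hcard hc hZ).2
  have hle : C ≤ T.map (MulAut.conj k⁻¹).toMonoidHom := by
    intro z hz
    obtain ⟨n, hn⟩ := Subgroup.mem_zpowers_iff.1 (hgen ⟨z, hz⟩)
    have hn' : c ^ n = z := congrArg Subtype.val hn
    rw [← hn']
    refine zpow_mem ?_ n
    exact ⟨k * c * k⁻¹, hk, by show k⁻¹ * (k * c * k⁻¹) * k⁻¹⁻¹ = c; group⟩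
  have he : C = T.map (MulAut.conj k⁻¹).toMonoidHom := by
    refine Subgroup.eq_of_le_of_card_ge hle ?_
    rw [← Nat.card_congr (Subgroup.equivMapOfInjective T (MulAut.conj k⁻¹).toMonoidHom
      (MulAut.conj k⁻¹).injective).toEquiv, hTc, hcard]
  rw [he]
  exact hT.map h2 k⁻¹

theorem indFun_torus_elliptic [DecidableEq F] (hodd : Odd (Fintype.card F))
    {C : Subgroup (Matrix.SpecialLinearGroup (Fin 2) F)} (hT : IsTorus C) (θ : C →* ℂˣ) (c : C)
    (hc : (c : Matrix.SpecialLinearGroup (Fin 2) F) ∉ ({1, -1} : Set (Matrix.SpecialLinearGroup (Fin 2) F))) :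
    indFun C (fun x => ((θ x : ℂˣ) : ℂ)) (c : Matrix.SpecialLinearGroup (Fin 2) F) =
      (θ c : ℂ) + ((θ c)⁻¹ : ℂˣ) := by
  classical
  have h2 := two_ne_zero_of_odd_card hodd
  obtain ⟨N, hN⟩ : ∃ N, N = Subgroup.normalizer (C : Set (Matrix.SpecialLinearGroup (Fin 2) F)) := ⟨_, rfl⟩
  have hNc : Nat.card N = 2 * Nat.card C := hN ▸ hT.card_normalizer h2
  have key : ∀ x : Matrix.SpecialLinearGroup (Fin 2) F,
      extendByZero C (fun x => ((θ x : ℂˣ) : ℂ)) (x⁻¹ * c * x) =
        if x ∈ C then (θ c : ℂ) else if x ∈ N then (((θ c)⁻¹ : ℂˣ) : ℂ) else 0 := by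
    intro x
    have hval : ∀ (y : C), extendByZero C (fun x => ((θ x : ℂˣ) : ℂ)) (y : Matrix.SpecialLinearGroup (Fin 2) F) =
        (θ y : ℂ) := fun y =>
      Subtype.val_injective.extend_apply (fun x : C => ((θ x : ℂˣ) : ℂ))
        (0 : Matrix.SpecialLinearGroup (Fin 2) F → ℂ) y
    by_cases hx : x ∈ C
    · rw [if_pos hx, mul_assoc, hT.comm _ c.2 x hx, inv_mul_cancel_left, hval]
    by_cases hxN : x ∈ N
    · rw [if_neg hx, if_pos hxN]
      have e : x⁻¹ * (c : Matrix.SpecialLinearGroup (Fin 2) F) * x = ((c⁻¹ : C) : _) := by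
        have := ((hT.norm x (hN ▸ hxN)).resolve_left hx).2 _ (inv_mem c.2)
        rw [inv_inv] at this
        rw [Subgroup.coe_inv]
        nth_rw 1 [← this]
        group
      rw [e, hval, map_inv]
    · rw [if_neg hx, if_neg hxN]
      refine Cfsg.Agent.CharInd.extendByZero_notMem _ fun h => hxN ?_
      have hnZ : x⁻¹ * (c : Matrix.SpecialLinearGroup (Fin 2) F) * x ∉
          ({1, -1} : Set (Matrix.SpecialLinearGroup (Fin 2) F)) := fun h' =>
        hc (by simpa [mul_assoc] using pm_conj_mem h2 x _ h')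
      rw [hN, Subgroup.mem_normalizer_iff]
      intro t
      conv_lhs => rw [← hT.cent _ h hnZ]
      conv_rhs => rw [← hT.cent _ c.2 hc]
      rw [Subgroup.mem_centralizer_singleton_iff, Subgroup.mem_centralizer_singleton_iff,
        show x * t * x⁻¹ * c = x * (t * (x⁻¹ * c * x)) * x⁻¹ by group,
        show (c : Matrix.SpecialLinearGroup (Fin 2) F) * (x * t * x⁻¹) = x * ((x⁻¹ * c * x) * t) * x⁻¹ by group,
        mul_left_inj, mul_right_inj]
  rw [Cfsg.Agent.CharInd.indFun_apply, Finset.sum_congr rfl (fun x _ => key x), Finset.sum_ite, Finset.sum_ite,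
    Finset.sum_const, Finset.sum_const, Finset.sum_const_zero, add_zero, nsmul_eq_mul, nsmul_eq_mul]
  have h1 : (Finset.univ.filter (fun x => x ∈ C)).card = Nat.card C := by
    rw [Nat.card_eq_fintype_card, Fintype.card_subtype]
  have h3 : ((Finset.univ.filter (fun x => x ∉ C)).filter (fun x => x ∈ N)).card = Nat.card C := by
    have e : (Finset.univ.filter (fun x => x ∉ C)).filter (fun x => x ∈ N) =
        Finset.univ.filter (fun x => x ∈ N) \ Finset.univ.filter (fun x => x ∈ C) := by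
      ext x; simp [and_comm]
    rw [e, Finset.card_sdiff_of_subset (fun x hx => by
        simp only [Finset.mem_filter, Finset.mem_univ, true_and] at hx ⊢
        exact hN ▸ Subgroup.le_normalizer hx), h1, ← Fintype.card_subtype, ← Nat.card_eq_fintype_card, hNc]
    omega
  rw [h1, h3]
  have hne := Cfsg.Agent.CharInd.natCard_subgroup_ne_zero C
  field_simp

end Cfsg.Agent.SL2Tor
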