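import Mathlib.GroupTheory.Sylow
import Mathlib.Tactic
import Mathlib.GroupTheory.GroupAction.CardCommute
import Mathlib.GroupTheory.SpecificGroups.Cyclic

/-! Abelian subgroups with an inverting element outside: class numbers, normalisers and Sylow subgroups. -/

set_option autoImplicit false

namespace Cfsg.Agent.SL2Tor

open scoped Pointwise

universe u
variable {G : Type u} [Group G]

theorem card_classes_inverting [Finite G] (T : Subgroup G) (hab : ∀ s ∈ T, ∀ t ∈ T, s * t = t * s)
    (hidx : T.index = 2) (hinv : ∀ g : G, g ∉ T → ∀ t ∈ T, g * t * g⁻¹ = t⁻¹)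
    (h2 : Nat.card {t : T // t * t = 1} = 2) :
    2 * Nat.card (ConjClasses G) = Nat.card T + 6 := by
  classical
  haveI := Fintype.ofFinite G
  have hG : Nat.card G = 2 * Nat.card T := by rw [← Subgroup.card_mul_index T, hidx, mul_comm]
  obtain ⟨w, hw⟩ : ∃ w, w ∉ T := by
    by_contra h
    push Not at h
    rw [(Subgroup.eq_top_iff' T).2 h, Subgroup.index_top] at hidx
    omega
  have hsq : ∀ g ∉ T, ∀ t ∈ T, (g * t = t * g ↔ t * t = 1) := by
    intro g hg t ht
    have e := hinv g hg t ht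
    rw [mul_inv_eq_iff_eq_mul] at e
    rw [e, mul_left_inj, inv_eq_iff_mul_eq_one]
  have c1 : ∀ t ∈ T, t * t = 1 → Nat.card {h : G // Commute t h} = Nat.card G := by
    intro t ht ht2
    refine Nat.card_congr (Equiv.subtypeUnivEquiv fun h => ?_)
    by_cases hh : h ∈ T
    · exact hab t ht h hh
    · exact ((hsq h hh t ht).2 ht2).symm
  have c2 : ∀ t ∈ T, t * t ≠ 1 → Nat.card {h : G // Commute t h} = Nat.card T := by
    intro t ht ht2
    refine Nat.card_congr (Equiv.subtypeEquivRight fun h => ⟨fun hc => ?_, fun hh => hab t ht h hh⟩)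
    by_contra hh
    exact ht2 ((hsq h hh t ht).1 hc.symm)
  have c3 : ∀ g, g ∉ T → Nat.card {h : G // Commute g h} = 4 := by
    intro g hg
    have hmem : ∀ x : {t : T // t * t = 1} × Bool,
        Commute g ((x.1.1 : G) * if x.2 then g else 1) := by
      intro x
      refine Commute.mul_right ((hsq g hg _ x.1.1.2).2 (congrArg Subtype.val x.1.2)) ?_
      split
      · exact Commute.refl g
      · exact Commute.one_right g
    rw [← Nat.card_eq_of_bijective (fun x => (⟨_, hmem x⟩ : {h : G // Commute g h})) ⟨?_, ?_⟩,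
      Nat.card_prod, h2]
    · simp
    · rintro ⟨⟨s, hs⟩, a⟩ ⟨⟨t, ht⟩, b⟩ e
      have e' := congrArg Subtype.val e
      rcases a with _ | _ <;> rcases b with _ | _ <;> simp at e'
      · subst e'; rfl
      · exact absurd (show g ∈ T by
          rw [show g = (t : G)⁻¹ * s by rw [e']; group]; exact mul_mem (inv_mem t.2) s.2) hg
      · exact absurd (show g ∈ T by
          rw [show g = (s : G)⁻¹ * t by rw [← e']; group]; exact mul_mem (inv_mem s.2) t.2) hg
      · subst e'; rfl
    · rintro ⟨h, hh⟩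
      by_cases hT : h ∈ T
      · exact ⟨(⟨⟨h, hT⟩, Subtype.ext ((hsq g hg h hT).1 hh)⟩, false), Subtype.ext (by simp)⟩
      · have hgT : h * g⁻¹ ∈ T := by
          rw [Subgroup.mul_mem_iff_of_index_two hidx]
          simp [hT, hg]
        exact ⟨(⟨⟨_, hgT⟩, Subtype.ext ((hsq g hg _ hgT).1 (hh.mul_right (Commute.refl g).inv_right))⟩, true),
          Subtype.ext (by simp)⟩
  have h := card_comm_eq_card_conjClasses_mul_card G
  have e : {p : G × G // Commute p.1 p.2} ≃ Σ g : G, {h : G // Commute g h} :=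
    { toFun := fun p => ⟨p.1.1, p.1.2, p.2⟩
      invFun := fun p => ⟨(p.1, p.2.1), p.2.2⟩
      left_inv := fun _ => rfl
      right_inv := fun _ => rfl }
  rw [Nat.card_congr e, Nat.card_sigma] at h
  obtain ⟨A, hA⟩ : ∃ A : Finset G, A = Finset.univ.filter (fun g => g ∈ T ∧ g * g = 1) := ⟨_, rfl⟩
  obtain ⟨B, hB⟩ : ∃ B : Finset G, B = Finset.univ.filter (fun g => g ∈ T ∧ g * g ≠ 1) := ⟨_, rfl⟩
  obtain ⟨C, hC⟩ : ∃ C : Finset G, C = Finset.univ.filter (fun g => g ∉ T) := ⟨_, rfl⟩
  have hAB : A.card + B.card = Nat.card T := by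
    rw [← Finset.card_union_of_disjoint (by
      rw [hA, hB, Finset.disjoint_filter]; intro x _ h1 h2; exact h2.2 h1.2), hA, hB, ← Finset.filter_or,
      Nat.card_eq_fintype_card, Fintype.card_subtype]
    congr 1; ext x; simp; tauto
  have hAc : A.card = 2 := by
    rw [← h2, hA, ← Fintype.card_subtype, ← Nat.card_eq_fintype_card]
    exact Nat.card_congr
      { toFun := fun x => ⟨⟨x.1, x.2.1⟩, Subtype.ext x.2.2⟩
        invFun := fun x => ⟨x.1.1, x.1.2, congrArg Subtype.val x.2⟩
        left_inv := fun _ => rfl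
        right_inv := fun _ => rfl }
  have hCc : C.card = Nat.card T := by
    have := Finset.card_filter_add_card_filter_not (s := (Finset.univ : Finset G)) (fun g => g ∈ T)
    rw [Finset.card_univ, ← Nat.card_eq_fintype_card, hG, ← Fintype.card_subtype, ← hC,
      ← Nat.card_eq_fintype_card] at this
    omega
  have hsplit : ∑ g : G, Nat.card {h : G // Commute g h} =
      A.card * Nat.card G + B.card * Nat.card T + C.card * 4 := by
    rw [← Finset.sum_filter_add_sum_filter_not Finset.univ (fun g => g ∈ T), ← hC,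
      ← Finset.sum_filter_add_sum_filter_not (Finset.univ.filter (fun g => g ∈ T)) (fun g => g * g = 1),
      Finset.filter_filter, Finset.filter_filter, ← hA, ← hB,
      Finset.sum_eq_card_nsmul (s := A) (fun g hg => by
        rw [hA, Finset.mem_filter] at hg; exact c1 g hg.2.1 hg.2.2),
      Finset.sum_eq_card_nsmul (s := B) (fun g hg => by
        rw [hB, Finset.mem_filter] at hg; exact c2 g hg.2.1 hg.2.2),
      Finset.sum_eq_card_nsmul (s := C) (fun g hg => by
        rw [hC, Finset.mem_filter] at hg; exact c3 g hg.2), smul_eq_mul, smul_eq_mul, smul_eq_mul]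
  rw [hsplit, hAc, hCc, hG] at h
  obtain ⟨b, hb⟩ : ∃ b, B.card = b := ⟨_, rfl⟩
  rw [hb, hAc] at hAB
  rw [hb, ← hAB] at h
  rw [← hAB]
  refine Nat.eq_of_mul_eq_mul_right (show 0 < 2 + b by omega) ?_
  linarith [h]

/-- The centraliser and the normaliser of a subgroup of a self-centralising abelian group. -/
theorem centralizer_normalizer_of_le {T P : Subgroup G} (Z : Set G)
    (hZ : ∀ g z : G, z ∈ Z → g * z * g⁻¹ ∈ Z) (hab : ∀ s ∈ T, ∀ t ∈ T, s * t = t * s)
    (hcent : ∀ x ∈ T, x ∉ Z → Subgroup.centralizer ({x} : Set G) = T)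
    (hN : ∀ g ∈ Subgroup.normalizer (T : Set G), g ∈ T ∨ ∀ t ∈ T, g * t * g⁻¹ = t⁻¹)
    (hP : P ≤ T) {x : G} (hx : x ∈ P) (hxZ : x ∉ Z) :
    Subgroup.centralizer (P : Set G) = T ∧ Subgroup.normalizer (P : Set G) = Subgroup.normalizer (T : Set G) := by
  have hxT := hP hx
  have hfix : ∀ g ∈ Subgroup.normalizer (T : Set G), ∀ p ∈ P, g * p * g⁻¹ ∈ P := by
    intro g hg p hp
    rcases hN g hg with h | h
    · rw [hab g h p (hP hp), mul_inv_cancel_right]; exact hp
    · rw [h p (hP hp)]; exact inv_mem hp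
  refine ⟨le_antisymm ?_ ?_, le_antisymm ?_ ?_⟩
  · intro g hg
    rw [← hcent x hxT hxZ, Subgroup.mem_centralizer_singleton_iff]
    exact (Subgroup.mem_centralizer_iff.1 hg x hx).symm
  · intro t ht
    rw [Subgroup.mem_centralizer_iff]
    exact fun p hp => hab p (hP hp) t ht
  · intro g hg
    have hgx : g * x * g⁻¹ ∈ P := (Subgroup.mem_normalizer_iff.1 hg x).1 hx
    have hgxZ : g * x * g⁻¹ ∉ Z := fun h => hxZ (by simpa [mul_assoc] using hZ g⁻¹ _ h)
    rw [Subgroup.mem_normalizer_iff]
    intro t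
    conv_lhs => rw [← hcent x hxT hxZ]
    conv_rhs => rw [← hcent _ (hP hgx) hgxZ]
    rw [Subgroup.mem_centralizer_singleton_iff, Subgroup.mem_centralizer_singleton_iff]
    rw [show g * t * g⁻¹ * (g * x * g⁻¹) = g * (t * x) * g⁻¹ by group,
      show g * x * g⁻¹ * (g * t * g⁻¹) = g * (x * t) * g⁻¹ by group, mul_left_inj, mul_right_inj]
  · intro g hg
    rw [Subgroup.mem_normalizer_iff]
    refine fun p => ⟨hfix g hg p, fun h => ?_⟩
    simpa [mul_assoc] using hfix g⁻¹ (inv_mem hg) _ h

theorem card_centralizer_map (f : G ≃* G) (Q : Subgroup G) :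
    Subgroup.centralizer ((Q.map f.toMonoidHom : Subgroup G) : Set G) =
        (Subgroup.centralizer (Q : Set G)).map f.toMonoidHom ∧
      Subgroup.normalizer ((Q.map f.toMonoidHom : Subgroup G) : Set G) =
        (Subgroup.normalizer (Q : Set G)).map f.toMonoidHom := by
  have hm : ∀ (S : Subgroup G) (y : G), f y ∈ S.map f.toMonoidHom ↔ y ∈ S := fun S y => by
    simp
  constructor
  · ext g
    obtain ⟨y, rfl⟩ := f.surjective g
    rw [hm, Subgroup.mem_centralizer_iff, Subgroup.mem_centralizer_iff]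
    constructor
    · intro h q hq
      exact f.injective (by rw [map_mul, map_mul]; exact h (f q) ((hm Q q).2 hq))
    · rintro h _ ⟨q, hq, rfl⟩
      show f q * f y = f y * f q
      rw [← map_mul, ← map_mul, h q hq]
  · ext g
    obtain ⟨y, rfl⟩ := f.surjective g
    rw [hm, Subgroup.mem_normalizer_iff, Subgroup.mem_normalizer_iff]
    constructor
    · intro h q
      have := h (f q)
      rw [← map_inv, ← map_mul, ← map_mul] at this
      exact ((hm Q q).symm.trans this).trans (hm Q _)
    · intro h z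
      obtain ⟨q, rfl⟩ := f.surjective z
      rw [← map_inv, ← map_mul, ← map_mul]
      exact (hm Q q).trans ((h q).trans (hm Q _).symm)

theorem sylow_eq_conj_le [Finite G] {p : ℕ} [Fact p.Prime] (T : Subgroup G)
    (hfac : (Nat.card T).factorization p = (Nat.card G).factorization p) (P : Sylow p G) :
    ∃ (g : G) (Q : Subgroup G), Q ≤ T ∧ Nat.card Q = p ^ (Nat.card G).factorization p ∧
      (P : Subgroup G) = Q.map (MulAut.conj g).toMonoidHom := by
  obtain ⟨Q₀⟩ : Nonempty (Sylow p T) := inferInstance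
  obtain ⟨Q, hQ⟩ : ∃ Q, Q = (Q₀ : Subgroup T).map T.subtype := ⟨_, rfl⟩
  have hQc : Nat.card Q = p ^ (Nat.card G).factorization p := by
    rw [hQ, Subgroup.card_subtype, Sylow.card_eq_multiplicity, hfac]
  obtain ⟨g, hg⟩ := MulAction.exists_smul_eq G (Sylow.ofCard Q hQc) P
  refine ⟨g, Q, hQ ▸ Subgroup.map_subtype_le _, hQc, ?_⟩
  rw [← hg, Sylow.coe_subgroup_smul, Sylow.coe_ofCard]
  rfl

end Cfsg.Agent.SL2Tor
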